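import Mathlib
import Cfsg.Agent.H67.DQHom
import Cfsg.Agent.H5.Frobenius

/-!
`SL(2,3)` from a quaternion group with an automorphism of order three.
-/

namespace H5

/-- Relations of `Q8 : 3` on the generators `a`, `t`, with `b = t a t⁻¹`. -/
def SL23Rel {G : Type*} [Group G] (a t : G) : Prop :=
  orderOf a = 4 ∧ orderOf t = 3 ∧ t * a * t⁻¹ ∉ Subgroup.zpowers a ∧
    (t * a * t⁻¹) * (t * a * t⁻¹) = a * a ∧
    (t * a * t⁻¹) * a * (t * a * t⁻¹)⁻¹ = a⁻¹ ∧
    t * (t * a * t⁻¹) * t⁻¹ = a * (t * a * t⁻¹)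

theorem card_le_of_sl23Rel {G : Type*} [Group G] {a t : G} (h : SL23Rel a t) :
    Nat.card (Subgroup.closure ({a, t} : Set G)) ≤ 24 ∧
      Finite (Subgroup.closure ({a, t} : Set G)) := by
  obtain ⟨ha, ht, hb, hb2, hba, htb⟩ := h
  set b := t * a * t⁻¹ with hbd
  obtain ⟨e⟩ := H67.quat_iso (k := 2) a b (by rw [hb2, sq]) hba (by rw [ha]) hb
  set Q := Subgroup.closure ({a, b} : Set G) with hQ
  have haQ : a ∈ Q := Subgroup.subset_closure (Or.inl rfl)
  have hbQ : b ∈ Q := Subgroup.subset_closure (Or.inr rfl)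
  haveI : Finite Q := Finite.of_equiv _ e.toEquiv.symm
  have hQc : Nat.card Q = 8 := by
    rw [Nat.card_congr e.toEquiv, Nat.card_eq_fintype_card, QuaternionGroup.card]
  -- `t` normalises `Q`
  have hle : Q.map (MulAut.conj t).toMonoidHom ≤ Q := by
    rw [hQ, MonoidHom.map_closure, Subgroup.closure_le]
    rintro _ ⟨x, hx, rfl⟩
    rcases hx with rfl | hx
    · exact hbQ
    · rw [Set.mem_singleton_iff] at hx
      subst hx
      show t * b * t⁻¹ ∈ Q
      rw [htb]; exact Q.mul_mem haQ hbQ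
  have htN : t ∈ Subgroup.normalizer (Q : Set G) := by
    have hcard : Nat.card (Q.map (MulAut.conj t).toMonoidHom) = Nat.card Q :=
      Subgroup.card_map_of_injective (MulAut.conj t).injective
    have heq := Subgroup.eq_of_le_of_card_ge hle hcard.ge
    rw [Subgroup.mem_normalizer_iff]
    intro z
    have h4 : t * z * t⁻¹ ∈ Q.map (MulAut.conj t).toMonoidHom ↔ z ∈ Q :=
      Subgroup.mem_map_iff_mem (MulAut.conj t).injective
    rw [heq] at h4; exact h4.symm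
  have hTN : Subgroup.zpowers t ≤ Subgroup.normalizer (Q : Set G) := Subgroup.zpowers_le.mpr htN
  haveI : Finite (Subgroup.zpowers t) := by
    refine Nat.finite_of_card_ne_zero ?_
    rw [Nat.card_zpowers, ht]; norm_num
  set S := Q ⊔ Subgroup.zpowers t with hS
  have hcl : Subgroup.closure ({a, t} : Set G) ≤ S := by
    rw [Subgroup.closure_le]
    rintro x (rfl | hx)
    · exact Subgroup.mem_sup_left haQ
    · rw [Set.mem_singleton_iff] at hx; subst hx
      exact Subgroup.mem_sup_right (Subgroup.mem_zpowers _)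
  have hsurj : Function.Surjective
      (fun x : Q × Subgroup.zpowers t => (⟨(x.1 : G) * x.2,
        Subgroup.mul_mem_sup x.1.2 x.2.2⟩ : S)) := by
    rintro ⟨x, hx⟩
    rw [hS, ← SetLike.mem_coe, Subgroup.coe_mul_of_right_le_normalizer_left _ _ hTN] at hx
    obtain ⟨q, hq, s, hs, rfl⟩ := Set.mem_mul.mp hx
    exact ⟨(⟨q, hq⟩, ⟨s, hs⟩), rfl⟩
  haveI : Finite S := Finite.of_surjective _ hsurj
  have hfin : Finite (Subgroup.closure ({a, t} : Set G)) :=
    Finite.of_injective _ (Subgroup.inclusion_injective hcl)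
  refine ⟨(Nat.card_le_card_of_injective _ (Subgroup.inclusion_injective hcl)).trans ?_, hfin⟩
  refine (Nat.card_le_card_of_surjective _ hsurj).trans ?_
  rw [Nat.card_prod, hQc, Nat.card_zpowers, ht]

/-- Two groups of order `24` generated by elements with the relations of `Q8 : 3` are
isomorphic. -/
theorem mulEquiv_of_sl23Rel {G₁ G₂ : Type*} [Group G₁] [Group G₂] [Finite G₁] [Finite G₂]
    {a₁ t₁ : G₁} {a₂ t₂ : G₂} (h₁ : SL23Rel a₁ t₁) (h₂ : SL23Rel a₂ t₂)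
    (hc₁ : Nat.card G₁ = 24) (hc₂ : Nat.card G₂ = 24)
    (hg₁ : Subgroup.closure ({a₁, t₁} : Set G₁) = ⊤)
    (hg₂ : Subgroup.closure ({a₂, t₂} : Set G₂) = ⊤) : Nonempty (G₁ ≃* G₂) := by
  set A : G₁ × G₂ := (a₁, a₂) with hA
  set T : G₁ × G₂ := (t₁, t₂) with hT
  obtain ⟨x1, x2, x3, x4, x5, x6⟩ := h₁
  obtain ⟨y1, y2, y3, y4, y5, y6⟩ := h₂
  have hrel : SL23Rel A T := by
    refine ⟨?_, ?_, ?_, Prod.ext x4 y4, Prod.ext x5 y5, Prod.ext x6 y6⟩
    · rw [hA, Prod.orderOf, x1, y1]; rfl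
    · rw [hT, Prod.orderOf, x2, y2]; rfl
    · intro h
      obtain ⟨i, hi⟩ := h
      exact x3 ⟨i, congrArg Prod.fst hi⟩
  obtain ⟨hle, hfin⟩ := card_le_of_sl23Rel hrel
  set S := Subgroup.closure ({A, T} : Set (G₁ × G₂)) with hS
  let f₁ : S →* G₁ := (MonoidHom.fst G₁ G₂).comp S.subtype
  let f₂ : S →* G₂ := (MonoidHom.snd G₁ G₂).comp S.subtype
  have hs₁ : Function.Surjective f₁ := by
    intro g
    have h : g ∈ S.map (MonoidHom.fst G₁ G₂) := by
      rw [hS, MonoidHom.map_closure, Set.image_pair]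
      simp only [hA, hT, MonoidHom.coe_fst]
      rw [hg₁]; exact Subgroup.mem_top g
    obtain ⟨z, hz, hzg⟩ := h
    exact ⟨⟨z, hz⟩, hzg⟩
  have hs₂ : Function.Surjective f₂ := by
    intro g
    have h : g ∈ S.map (MonoidHom.snd G₁ G₂) := by
      rw [hS, MonoidHom.map_closure, Set.image_pair]
      simp only [hA, hT, MonoidHom.coe_snd]
      rw [hg₂]; exact Subgroup.mem_top g
    obtain ⟨z, hz, hzg⟩ := h
    exact ⟨⟨z, hz⟩, hzg⟩
  have b₁ : Function.Bijective f₁ := (Nat.bijective_iff_surjective_and_card f₁).mpr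
    ⟨hs₁, le_antisymm (hc₁.symm ▸ hle) (Nat.card_le_card_of_surjective _ hs₁)⟩
  have b₂ : Function.Bijective f₂ := (Nat.bijective_iff_surjective_and_card f₂).mpr
    ⟨hs₂, le_antisymm (hc₂.symm ▸ hle) (Nat.card_le_card_of_surjective _ hs₂)⟩
  exact ⟨(MulEquiv.ofBijective f₁ b₁).symm.trans (MulEquiv.ofBijective f₂ b₂)⟩

local notation "SL23" => Matrix.SpecialLinearGroup (Fin 2) (ZMod 3)

/-- Generators of `SL(2,3)` satisfying the relations. -/
theorem exists_sl23Rel : ∃ a t : SL23, SL23Rel a t ∧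
    Subgroup.closure ({a, t} : Set SL23) = ⊤ ∧ Nat.card SL23 = 24 := by
  haveI : Fact (Nat.Prime 3) := ⟨by norm_num⟩
  obtain ⟨a, t, h1, h2, h3, h4, h5, h6⟩ : ∃ a t : SL23, a * a ≠ 1 ∧ a ^ 4 = 1 ∧ t ^ 3 = 1 ∧
      t ≠ 1 ∧ ((t * a * t⁻¹) * (t * a * t⁻¹) = a * a ∧
        (t * a * t⁻¹) * a * (t * a * t⁻¹)⁻¹ = a⁻¹ ∧
        t * (t * a * t⁻¹) * t⁻¹ = a * (t * a * t⁻¹)) ∧
      t * a * t⁻¹ ≠ a ∧ t * a * t⁻¹ ≠ a⁻¹ ∧ t * a * t⁻¹ ≠ 1 ∧ t * a * t⁻¹ ≠ a * a := by
    decide +kernel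
  have h24 : Nat.card SL23 = 24 := by
    rw [Nat.card_eq_fintype_card]; decide +kernel
  have ha : orderOf a = 4 := by
    rw [show (4 : ℕ) = 2 ^ (1 + 1) from rfl]
    exact orderOf_eq_prime_pow (by rwa [pow_one, sq]) h2
  have ht : orderOf t = 3 := orderOf_eq_prime h3 h4
  have hnot : t * a * t⁻¹ ∉ Subgroup.zpowers a := by
    rw [mem_zpowers_iff_mem_range_orderOf, ha]
    intro hmem
    simp only [Finset.mem_image, Finset.mem_range] at hmem
    obtain ⟨i, hi, hie⟩ := hmem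
    interval_cases i
    · exact h6.2.2.1 (by rw [← hie, pow_zero])
    · exact h6.1 (by rw [← hie, pow_one])
    · exact h6.2.2.2 (by rw [← hie, sq])
    · refine h6.2.1 (by rw [← hie, eq_inv_iff_mul_eq_one, ← pow_succ]; exact h2)
  refine ⟨a, t, ⟨ha, ht, hnot, h5⟩, ?_, h24⟩
  set S := Subgroup.closure ({a, t} : Set SL23) with hS
  obtain ⟨e⟩ := H67.quat_iso (k := 2) a (t * a * t⁻¹) (by rw [h5.1, sq]) h5.2.1 (by rw [ha]) hnot
  have hQS : Subgroup.closure ({a, t * a * t⁻¹} : Set SL23) ≤ S := by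
    have haS : a ∈ S := Subgroup.subset_closure (Or.inl rfl)
    have htS : t ∈ S := Subgroup.subset_closure (Or.inr rfl)
    rw [Subgroup.closure_le]
    rintro x (rfl | hx)
    · exact haS
    · rw [Set.mem_singleton_iff] at hx; subst hx
      exact S.mul_mem (S.mul_mem htS haS) (S.inv_mem htS)
  have h8 : 8 ∣ Nat.card S := by
    have := Subgroup.card_dvd_of_le hQS
    rwa [Nat.card_congr e.toEquiv, Nat.card_eq_fintype_card, QuaternionGroup.card] at this
  have htS : t ∈ S := Subgroup.subset_closure (Or.inr rfl)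
  have h3' : 3 ∣ Nat.card S := by
    have := orderOf_dvd_natCard (⟨t, htS⟩ : S)
    rwa [Subgroup.orderOf_mk, ht] at this
  refine Subgroup.eq_top_of_le_card _ ?_
  rw [h24]
  exact Nat.le_of_dvd Nat.card_pos (Nat.Coprime.mul_dvd_of_dvd_of_dvd (by norm_num : Nat.Coprime 8 3) h8 h3')

/-- Facts about `Q8` checked by computation. -/
theorem q8_table : ∀ x y : QuaternionGroup 2, x * x ≠ 1 → y ≠ x → y ≠ x⁻¹ → y * y ≠ 1 →
    y * y = x * x ∧ y * x * y⁻¹ = x⁻¹ ∧
    ∀ z : QuaternionGroup 2, z * z ≠ 1 → z ≠ x → z ≠ x⁻¹ → z ≠ y → z ≠ y⁻¹ →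
      z = x * y ∨ z = y * x := by
  decide +kernel

theorem q8_involution : ∀ x y : QuaternionGroup 2,
    x ≠ 1 → x * x = 1 → y ≠ 1 → y * y = 1 → x = y := by
  decide +kernel

theorem q8_pow_four : ∀ x : QuaternionGroup 2, x ^ 4 = 1 := by decide +kernel

theorem q8_aba : ∀ x y : QuaternionGroup 2, x * x ≠ 1 → y * y = x * x → y * x * y⁻¹ = x⁻¹ →
    x * y * x = y ∧ y * x * y = x ∧ y * (x * y) = x := by
  decide +kernel

end H5
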