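import Cfsg.Agent.H5.Frobenius
import Mathlib.GroupTheory.SchurZassenhaus
import Mathlib.Tactic

/-!
Abelian Hall subgroups of equal order are conjugate.
-/

namespace H5

variable {G : Type*} [Group G] [Finite G]

theorem abelian_hall_conj_aux (n : ℕ) : ∀ L H K : Subgroup G, H ≤ L → K ≤ L →
    (∀ a ∈ H, ∀ b ∈ H, a * b = b * a) → (∀ a ∈ K, ∀ b ∈ K, a * b = b * a) →
    Nat.card H = n → Nat.card K = n → Nat.Coprime n (H.relIndex L) →
    ∃ c ∈ L, H.map (MulAut.conj c).toMonoidHom = K := by
  induction n using Nat.strong_induction_on with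
  | _ n ih =>
    intro L H K hHL hKL hHc hKc hH hK hco
    by_cases hn1 : n = 1
    · refine ⟨1, L.one_mem, ?_⟩
      rw [Subgroup.card_eq_one.mp (hH.trans hn1), Subgroup.card_eq_one.mp (hK.trans hn1)]
      simp
    set p := n.minFac with hpd
    haveI hp : Fact p.Prime := ⟨Nat.minFac_prime hn1⟩
    have hn0 : n ≠ 0 := hH ▸ Nat.card_pos.ne'
    have hpn : p ∣ n := Nat.minFac_dvd n
    -- Sylow subgroups of `H` and `K` are Sylow subgroups of `L`
    have hsyl : ∀ M : Subgroup G, M ≤ L → Nat.card M = n → (M.relIndex L).Coprime n →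
        ∀ S : Sylow p M, ∃ T : Sylow p L,
          (T : Subgroup L) = ((S : Subgroup M).map M.subtype).subgroupOf L := by
      intro M hML hM hcoM S
      refine ⟨Sylow.ofCard _ ?_, Sylow.coe_ofCard _ _⟩
      rw [Nat.card_congr (Subgroup.subgroupOfEquivOfLe
          ((Subgroup.map_subtype_le _).trans hML)).toEquiv,
        Subgroup.card_map_of_injective M.subtype_injective, S.card_eq_multiplicity]
      congr 1
      have hL : Nat.card L = n * M.relIndex L := by
        rw [← hM, ← Nat.card_congr (Subgroup.subgroupOfEquivOfLe hML).toEquiv, Subgroup.relIndex,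
          Subgroup.card_mul_index]
      rw [hL, hM, Nat.factorization_mul (b := M.relIndex L) hn0 Subgroup.index_ne_zero_of_finite, Finsupp.add_apply,
        Nat.factorization_eq_zero_of_not_dvd (n := M.relIndex L), add_zero]
      intro hd
      exact hp.out.ne_one (Nat.eq_one_of_dvd_coprimes hcoM hd hpn)
    have hidx : K.relIndex L = H.relIndex L := by
      have h1 := Subgroup.card_mul_index (H.subgroupOf L)
      have h2 := Subgroup.card_mul_index (K.subgroupOf L)
      rw [Nat.card_congr (Subgroup.subgroupOfEquivOfLe hHL).toEquiv, hH] at h1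
      rw [Nat.card_congr (Subgroup.subgroupOfEquivOfLe hKL).toEquiv, hK] at h2
      exact Nat.eq_of_mul_eq_mul_left (Nat.pos_of_ne_zero hn0) (h2.trans h1.symm)
    obtain ⟨SH⟩ := (inferInstance : Nonempty (Sylow p H))
    obtain ⟨SK⟩ := (inferInstance : Nonempty (Sylow p K))
    obtain ⟨TH, hTH⟩ := hsyl H hHL hH hco.symm SH
    obtain ⟨TK, hTK⟩ := hsyl K hKL hK (hidx ▸ hco.symm) SK
    obtain ⟨c1, hc1⟩ := MulAction.exists_smul_eq L TH TK
    set P := (SK : Subgroup K).map K.subtype with hP
    set H1 := H.map (MulAut.conj (c1 : G)).toMonoidHom with hH1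
    have hPK : P ≤ K := Subgroup.map_subtype_le _
    have hPH1 : P ≤ H1 := by
      intro x hx
      have hxT : (⟨x, hKL (hPK hx)⟩ : L) ∈ (TK : Subgroup L) := by
        rw [hTK, Subgroup.mem_subgroupOf]; exact hx
      rw [← hc1] at hxT
      obtain ⟨y, hy, hyx⟩ := hxT
      rw [SetLike.mem_coe, hTH, Subgroup.mem_subgroupOf] at hy
      exact ⟨y, Subgroup.map_subtype_le _ hy, congrArg Subtype.val hyx⟩
    have hH1L : H1 ≤ L := by
      rintro _ ⟨x, hx, rfl⟩
      exact L.mul_mem (L.mul_mem c1.2 (hHL hx)) (L.inv_mem c1.2)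
    have hH1c : ∀ a ∈ H1, ∀ b ∈ H1, a * b = b * a := by
      rintro _ ⟨a, ha, rfl⟩ _ ⟨b, hb, rfl⟩
      rw [← map_mul, ← map_mul, hHc a ha b hb]
    have hH1card : Nat.card H1 = n := by
      rw [hH1, Subgroup.card_map_of_injective (MulAut.conj (c1 : G)).injective, hH]
    have hidx1 : H1.relIndex L = H.relIndex L := by
      have h1 := Subgroup.card_mul_index (H.subgroupOf L)
      have h2 := Subgroup.card_mul_index (H1.subgroupOf L)
      rw [Nat.card_congr (Subgroup.subgroupOfEquivOfLe hHL).toEquiv, hH] at h1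
      rw [Nat.card_congr (Subgroup.subgroupOfEquivOfLe hH1L).toEquiv, hH1card] at h2
      exact Nat.eq_of_mul_eq_mul_left (Nat.pos_of_ne_zero hn0) (h2.trans h1.symm)
    set L' := Subgroup.centralizer (P : Set G) ⊓ L with hL'
    have hH1L' : H1 ≤ L' := fun x hx => ⟨fun y hy => hH1c y (hPH1 hy) x hx, hH1L hx⟩
    have hKL' : K ≤ L' := fun x hx => ⟨fun y hy => hKc y (hPK hy) x hx, hKL hx⟩
    -- complements of `P` in the two abelian groups
    have hPcard : Nat.card P = p ^ n.factorization p := by
      rw [hP, Subgroup.card_map_of_injective K.subtype_injective, SK.card_eq_multiplicity, hK]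
    have hcompl : ∀ M : Subgroup G, P ≤ M → Nat.card M = n →
        (∀ a ∈ M, ∀ b ∈ M, a * b = b * a) →
        ∃ M' : Subgroup G, M' ≤ M ∧ Nat.card M' = n / p ^ n.factorization p ∧ P ⊔ M' = M := by
      intro M hPM hM hMc
      haveI : (P.subgroupOf M).Normal := by
        refine ⟨fun x hx g => ?_⟩
        have h1 : g * x * g⁻¹ = x := Subtype.ext (by
          simp only [Subgroup.coe_mul, Subgroup.coe_inv]
          rw [hMc g g.2 x x.2, mul_inv_cancel_right])
        rw [h1]; exact hx
      have hcardP : Nat.card (P.subgroupOf M) = p ^ n.factorization p := by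
        rw [Nat.card_congr (Subgroup.subgroupOfEquivOfLe hPM).toEquiv, hPcard]
      have hindex : (P.subgroupOf M).index = n / p ^ n.factorization p := by
        have h1 := Subgroup.card_mul_index (P.subgroupOf M)
        rw [hcardP, hM] at h1
        exact (Nat.div_eq_of_eq_mul_right (pow_pos hp.out.pos _) h1.symm).symm
      obtain ⟨R, hR⟩ := Subgroup.exists_right_complement'_of_coprime (N := P.subgroupOf M) (by
        rw [hcardP, hindex]
        exact (Nat.coprime_ordCompl hp.out hn0).pow_left _)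
      refine ⟨R.map M.subtype, Subgroup.map_subtype_le _, ?_, ?_⟩
      · rw [Subgroup.card_map_of_injective M.subtype_injective, ← hR.symm.index_eq_card, hindex]
      · rw [← Subgroup.map_subgroupOf_eq_of_le hPM, ← Subgroup.map_sup, hR.sup_eq_top,
          ← MonoidHom.range_eq_map, Subgroup.range_subtype]
    obtain ⟨H', hH'le, hH'card, hH'sup⟩ := hcompl H1 hPH1 hH1card hH1c
    obtain ⟨K', hK'le, hK'card, hK'sup⟩ := hcompl K hPK hK hKc
    set m := n / p ^ n.factorization p with hm
    have hmn : m < n :=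
      Nat.div_lt_self (Nat.pos_of_ne_zero hn0)
        (Nat.one_lt_pow (Nat.pos_iff_ne_zero.mp (hp.out.factorization_pos_of_dvd hn0 hpn))
          hp.out.one_lt)
    have hcom : Nat.Coprime m (H'.relIndex L') := by
      rw [← Subgroup.relIndex_mul_relIndex H' H1 L' hH'le hH1L']
      refine Nat.Coprime.mul_right ?_ ?_
      · have h1 := Subgroup.card_mul_index (H'.subgroupOf H1)
        rw [Nat.card_congr (Subgroup.subgroupOfEquivOfLe hH'le).toEquiv, hH'card, hH1card] at h1
        have h2 : H'.relIndex H1 = p ^ n.factorization p := by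
          apply Nat.eq_of_mul_eq_mul_left
            (Nat.div_pos (Nat.le_of_dvd (Nat.pos_of_ne_zero hn0) (Nat.ordProj_dvd n p))
              (pow_pos hp.out.pos _))
          rw [Subgroup.relIndex, h1.trans (Nat.ordProj_mul_ordCompl_eq_self n p).symm, mul_comm]
        rw [h2]
        exact ((Nat.coprime_ordCompl hp.out hn0).pow_left _).symm
      · refine (hco.coprime_dvd_left (Nat.div_dvd_of_dvd (Nat.ordProj_dvd n p))).coprime_dvd_right ?_
        rw [← hidx1, ← Subgroup.relIndex_mul_relIndex H1 L' L hH1L' inf_le_right]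
        exact dvd_mul_right _ _
    obtain ⟨c, hc, hcK⟩ := ih m hmn L' H' K' (hH'le.trans hH1L') (hK'le.trans hKL')
      (fun a ha b hb => hH1c a (hH'le ha) b (hH'le hb))
      (fun a ha b hb => hKc a (hK'le ha) b (hK'le hb)) hH'card hK'card hcom
    refine ⟨c * c1, L.mul_mem hc.2 c1.2, ?_⟩
    have hcP : P.map (MulAut.conj c).toMonoidHom = P := by
      have key : ∀ x ∈ P, c * x * c⁻¹ = x := fun x hx => by
        rw [← hc.1 x hx, mul_inv_cancel_right]
      refine SetLike.ext fun z => ⟨?_, fun hz => Subgroup.mem_map.mpr ⟨z, hz, key z hz⟩⟩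
      rintro ⟨x, hx, rfl⟩
      show c * x * c⁻¹ ∈ P
      rw [key x hx]; exact hx
    rw [map_mul, MulEquiv.toMonoidHom_eq_coe]
    have : (((MulAut.conj c) * (MulAut.conj (c1 : G)) : MulAut G) : G →* G) =
        (MulAut.conj c).toMonoidHom.comp (MulAut.conj (c1 : G)).toMonoidHom := rfl
    rw [this, ← Subgroup.map_map, ← hH1, ← hH'sup, Subgroup.map_sup, hcP, hcK, hK'sup]

/-- Two abelian Hall subgroups of the same order inside `L` are conjugate in `L`. -/
theorem abelian_hall_conj {L H K : Subgroup G} (hHL : H ≤ L) (hKL : K ≤ L)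
    [hHc : IsMulCommutative H] [hKc : IsMulCommutative K] (hcard : Nat.card H = Nat.card K)
    (hco : Nat.Coprime (Nat.card H) (H.relIndex L)) :
    ∃ c ∈ L, H.map (MulAut.conj c).toMonoidHom = K :=
  abelian_hall_conj_aux (Nat.card H) L H K hHL hKL
    (fun a ha b hb => congrArg Subtype.val (hHc.is_comm.comm (⟨a, ha⟩ : H) ⟨b, hb⟩))
    (fun a ha b hb => congrArg Subtype.val (hKc.is_comm.comm (⟨a, ha⟩ : K) ⟨b, hb⟩))
    rfl hcard.symm hco

end H5
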