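import Cfsg.Agent.H89.StableEmbed
import Cfsg.Agent.H85.Focal

/-!
A finite group in which the maps of a saturated fusion system become conjugations, with a subgroup
of index prime to `p` mapping onto `S`: the setting of the transfer.
-/

set_option autoImplicit false
set_option linter.style.haveILetI false

open Cfsg Cfsg.FusionSystem MulAction

namespace H5

universe u

variable {Ω : Type u} [Group Ω] {S : Subgroup Ω}

/-- The data for the transfer of a fusion system. -/
structure TransferData (F : FusionSystem S) (p : ℕ) : Type (u + 1) where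
  /-- The group. -/
  Γ : Type u
  [grp : Group Γ]
  [fin : Finite Γ]
  /-- The embedding of `S`. -/
  emb : S →* Γ
  /-- The subgroup transferred to. -/
  N : Subgroup Γ
  /-- The map onto `S`. -/
  ψ : N →* S
  surj : Function.Surjective ψ
  index : ¬ p ∣ N.index
  conj : ∀ (P : Subgroup Ω) (φ : P →* Ω) (hφ : φ ∈ F.Hom P), ∃ g : Γ, ∀ x : P,
    emb ⟨φ x, H85.map_mem hφ x⟩ = g * emb ⟨x, H85.source_le hφ x.2⟩ * g⁻¹
  fixed : ∀ t : Γ, ∃ (P : Subgroup Ω) (φ : P →* Ω), φ ∈ F.Hom P ∧
    ∀ (a : S) (h : t⁻¹ * emb a * t ∈ N), ∃ ha : (a : Ω) ∈ P,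
      ((ψ ⟨_, h⟩ : S) : Ω) = φ ⟨a, ha⟩

attribute [instance] TransferData.grp TransferData.fin

theorem exists_transferData [Finite S] {p : ℕ} [Fact p.Prime] (hS : IsPGroup p S)
    {F : FusionSystem S} (hF : F.IsSaturated p) : Nonempty (TransferData F p) := by
  classical
  obtain ⟨c, hc, hcount⟩ := H89.exists_stable_saturated hS hF
  haveI : Finite (H89.OrbitSum c) := H89.finite_orbitSum c
  have hfree : ∀ (x : H89.OrbitSum c) (b : S), ((1, b) : S × S) • x = x → b = 1 :=
    fun x b h => H89.right_free hc h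
  let X := H89.OrbitSum c
  let Q := Quotient (H89.rightSetoid S X)
  haveI : Finite Q := Finite.of_surjective _ Quotient.mk_surjective
  let Γ := H89.rightAuto S X
  haveI : Finite Γ := inferInstance
  let σ : Q → X := Quotient.out
  let e : Q × S ≃ X := Equiv.ofBijective (fun v => ((1, v.2) : S × S) • σ v.1) (by
    constructor
    · rintro ⟨i, b⟩ ⟨j, d⟩ h
      have h1 : ∀ (i : Q) (b : S),
          Quotient.mk (H89.rightSetoid S X) (((1, b) : S × S) • σ i) = i := fun i b =>
        (Quotient.sound (show (H89.rightSetoid S X).r (σ i) _ from ⟨b, rfl⟩)).symm.trans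
          (Quotient.out_eq i)
      have hij : i = j := (h1 i b).symm.trans ((congrArg _ h).trans (h1 j d))
      subst hij
      rw [show b = d from H89.right_cancel hfree h]
    · intro x
      obtain ⟨b, hb⟩ := Quotient.exact (Quotient.out_eq (Quotient.mk (H89.rightSetoid S X) x))
      exact ⟨(_, b), hb⟩)
  have he : ∀ i b, e (i, b) = ((1, b) : S × S) • σ i := fun i b => rfl
  -- monomial permutations
  let mono : Equiv.Perm Q → (Q → S) → Equiv.Perm X := fun π w => e.symm.trans
    (({ toFun := fun v => (π v.1, v.2 * w v.1)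
        invFun := fun v => (π.symm v.1, v.2 * (w (π.symm v.1))⁻¹)
        left_inv := fun v => by simp
        right_inv := fun v => by simp } : Equiv.Perm (Q × S)).trans e)
  have hmono : ∀ π w i b, mono π w (((1, b) : S × S) • σ i) =
      ((1, b * w i) : S × S) • σ (π i) := by
    intro π w i b
    rw [← he i b]
    simp only [mono, Equiv.trans_apply, Equiv.symm_apply_apply]
    exact he _ _
  have hmonoR : ∀ π w, mono π w ∈ H89.rightAuto S X := by
    intro π w b x
    obtain ⟨⟨i, d⟩, rfl⟩ := e.surjective x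
    rw [he, ← mul_smul, Prod.mk_mul_mk, one_mul, hmono, hmono, ← mul_smul, Prod.mk_mul_mk, one_mul,
      mul_assoc]
  -- the action on the right orbits
  let act : Γ → Q → Q := fun g => Quotient.map (g : Equiv.Perm X) fun x y ⟨b, hb⟩ =>
    ⟨b, by rw [← g.2, hb]⟩
  letI : MulAction Γ Q :=
    { smul := act
      one_smul := fun i => by
        induction i using Quotient.inductionOn with
        | h x => rfl
      mul_smul := fun f g i => by
        induction i using Quotient.inductionOn with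
        | h x => rfl }
  have hsmul : ∀ (g : Γ) x, g • (Quotient.mk (H89.rightSetoid S X) x) =
      Quotient.mk _ ((g : Equiv.Perm X) x) := fun g x => rfl
  have hact : ∀ (g : Γ) (i : Q), g • i = Quotient.mk _ ((g : Equiv.Perm X) (σ i)) := fun g i => by
    conv_lhs => rw [← Quotient.out_eq i, hsmul]
  have hmk : ∀ i b, Quotient.mk (H89.rightSetoid S X) (((1, b) : S × S) • σ i) = i := fun i b =>
    (Quotient.sound (show (H89.rightSetoid S X).r (σ i) _ from ⟨b, rfl⟩)).symm.trans
      (Quotient.out_eq i)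
  haveI : IsPretransitive Γ Q := ⟨fun i j => ⟨⟨_, hmonoR (Equiv.swap i j) fun _ => 1⟩, by
    rw [hact]
    show Quotient.mk _ (mono (Equiv.swap i j) (fun _ => 1) (σ i)) = j
    rw [show σ i = ((1, 1) : S × S) • σ i from (one_smul _ _).symm,
      hmono (Equiv.swap i j) (fun _ => 1) i 1, hmk, Equiv.swap_apply_left]⟩⟩
  -- the number of right orbits
  have hQ : ¬ p ∣ Nat.card Q := hcount _ (by rw [← Nat.card_prod]; exact (Nat.card_congr e).symm)
  obtain ⟨i₀⟩ : Nonempty Q := by
    by_contra h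
    rw [not_nonempty_iff] at h
    exact hQ (by simp)
  let x₀ := σ i₀
  let N := stabilizer Γ i₀
  have hN : ∀ g : N, ∃ b : S, ((1, b) : S × S) • x₀ = ((g : Γ) : Equiv.Perm X) x₀ := by
    intro g
    obtain ⟨b, hb⟩ := Quotient.exact (show Quotient.mk (H89.rightSetoid S X) (σ i₀) =
        Quotient.mk _ (((g : Γ) : Equiv.Perm X) x₀) by
      rw [← hsmul]
      show Quotient.mk _ (Quotient.out i₀) = (g : Γ) • Quotient.mk _ (Quotient.out i₀)
      rw [Quotient.out_eq, g.2])
    exact ⟨b, hb⟩
  choose coef hcoef using hN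
  let ψ : N →* S := MonoidHom.mk' (fun g => (coef g)⁻¹) fun g g' => by
    rw [← mul_inv_rev]
    congr 1
    refine H89.right_cancel hfree (x := x₀) ?_
    rw [hcoef, show ((1, coef g' * coef g) : S × S) = (1, coef g') * (1, coef g) by simp,
      mul_smul, hcoef g, ← (g : Γ).2, hcoef g']
    rfl
  refine ⟨{ Γ := Γ, emb := H89.leftMul S X, N := N, ψ := ψ, surj := ?_, index := ?_,
            conj := fun P φ hφ => H89.exists_conj_of_stable hc hφ, fixed := ?_ }⟩
  · intro b
    have hg : (⟨_, hmonoR 1 fun _ => b⁻¹⟩ : Γ) ∈ N := by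
      show (⟨_, hmonoR 1 fun _ => b⁻¹⟩ : Γ) • i₀ = i₀
      rw [hact]
      show Quotient.mk _ (mono 1 (fun _ => b⁻¹) (σ i₀)) = i₀
      rw [show σ i₀ = ((1, 1) : S × S) • σ i₀ from (one_smul _ _).symm,
        hmono 1 (fun _ => b⁻¹) i₀ 1, hmk]
      rfl
    refine ⟨⟨_, hg⟩, inv_eq_iff_eq_inv.mpr (H89.right_cancel hfree (x := x₀) ?_)⟩
    rw [hcoef]
    show mono 1 (fun _ => b⁻¹) x₀ = _
    conv_lhs => rw [show x₀ = ((1, 1) : S × S) • σ i₀ from (one_smul _ _).symm]
    exact (hmono 1 (fun _ => b⁻¹) i₀ 1).trans (by simp [x₀])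
  · rw [index_stabilizer_of_transitive]
    exact hQ
  · intro t
    obtain ⟨P, φ, hφ, hst⟩ := H89.admGraph_stabilizer hc.1 ((t : Equiv.Perm X) x₀)
    refine ⟨P, φ, hφ, fun a ha => ?_⟩
    have h1 := hcoef ⟨_, ha⟩
    set b := coef ⟨_, ha⟩
    have h2 : ((1, b) : S × S) • (t : Equiv.Perm X) x₀ =
        ((a, 1) : S × S) • (t : Equiv.Perm X) x₀ := by
      rw [← t.2, h1, ← H89.leftMul_apply]
      show (t : Equiv.Perm X) (((t⁻¹ * H89.leftMul S X a * t : Γ) : Equiv.Perm X) x₀) = _
      simp [Subgroup.coe_mul, Equiv.Perm.mul_apply]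
    have h3 : ((a, b⁻¹) : S × S) ∈ stabilizer (S × S) ((t : Equiv.Perm X) x₀) := by
      rw [mem_stabilizer_iff, show ((a, b⁻¹) : S × S) = (1, b⁻¹) * (a, 1) by simp, mul_smul, ← h2,
        ← mul_smul, Prod.mk_mul_mk, one_mul, inv_mul_cancel]
      exact one_smul _ _
    rw [hst] at h3
    obtain ⟨hP, hφa⟩ := h3
    exact ⟨hP, hφa.symm⟩

end H5
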