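import Cfsg.Agent.H5.FusionData
import Cfsg.Agent.H5.Tate

/-!
Tate's theorem for saturated fusion systems, by averaging a twisted character over the transfer.
-/

set_option autoImplicit false
set_option linter.style.haveILetI false

open Cfsg Cfsg.FusionSystem commutatorElement

namespace H5

universe u

variable {Ω : Type u} [Group Ω] {S : Subgroup Ω}

/-- The maps that agree with an inner map of `S` modulo a normal subgroup `K`. -/
def innerModSystem (F : FusionSystem S) (K : Subgroup Ω)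
    (hK : ∀ s ∈ S, ∀ y ∈ K, s * y * s⁻¹ ∈ K) : FusionSystem S where
  Hom P := {φ | φ ∈ F.Hom P ∧ ∃ s ∈ S, ∀ x : P, (s * (x : Ω) * s⁻¹)⁻¹ * φ x ∈ K}
  le_of_mem h := F.le_of_mem h.1
  injective_of_mem h := F.injective_of_mem h.1
  conj_mem := by
    intro P g hP hg
    refine ⟨F.conj_mem hP hg, g, hg, fun x => ?_⟩
    rw [H85.conjHom_apply, inv_mul_cancel]
    exact K.one_mem
  comp_mem := by
    rintro P Q φ ψ ⟨hφ, s, hs, hφK⟩ ⟨hψ, r, hr, hψK⟩ h
    refine ⟨F.comp_mem hφ hψ h, r * s, S.mul_mem hr hs, fun x => ?_⟩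
    have h1 := K.mul_mem (hK r hr _ (hφK x)) (hψK ⟨φ x, h x⟩)
    show _ * ψ ⟨φ x, h x⟩ ∈ K
    simpa [mul_assoc] using h1
  inv_mem := by
    rintro P φ ⟨hφ, s, hs, hφK⟩
    refine ⟨P.subtype.comp (H85.isoOf φ hφ rfl).symm.toMonoidHom,
      ⟨(H85.isFIso_isoOf φ hφ rfl).symm, s⁻¹, S.inv_mem hs, ?_⟩, fun x => ?_⟩
    · rintro ⟨_, x, rfl⟩
      show _ * (((H85.isoOf φ hφ rfl).symm _ : P) : Ω) ∈ K
      rw [H85.isoOf_symm_apply φ hφ rfl (x := x) rfl]
      simpa [mul_assoc] using hK s⁻¹ (S.inv_mem hs) _ (K.inv_mem (hφK x))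
    · show (((H85.isoOf φ hφ rfl).symm _ : P) : Ω) = (x : Ω)
      exact congrArg Subtype.val (H85.isoOf_symm_apply φ hφ rfl (x := x) rfl)

/-- Every map agrees with an inner map modulo the hyperfocal subgroup. -/
theorem exists_conj_mod_hyperfocal [Finite S] {p : ℕ} [Fact p.Prime] (hS : IsPGroup p S)
    {F : FusionSystem S} (hF : F.IsSaturated p) {P : Subgroup Ω} {φ : P →* Ω}
    (hφ : φ ∈ F.Hom P) :
    ∃ s ∈ S, ∀ x : P, (s * (x : Ω) * s⁻¹)⁻¹ * φ x ∈ F.hyperfocalSubgroup p := by
  have hK : ∀ s ∈ S, ∀ y ∈ F.hyperfocalSubgroup p, s * y * s⁻¹ ∈ F.hyperfocalSubgroup p :=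
    fun s hs y hy => H86.conj_mem_hyperfocal F p hs hy
  suffices hle : F ≤ innerModSystem F _ hK from (hle P hφ).2
  refine H85.le_of_essential hS hF _ fun U hU => ?_
  have hn : F.IsFullyNormalized U := by
    rcases hU with rfl | hU
    · exact H85.fullyNormalized_top F
    · exact hU.2.1
  obtain ⟨hUS, R, hR⟩ := H85.fullyAutomized_of_fullyNormalized hS hF hn
  haveI := H85.finite_autGroup F hUS
  intro α hα
  have htop : (⊤ : Subgroup (F.autGroup U)) ≤
      ((innerModSystem F _ hK).autGroup U).subgroupOf (F.autGroup U) := by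
    rw [← H86.pResidual_sup_sylow R]
    refine sup_le ?_ ?_
    · intro a ha
      refine (H85.mem_autGroup hUS).2 ⟨(H85.mem_autGroup hUS).1 a.2, 1, S.one_mem, fun x => ?_⟩
      rw [one_mul, inv_one, mul_one]
      exact Subgroup.subset_closure ⟨U, a, x, hUS, ha, rfl⟩
    · rw [hR]
      exact fun a ha => H85.autInducedBy_le_autGroup _ hUS ha
  exact htop (Subgroup.mem_top (⟨α, hα⟩ : F.autGroup U))

theorem hyperfocal_mono {F H : FusionSystem S} (hHF : H.IsSubsystemOf F) (p : ℕ) :
    H.hyperfocalSubgroup p ≤ F.hyperfocalSubgroup p := by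
  rw [hyperfocalSubgroup, Subgroup.closure_le]
  rintro _ ⟨P, α, x, hP, hα, rfl⟩
  have hle : ∀ a : H.autGroup P, (a : MulAut P) ∈ F.autGroup P := fun a =>
    (H85.mem_autGroup hP).2 (hHF P ((H85.mem_autGroup hP).1 a.2))
  exact Subgroup.subset_closure ⟨P, Subgroup.inclusion (fun a ha => hle ⟨a, ha⟩) α, x, hP,
    H86.pResidual_map_le p (Subgroup.inclusion fun a ha => hle ⟨a, ha⟩) ⟨α, hα, rfl⟩, rfl⟩

/-- An `S`-invariant character of the hyperfocal subgroup extends to `S`. -/
theorem exists_extend_hyperfocal [Finite S] {p : ℕ} [hp : Fact p.Prime] (hS : IsPGroup p S)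
    {F : FusionSystem S} (hF : F.IsSaturated p)
    {T : Subgroup S} [hTn : T.Normal] (hT : T = (F.hyperfocalSubgroup p).subgroupOf S)
    (lam : T →* Multiplicative (ZMod p))
    (hinv : ∀ (x : S) (a : T), lam ⟨x * (a : S) * x⁻¹, hTn.conj_mem _ a.2 x⟩ = lam a) :
    ∃ θ : S →* Multiplicative (ZMod p), ∀ a : T, θ (a : S) = lam a := by
  classical
  have hTm : ∀ a : S, a ∈ T ↔ (a : Ω) ∈ F.hyperfocalSubgroup p := fun a => by
    rw [hT, Subgroup.mem_subgroupOf]
  obtain ⟨D⟩ := exists_transferData hS hF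
  -- a twisted character
  let s : S → S := fun x => if x ∈ T then 1 else (QuotientGroup.mk (s := T) x).out
  have hs : ∀ x, x * (s x)⁻¹ ∈ T := by
    intro x
    by_cases hx : x ∈ T
    · simp [s, hx]
    · have h1 : QuotientGroup.mk' T (x * (s x)⁻¹) = 1 := by simp [s, hx]
      exact (QuotientGroup.eq_one_iff _).mp h1
  have hs' : ∀ (a : T) (x : S), s (a * x) = s x := by
    intro a x
    have h1 : ((a : S) * x ∈ T) ↔ x ∈ T := T.mul_mem_cancel_left a.2
    by_cases hx : x ∈ T
    · simp [s, hx, h1]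
    · simp only [s, hx, h1, if_false]
      congr 1
      show QuotientGroup.mk' T _ = QuotientGroup.mk' T _
      rw [map_mul]
      simp [(QuotientGroup.eq_one_iff (a : S)).mpr a.2]
  let β : S → Multiplicative (ZMod p) := fun x => lam ⟨x * (s x)⁻¹, hs x⟩
  have hβl : ∀ (a : T) (x : S), β (a * x) = lam a * β x := by
    intro a x
    simp only [β]
    rw [← map_mul]
    congr 1
    exact Subtype.ext (by simp [hs', mul_assoc])
  have hβ0 : ∀ a : T, β a = lam a := by
    intro a
    simp only [β]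
    congr 1
    exact Subtype.ext (by simp [s, a.2])
  let d : S → S → Multiplicative (ZMod p) := fun x y => β (x * y) / (β x * β y)
  have hdl : ∀ (a : T) x y, d (a * x) y = d x y := by
    intro a x y
    simp only [d, mul_assoc, hβl]
    rw [mul_div_mul_left_eq_div]
  have hdr : ∀ (a : T) x y, d x (a * y) = d x y := by
    intro a x y
    simp only [d]
    have h1 : x * (a * y) = ((⟨x * a * x⁻¹, hTn.conj_mem _ a.2 x⟩ : T) : S) * (x * y) := by
      simp [mul_assoc]
    rw [h1, hβl, hβl, hinv, mul_left_comm (β x), mul_div_mul_left_eq_div]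
  let π := QuotientGroup.mk' T
  have hd : ∀ x y x' y' : S, π x' = π x → π y' = π y → d x' y' = d x y := by
    intro x y x' y' hx hy
    have hx' : x' * x⁻¹ ∈ T := by
      rw [← QuotientGroup.eq_one_iff]
      show π (x' * x⁻¹) = 1
      rw [map_mul, map_inv, hx, mul_inv_cancel]
    have hy' : y' * y⁻¹ ∈ T := by
      rw [← QuotientGroup.eq_one_iff]
      show π (y' * y⁻¹) = 1
      rw [map_mul, map_inv, hy, mul_inv_cancel]
    calc d x' y' = d (((⟨_, hx'⟩ : T) : S) * x) (((⟨_, hy'⟩ : T) : S) * y) := by simp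
      _ = d x y := by rw [hdl, hdr]
  -- the transversal
  have hfix : ∀ t : D.Γ, ∃ z : S, ∀ (a : S) (h : t⁻¹ * D.emb a * t ∈ D.N),
      π (D.ψ ⟨_, h⟩) = π (z * a * z⁻¹) := by
    intro t
    obtain ⟨P, φ, hφ, hval⟩ := D.fixed t
    obtain ⟨z, hz, hzK⟩ := exists_conj_mod_hyperfocal hS hF hφ
    refine ⟨⟨z, hz⟩, fun a h => (QuotientGroup.eq.mpr ((hTm _).mpr ?_)).symm⟩
    obtain ⟨ha, hψa⟩ := hval a h
    simp only [Subgroup.coe_mul, Subgroup.coe_inv, hψa]
    exact hzK ⟨a, ha⟩
  letI : MulAction S (D.Γ ⧸ D.N) := MulAction.compHom _ D.emb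
  let orb : D.Γ ⧸ D.N → MulAction.orbitRel.Quotient S (D.Γ ⧸ D.N) := Quotient.mk''
  have hrep : ∀ q : D.Γ ⧸ D.N, ∃ a : S, q = a • (orb q).out := by
    intro q
    obtain ⟨a, ha⟩ := Quotient.exact (Quotient.out_eq (orb q))
    exact ⟨a⁻¹, eq_inv_smul_iff.mpr ha⟩
  choose rep hrep using hrep
  choose zt hzt using hfix
  choose lift hlift using D.surj
  let tt : D.Γ ⧸ D.N → D.Γ := fun q =>
    D.emb (rep q) * (orb q).out.out * ((lift (zt (orb q).out.out) : D.N) : D.Γ) *
      ((lift (rep q)⁻¹ : D.N) : D.Γ)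
  have htt : ∀ q, (QuotientGroup.mk (tt q) : D.Γ ⧸ D.N) = q := by
    intro q
    conv_rhs => rw [hrep q, ← QuotientGroup.out_eq' (orb q).out]
    show _ = (QuotientGroup.mk (D.emb (rep q) * (orb q).out.out) : D.Γ ⧸ D.N)
    rw [QuotientGroup.eq]
    simp only [tt, mul_inv_rev, mul_assoc, inv_mul_cancel_left, inv_mul_cancel, mul_one]
    exact D.N.mul_mem (D.N.inv_mem (SetLike.coe_mem _)) (D.N.inv_mem (SetLike.coe_mem _))
  have hh : ∀ (g : D.Γ) (q : D.Γ ⧸ D.N), (tt (g • q))⁻¹ * g * tt q ∈ D.N := by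
    intro g q
    have h1 : (QuotientGroup.mk (tt (g • q)) : D.Γ ⧸ D.N) = QuotientGroup.mk (g * tt q) := by
      rw [htt, ← smul_eq_mul, ← MulAction.Quotient.smul_mk, htt]
    simpa [mul_assoc] using QuotientGroup.eq.mp h1
  let h : D.Γ → D.Γ ⧸ D.N → S := fun g q => D.ψ ⟨_, hh g q⟩
  have hmul : ∀ g1 g2 q, h (g1 * g2) q = h g1 (g2 • q) * h g2 q := by
    intro g1 g2 q
    simp only [h, ← map_mul]
    congr 1
    apply Subtype.ext
    simp only [Subgroup.coe_mul, mul_smul]
    group
  -- the values on `S` are congruent to the element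
  have hcong : ∀ (a : S) q, π (h (D.emb a) q) = π a := by
    intro a q
    set q' := D.emb a • q with hq'
    have horb : orb q' = orb q := Quotient.sound ⟨a, rfl⟩
    set t0 := (orb q).out.out with ht0
    have hmem : t0⁻¹ * D.emb ((rep q')⁻¹ * a * rep q) * t0 ∈ D.N := by
      have hfixq : D.emb ((rep q')⁻¹ * a * rep q) • (orb q).out = (orb q).out := by
        show ((rep q')⁻¹ * a * rep q) • (orb q).out = (orb q).out
        rw [mul_smul, mul_smul, ← hrep q, show a • q = q' from rfl, inv_smul_eq_iff]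
        conv_lhs => rw [hrep q', horb]
      rw [← QuotientGroup.out_eq' (orb q).out, ← ht0] at hfixq
      rw [mul_assoc]
      exact QuotientGroup.eq.mp hfixq.symm
    have e : (⟨_, hh (D.emb a) q⟩ : D.N) =
        (lift (rep q')⁻¹)⁻¹ * (lift (zt t0))⁻¹ * ⟨_, hmem⟩ * lift (zt t0) * lift (rep q)⁻¹ := by
      apply Subtype.ext
      simp only [tt, ← hq', horb, ← ht0, Subgroup.coe_mul, Subgroup.coe_inv, map_mul, map_inv]
      group
    show π (D.ψ ⟨_, hh (D.emb a) q⟩) = π a
    rw [e]
    simp only [map_mul D.ψ, map_inv D.ψ, hlift, map_mul π, map_inv π]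
    rw [hzt t0 _ hmem]
    simp only [map_mul, map_inv]
    group
  haveI : Fintype (D.Γ ⧸ D.N) := Fintype.ofFinite _
  set n := Nat.card (D.Γ ⧸ D.N) with hn
  let B : D.Γ → Multiplicative (ZMod p) := fun g => ∏ q, β (h g q)
  have hB : ∀ g1 g2 : D.Γ, B (g1 * g2) =
      B g1 * B g2 * ∏ q, d (h g1 (g2 • q)) (h g2 q) := by
    intro g1 g2
    have h1 : B g1 = ∏ q, β (h g1 (g2 • q)) :=
      (Equiv.prod_comp (MulAction.toPerm g2) (fun q => β (h g1 q))).symm
    rw [h1]
    simp only [B, ← Finset.prod_mul_distrib, hmul, d, mul_div_cancel]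
  have hBS : ∀ x y : S, B (D.emb (x * y)) = B (D.emb x) * B (D.emb y) * d x y ^ n := by
    intro x y
    rw [map_mul, hB, Finset.prod_congr rfl fun q _ => hd x y _ _ (hcong x _) (hcong y q),
      Finset.prod_const, Finset.card_univ, ← Nat.card_eq_fintype_card, ← hn]
  -- `B` is trivial on the generators of the hyperfocal subgroup
  have hkey : ∀ (P : Subgroup Ω) (hP : P ≤ S) (α : F.autGroup P), (orderOf α).Coprime p →
      ∀ x : P, B (D.emb ⟨((α : MulAut P) x : P), hP ((α : MulAut P) x).2⟩) =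
        B (D.emb ⟨x, hP x.2⟩) := by
    intro P hP α hord
    obtain ⟨g, hg⟩ := D.conj P _ ((H85.mem_autGroup hP).1 α.2)
    let ι : P →* S := Subgroup.inclusion hP
    let a : P →* P := (α : MulAut P).toMonoidHom
    have hπa : ∀ x : P, π (ι (a x)) = π (ι x) := fun x =>
      ((QuotientGroup.eq.mpr (show (ι x)⁻¹ * ι (a x) ∈ T from (hTm _).mpr
        (Subgroup.subset_closure ⟨P, α, x, hP, H5.mem_pResidual_of_coprime hord, rfl⟩)))).symm
    let r : P →* Multiplicative (ZMod p) :=
      MonoidHom.mk' (fun x => B (D.emb (ι (a x))) / B (D.emb (ι x))) fun x y => by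
        simp only [map_mul (ι : P →* S), map_mul a, hBS]
        rw [hd (ι x) (ι y) _ _ (hπa x) (hπa y), mul_div_mul_right_eq_div, div_mul_div_comm]
    have hrt : ∀ x : P, ι x ∈ T → r x = 1 := by
      intro x hx
      show B (D.emb (ι (a x))) / B (D.emb (ι x)) = 1
      rw [div_eq_one]
      have hx1 : π (ι x) = 1 := (QuotientGroup.eq_one_iff _).mpr hx
      set m := D.emb (ι x)
      have hconj : D.emb (ι (a x)) = g * m * g⁻¹ := hg x
      rw [hconj]
      let k : D.Γ ⧸ D.N → S := fun q => h g q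
      have hkk : ∀ q, h (g * m * g⁻¹) (g • q) * k q = k (m • q) * h m q := fun q => by
        rw [← hmul, ← hmul]
        congr 1
        group
      have hval : ∀ q, h (g * m * g⁻¹) (g • q) ∈ T := fun q => by
        rw [← hconj, ← QuotientGroup.eq_one_iff]
        show π _ = 1
        rw [hcong, hπa, hx1]
      have hval' : ∀ q, h m q ∈ T := fun q => by
        rw [← QuotientGroup.eq_one_iff]
        show π _ = 1
        rw [hcong, hx1]
      have h1 : B (g * m * g⁻¹) = ∏ q, β (h (g * m * g⁻¹) (g • q)) :=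
        (Equiv.prod_comp (MulAction.toPerm g) (fun q => β (h (g * m * g⁻¹) q))).symm
      have h2 : (∏ q, β (h (g * m * g⁻¹) (g • q))) * ∏ q, β (k q) =
          (∏ q, β (h m q)) * ∏ q, β (k q) := by
        have h4 : ∀ q, β (h (g * m * g⁻¹) (g • q) * k q) = β (h m q) * β (k (m • q)) := fun q => by
          rw [hkk q]
          have e : k (m • q) * h m q = (((⟨_, hTn.conj_mem _ (hval' q) (k (m • q))⟩ : T)) : S) *
              k (m • q) := by simp
          rw [e, hβl, hinv (k (m • q)) ⟨_, hval' q⟩, hβ0 ⟨_, hval' q⟩]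
        have h5 : ∀ q, β (h (g * m * g⁻¹) (g • q) * k q) =
            β (h (g * m * g⁻¹) (g • q)) * β (k q) := fun q => by
          rw [show h (g * m * g⁻¹) (g • q) = ((⟨_, hval q⟩ : T) : S) from rfl, hβl, hβ0]
        rw [← Finset.prod_mul_distrib, Finset.prod_congr rfl fun q _ => (h5 q).symm.trans (h4 q),
          Finset.prod_mul_distrib]
        exact congrArg _ (Equiv.prod_comp (MulAction.toPerm m) (fun q => β (k q)))
      rw [h1]
      exact mul_right_cancel h2
    intro x
    have hra : ∀ y : P, r (a y) = r y := by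
      intro y
      have : a y = y * (y⁻¹ * a y) := by rw [mul_inv_cancel_left]
      rw [this, map_mul r, hrt (y⁻¹ * a y) ?_, mul_one]
      rw [← QuotientGroup.eq_one_iff]
      show π (ι (y⁻¹ * a y)) = 1
      rw [map_mul, map_inv, map_mul, map_inv, hπa, inv_mul_cancel]
    have hstep : ∀ j : ℕ, B (D.emb (ι ((((α : MulAut P)) ^ j) x))) =
        B (D.emb (ι x)) * r x ^ j := by
      intro j
      induction j with
      | zero => simp
      | succ j ih =>
        rw [pow_succ', MulAut.mul_apply, pow_succ, ← mul_assoc, ← ih]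
        have h1 : r (((α : MulAut P) ^ j) x) = r x := by
          clear ih
          induction j with
          | zero => simp
          | succ j ihj =>
            rw [pow_succ', MulAut.mul_apply]
            exact (hra _).trans ihj
        rw [← h1]
        exact (mul_div_cancel _ _).symm
    have hj := hstep (orderOf α)
    have hone : ((α : MulAut P)) ^ orderOf α = 1 := by
      rw [← Subgroup.coe_pow, pow_orderOf_eq_one, Subgroup.coe_one]
    rw [hone, MulAut.one_apply] at hj
    have hr1 : r x ^ orderOf α = 1 := left_eq_mul.mp hj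
    have hrp : r x ^ p = 1 := by
      have : Nat.card (Multiplicative (ZMod p)) = p := by simp
      calc r x ^ p = r x ^ Nat.card (Multiplicative (ZMod p)) := by rw [this]
        _ = 1 := pow_card_eq_one'
    have hr : r x = 1 := by
      rw [← orderOf_eq_one_iff]
      exact Nat.eq_one_of_dvd_coprimes hord (orderOf_dvd_of_pow_eq_one hr1)
        (orderOf_dvd_of_pow_eq_one hrp)
    exact div_eq_one.mp hr
  have hd1 : d 1 1 = 1 := by
    have : β (1 : S) = 1 := by simpa using hβ0 1
    simp [d, this]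
  let C : T →* Multiplicative (ZMod p) := MonoidHom.mk' (fun t => B (D.emb (t : S))) fun x y => by
    show B (D.emb ((x : S) * y)) = _
    rw [hBS, hd 1 1 (x : S) (y : S) (((QuotientGroup.eq_one_iff _).mpr x.2).trans (map_one π).symm)
      (((QuotientGroup.eq_one_iff _).mpr y.2).trans (map_one π).symm), hd1, one_pow, mul_one]
  have hC : ∀ t : T, C t = 1 := by
    suffices hcl : ∀ y ∈ F.hyperfocalSubgroup p, ∃ hy : y ∈ S, B (D.emb ⟨y, hy⟩) = 1 by
      intro t
      obtain ⟨_, h1⟩ := hcl _ ((hTm _).mp t.2)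
      exact h1
    intro y hy
    have hle : F.hyperfocalSubgroup p ≤ (C.ker.map T.subtype).map S.subtype := by
      rw [hyperfocalSubgroup, Subgroup.closure_le]
      rintro _ ⟨P, α, x, hP, hα, rfl⟩
      -- the stabiliser of `B`
      haveI := H85.finite_autGroup F hP
      let ι : P →* S := Subgroup.inclusion hP
      let W : Subgroup (F.autGroup P) :=
        { carrier := {a | ∀ z : P, B (D.emb (ι ((a : MulAut P) z))) = B (D.emb (ι z))}
          one_mem' := fun z => rfl
          mul_mem' := fun {a b} ha hb z => (ha ((b : MulAut P) z)).trans (hb z)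
          inv_mem' := fun {a} ha z => by
            have h1 := ha ((a : MulAut P)⁻¹ z)
            rw [MulAut.apply_inv_self] at h1
            exact h1.symm }
      have hαW : α ∈ W := (Subgroup.closure_le W).mpr (fun a ha z => hkey P hP a ha z) hα
      have hmem : (ι x)⁻¹ * ι ((α : MulAut P) x) ∈ T :=
        (hTm _).mpr (Subgroup.subset_closure ⟨P, α, x, hP, hα, rfl⟩)
      refine ⟨_, ⟨⟨_, hmem⟩, ?_, rfl⟩, rfl⟩
      have h2 := hBS (ι x) ((ι x)⁻¹ * ι ((α : MulAut P) x))
      rw [mul_inv_cancel_left, hαW x] at h2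
      have h3 : d (ι x) ((ι x)⁻¹ * ι ((α : MulAut P) x)) = 1 := by
        rw [hd (ι x) 1 (ι x) _ rfl (((QuotientGroup.eq_one_iff _).mpr hmem).trans (map_one π).symm)]
        have : β (1 : S) = 1 := by simpa using hβ0 1
        simp [d, this]
      rw [h3, one_pow, mul_one] at h2
      exact left_eq_mul.mp h2
    obtain ⟨a, ⟨t, ht, rfl⟩, rfl⟩ := hle hy
    exact ⟨(t : S).2, ht⟩
  -- the extension
  let θ₀ : S →* Multiplicative (ZMod p) :=
    MonoidHom.mk' (fun x => β x ^ n / B (D.emb x)) fun x y => by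
      show β (x * y) ^ n / B (D.emb (x * y)) = β x ^ n / B (D.emb x) * (β y ^ n / B (D.emb y))
      have h1 : β (x * y) = d x y * (β x * β y) := (div_mul_cancel _ _).symm
      rw [hBS, h1, mul_pow, mul_pow, div_mul_div_comm, mul_comm (B (D.emb x) * B (D.emb y)),
        mul_div_mul_left_eq_div]
  have hθ₀ : ∀ a : T, θ₀ a = lam a ^ n := fun a => by
    show β a ^ n / B (D.emb (a : S)) = _
    rw [hβ0, show B (D.emb (a : S)) = 1 from hC a, div_one]
  have hcop : (Nat.card (Multiplicative (ZMod p))).Coprime n := by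
    rw [show Nat.card (Multiplicative (ZMod p)) = p by simp]
    exact (hp.out.coprime_iff_not_dvd).mpr D.index
  let e : Multiplicative (ZMod p) ≃* Multiplicative (ZMod p) :=
    MulEquiv.ofBijective (powMonoidHom n : _ →* Multiplicative (ZMod p)) (powCoprime hcop).bijective
  refine ⟨e.symm.toMonoidHom.comp θ₀, fun a => ?_⟩
  show e.symm (θ₀ a) = lam a
  rw [hθ₀, MulEquiv.symm_apply_eq]
  rfl

/-- Tate: if every character killing `foc(H)` kills `foc(F)`, then the hyperfocal subgroups agree. -/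
theorem hyperfocal_eq_of_characters [Finite S] {p : ℕ} [Fact p.Prime] (hS : IsPGroup p S)
    {F H : FusionSystem S} (hF : F.IsSaturated p) (hH : H.IsSaturated p)
    (hHF : H.IsSubsystemOf F)
    (h : ∀ θ : S →* Multiplicative (ZMod p), H.focalSubgroup ≤ θ.ker.map S.subtype →
      F.focalSubgroup ≤ θ.ker.map S.subtype) :
    F.hyperfocalSubgroup p = H.hyperfocalSubgroup p := by
  refine le_antisymm ?_ (hyperfocal_mono hHF p)
  set T := (F.hyperfocalSubgroup p).subgroupOf S with hT
  set R := (H.hyperfocalSubgroup p).subgroupOf S with hR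
  haveI hTn : T.Normal := ⟨fun a ha x => H86.conj_mem_hyperfocal F p x.2 ha⟩
  haveI hRn : R.Normal := ⟨fun a ha x => H86.conj_mem_hyperfocal H p x.2 ha⟩
  have hle : R ≤ T := fun a ha => hyperfocal_mono hHF p ha
  rcases hle.eq_or_lt with he | hlt
  · intro y hy
    have : (⟨y, H86.hyperfocal_le F p hy⟩ : S) ∈ R := he ▸ hy
    exact this
  exfalso
  obtain ⟨lam, hinv, hkill, a, ha⟩ := exists_invariant_character (p := p) hS hlt
  obtain ⟨θ, hθ⟩ := exists_extend_hyperfocal hS hF hT lam hinv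
  have hfocH : H.focalSubgroup ≤ θ.ker.map S.subtype := by
    rw [H85.focalSubgroup_eq hS hH]
    refine sup_le ?_ ?_
    · intro y hy
      have hyS := H86.hyperfocal_le H p hy
      refine ⟨⟨y, hyS⟩, ?_, rfl⟩
      show θ _ = 1
      rw [hθ ⟨⟨y, hyS⟩, hyperfocal_mono hHF p hy⟩]
      exact hkill _ hy
    · rw [← Subgroup.map_subtype_commutator]
      exact Subgroup.map_mono (Abelianization.commutator_subset_ker θ)
  have h1 : ((a : S) : Ω) ∈ F.focalSubgroup := by
    rw [H85.focalSubgroup_eq hS hF]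
    exact Subgroup.mem_sup_left a.2
  obtain ⟨b, hb, hbe⟩ := h θ hfocH h1
  exact ha ((hθ a).symm.trans ((Subtype.ext hbe : b = (a : S)) ▸ hb))

theorem focal_eq_of_hyperfocal_eq [Finite S] {p : ℕ} [Fact p.Prime] (hS : IsPGroup p S)
    {F H : FusionSystem S} (hF : F.IsSaturated p) (hH : H.IsSaturated p)
    (h : F.hyperfocalSubgroup p = H.hyperfocalSubgroup p) :
    F.focalSubgroup = H.focalSubgroup := by
  rw [H85.focalSubgroup_eq hS hF, H85.focalSubgroup_eq hS hH, h]

end H5
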