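import Cfsg.Agent.H5.Yoshida

/-!
From a non-trivial norm to iterated commutators and to a quotient `Z_p ≀ Z_p`.
-/

set_option autoImplicit false
set_option linter.style.haveILetI false

namespace H5

open Subgroup Finset

open scoped fwdDiff

theorem choose_pred_prime_cast (p : ℕ) [hp : Fact p.Prime] {k : ℕ} (hk : k ≤ p - 1) :
    (((p - 1).choose k : ℕ) : ZMod p) = (-1) ^ k := by
  induction k with
  | zero => simp
  | succ k ih =>
    have h1 : p.choose (k + 1) = (p - 1).choose k + (p - 1).choose (k + 1) := by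
      conv_lhs => rw [show p = p - 1 + 1 from by have := hp.out.pos; omega]
      exact Nat.choose_succ_succ' _ _
    have h2 : ((p.choose (k + 1) : ℕ) : ZMod p) = 0 :=
      (ZMod.natCast_eq_zero_iff _ _).mpr (hp.out.dvd_choose_self (by omega) (by omega))
    rw [h1, Nat.cast_add, ih (by omega)] at h2
    rw [pow_succ, eq_neg_of_add_eq_zero_right h2]
    ring

/-- In characteristic `p` the `(p-1)`-st difference is the norm. -/
theorem fwdDiff_iter_pred_prime (p : ℕ) [hp : Fact p.Prime] (f : ℕ → ZMod p) (y : ℕ) :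
    (Δ_[1])^[p - 1] f y = ∑ k ∈ range p, f (y + k) := by
  rw [fwdDiff_iter_eq_sum_shift, show p - 1 + 1 = p by have := hp.out.pos; omega]
  refine Finset.sum_congr rfl fun k hk => ?_
  have hk' : k ≤ p - 1 := by have := Finset.mem_range.mp hk; omega
  rw [smul_eq_mul k 1, mul_one, zsmul_eq_mul]
  push_cast
  rw [choose_pred_prime_cast p hk', ← pow_add, show p - 1 - k + k = p - 1 by omega,
    ZMod.pow_card_sub_one_eq_one (neg_ne_zero.mpr one_ne_zero), one_mul]

/-- `y ↦ [y, z] = y⁻¹ z⁻¹ y z`. -/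
def commStep {T : Type*} [Group T] (z : T) (y : T) : T := y⁻¹ * z⁻¹ * y * z

variable {T : Type*} [Group T] {p : ℕ} [hp : Fact p.Prime] {M : Subgroup T} [hMn : M.Normal]

theorem commStep_mem (z : T) {y : T} (hy : y ∈ M) : commStep z y ∈ M := by
  have h : commStep z y = y⁻¹ * (z⁻¹ * y * (z⁻¹)⁻¹) := by simp [commStep, mul_assoc]
  rw [h]
  exact M.mul_mem (M.inv_mem hy) (hMn.conj_mem y hy _)

theorem commStep_iterate_mem (z : T) {y : T} (hy : y ∈ M) (k : ℕ) : (commStep z)^[k] y ∈ M := by
  induction k with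
  | zero => exact hy
  | succ k ih => rw [Function.iterate_succ_apply']; exact commStep_mem z ih

/-- The values of `ν` on the `z`-conjugates of an element, written additively. -/
noncomputable def conjSeq (ν : M →* Multiplicative (ZMod p)) (z : T) (y : M) (j : ℕ) : ZMod p :=
  (ν ⟨(z ^ j)⁻¹ * y * z ^ j, by simpa using hMn.conj_mem _ y.2 (z ^ j)⁻¹⟩).toAdd

theorem conjSeq_mul (ν : M →* Multiplicative (ZMod p)) (z : T) (a b : M) :
    conjSeq ν z (a * b) = conjSeq ν z a + conjSeq ν z b := by
  funext j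
  simp only [conjSeq, Pi.add_apply, ← toAdd_mul, ← map_mul]
  congr 2
  exact Subtype.ext (by simp [mul_assoc])

theorem conjSeq_commStep (ν : M →* Multiplicative (ZMod p)) (z : T) {y : T} (hy : y ∈ M) :
    conjSeq ν z ⟨commStep z y, commStep_mem z hy⟩ = Δ_[1] (conjSeq ν z ⟨y, hy⟩) := by
  funext j
  simp only [conjSeq, fwdDiff]
  rw [← toAdd_div, div_eq_inv_mul, ← map_inv, ← map_mul]
  congr 2
  apply Subtype.ext
  simp only [commStep, Subgroup.coe_mul, Subgroup.coe_inv, pow_succ']
  group

theorem conjSeq_iterate (ν : M →* Multiplicative (ZMod p)) (z : T) {y : T} (hy : y ∈ M) (k : ℕ) :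
    conjSeq ν z ⟨(commStep z)^[k] y, commStep_iterate_mem z hy k⟩ =
      (Δ_[1])^[k] (conjSeq ν z ⟨y, hy⟩) := by
  induction k with
  | zero => rfl
  | succ k ih =>
    simp only [Function.iterate_succ_apply']
    rw [← ih, ← conjSeq_commStep ν z (commStep_iterate_mem z hy k)]

theorem sum_conjSeq (ν : M →* Multiplicative (ZMod p)) (z : T) {w : T} (hw : w ∈ M) :
    ∑ i ∈ range p, conjSeq ν z ⟨w, hw⟩ i = (∏ i ∈ range p,
      ν ⟨(z ^ i)⁻¹ * w * z ^ i, by simpa using hMn.conj_mem w hw (z ^ i)⁻¹⟩).toAdd := by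
  rw [toAdd_prod]
  rfl

/-- A non-trivial norm survives in the iterated commutator. -/
theorem map_iterate_ne_one (ν : M →* Multiplicative (ZMod p)) (z : T) {w : T} (hw : w ∈ M)
    (hne : (∏ i ∈ range p,
      ν ⟨(z ^ i)⁻¹ * w * z ^ i, by simpa using hMn.conj_mem w hw (z ^ i)⁻¹⟩) ≠ 1) :
    ν ⟨(commStep z)^[p - 1] w, commStep_iterate_mem z hw _⟩ ≠ 1 := by
  intro h
  apply hne
  have h1 := congrFun (conjSeq_iterate ν z hw (p - 1)) 0
  rw [fwdDiff_iter_pred_prime] at h1
  simp only [zero_add] at h1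
  rw [sum_conjSeq, conjSeq] at h1
  simp only [pow_zero, inv_one, one_mul, mul_one, h, toAdd_one] at h1
  exact toAdd_eq_zero.mp h1.symm

/-- A `p`-group with a non-trivial norm has `Z_p ≀ Z_p`, realised in `Sym(p²)`, as a quotient. -/
theorem exists_surj_sylow_perm [Finite T] (hT : IsPGroup p T) (hM : IsCoatom M)
    (ν : M →* Multiplicative (ZMod p)) {z w : T} (hz : z ∉ M) (hw : w ∈ M)
    (hne : (∏ i ∈ range p,
      ν ⟨(z ^ i)⁻¹ * w * z ^ i, by simpa using hMn.conj_mem w hw (z ^ i)⁻¹⟩) ≠ 1) :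
    ∃ (P : Sylow p (Equiv.Perm (Fin (p ^ 2))))
      (f : T →* ↥(P : Subgroup (Equiv.Perm (Fin (p ^ 2))))), Function.Surjective f := by
  classical
  have hzp : z ^ p ∈ M := by
    rw [← QuotientGroup.eq_one_iff]
    show QuotientGroup.mk' M (z ^ p) = 1
    rw [map_pow, ← H31.card_quotient_coatom hT hM, pow_card_eq_one']
  have hindex : M.index = p := by
    rw [index_eq_card]; exact H31.card_quotient_coatom hT hM
  -- periodicity
  have hper : ∀ (y : M) (j : ℕ), conjSeq ν z y (j + p) = conjSeq ν z y j := by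
    intro y j
    simp only [conjSeq]
    congr 1
    have h1 : (⟨(z ^ (j + p))⁻¹ * y * z ^ (j + p), by
        simpa using hMn.conj_mem _ y.2 (z ^ (j + p))⁻¹⟩ : M) =
        ⟨z ^ p, hzp⟩⁻¹ * ⟨(z ^ j)⁻¹ * y * z ^ j, by simpa using hMn.conj_mem _ y.2 (z ^ j)⁻¹⟩ *
          ⟨z ^ p, hzp⟩ := by
      apply Subtype.ext
      simp only [Subgroup.coe_mul, Subgroup.coe_inv, pow_add]
      group
    rw [h1, map_mul, map_mul, map_inv, inv_mul_cancel_comm]
  have hΔp : ∀ y : M, (Δ_[1])^[p] (conjSeq ν z y) = 0 := by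
    intro y
    funext j
    have h0 : (Δ_[1])^[p] (conjSeq ν z y) = Δ_[1] ((Δ_[1])^[p - 1] (conjSeq ν z y)) := by
      rw [← Function.iterate_succ_apply' (fwdDiff (1 : ℕ)), Nat.succ_eq_add_one,
        Nat.sub_add_cancel hp.out.one_le]
    rw [h0, fwdDiff, fwdDiff_iter_pred_prime, fwdDiff_iter_pred_prime, Pi.zero_apply, sub_eq_zero]
    have h2 := Finset.sum_range_succ' (fun k => conjSeq ν z y (j + k)) p
    have h3 := Finset.sum_range_succ (fun k => conjSeq ν z y (j + k)) p
    simp only [hper, add_zero] at h2 h3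
    rw [h3] at h2
    have h4 := add_right_cancel h2
    rw [h4]
    exact Finset.sum_congr rfl fun k _ => by rw [add_right_comm, add_assoc]
  have hd0 : (Δ_[1]) (0 : ℕ → ZMod p) = 0 := by funext j; simp [fwdDiff]
  -- the chain `{m | Δ^k (conjSeq m) = 0}`
  let K : ℕ → Subgroup M := fun k =>
    { carrier := {m | (Δ_[1])^[k] (conjSeq ν z m) = 0}
      one_mem' := by
        have h : conjSeq ν z (1 : M) = 0 := by
          have h1 := conjSeq_mul ν z 1 1
          rw [mul_one] at h1
          simpa using h1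
        show (Δ_[1])^[k] (conjSeq ν z (1 : M)) = 0
        rw [h]
        exact Function.iterate_fixed hd0 k
      mul_mem' := fun {a b} (ha : (Δ_[1])^[k] (conjSeq ν z a) = 0) hb => by
        show (Δ_[1])^[k] (conjSeq ν z (a * b)) = 0
        rw [conjSeq_mul, fwdDiff_iter_add, ha, hb, add_zero]
      inv_mem' := fun {a} (ha : (Δ_[1])^[k] (conjSeq ν z a) = 0) => by
        show (Δ_[1])^[k] (conjSeq ν z a⁻¹) = 0
        have h1 := conjSeq_mul ν z a a⁻¹
        rw [mul_inv_cancel] at h1
        have h2 := congrArg ((Δ_[1])^[k]) h1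
        rw [fwdDiff_iter_add, ha, zero_add] at h2
        rw [← h2]
        have h : conjSeq ν z (1 : M) = 0 := by
          have h1 := conjSeq_mul ν z 1 1
          rw [mul_one] at h1
          simpa using h1
        rw [h]
        exact Function.iterate_fixed hd0 k }
  have hKstep : ∀ k < p, p * Nat.card (K k) ∣ Nat.card (K (k + 1)) := by
    intro k hk
    have hle : K k ≤ K (k + 1) := fun m (hm : (Δ_[1])^[k] (conjSeq ν z m) = 0) => by
      show (Δ_[1])^[k + 1] (conjSeq ν z m) = 0
      rw [Function.iterate_succ_apply', hm]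
      exact hd0
    set y : M := ⟨(commStep z)^[p - 1 - k] w, commStep_iterate_mem z hw _⟩
    have hy : ∀ i, (Δ_[1])^[i] (conjSeq ν z y) = (Δ_[1])^[i + (p - 1 - k)] (conjSeq ν z ⟨w, hw⟩) := by
      intro i
      rw [conjSeq_iterate ν z hw, ← Function.iterate_add_apply]
    have hy1 : y ∈ K (k + 1) := by
      show (Δ_[1])^[k + 1] (conjSeq ν z y) = 0
      rw [hy, show k + 1 + (p - 1 - k) = p by omega, hΔp]
    have hy0 : y ∉ K k := by
      intro (h0 : (Δ_[1])^[k] (conjSeq ν z y) = 0)
      rw [hy, show k + (p - 1 - k) = p - 1 by omega] at h0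
      have h1 := congrFun h0 0
      rw [fwdDiff_iter_pred_prime] at h1
      simp only [zero_add, sum_conjSeq, Pi.zero_apply, toAdd_eq_zero] at h1
      exact hne h1
    have hlt : K k < K (k + 1) := lt_of_le_of_ne hle fun e => hy0 (e ▸ hy1)
    obtain ⟨a, ha⟩ := IsPGroup.iff_card.mp ((hT.to_subgroup M).to_subgroup (K k))
    obtain ⟨b, hb⟩ := IsPGroup.iff_card.mp ((hT.to_subgroup M).to_subgroup (K (k + 1)))
    have hab : a < b := by
      refine lt_of_not_ge fun hle' => hlt.ne (eq_of_le_of_card_ge hle ?_)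
      rw [ha, hb]
      exact Nat.pow_le_pow_right hp.out.pos hle'
    rw [ha, hb, ← pow_succ']
    exact pow_dvd_pow p hab
  have hKcard : ∀ k ≤ p, p ^ k * Nat.card (K 0) ∣ Nat.card (K k) := by
    intro k
    induction k with
    | zero => simp
    | succ k ih =>
      intro hk
      refine dvd_trans ?_ (hKstep k (by omega))
      rw [pow_succ', mul_assoc]
      exact Nat.mul_dvd_mul_left p (ih (by omega))
  -- the action on the cosets of `ker ν`
  set L : Subgroup T := ν.ker.map M.subtype with hL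
  have hνs : Function.Surjective ν := by
    rw [← MonoidHom.range_eq_top]
    have hA : Nat.card (Multiplicative (ZMod p)) = p := by simp
    rcases (Nat.dvd_prime hp.out).mp (hA ▸ card_subgroup_dvd_card ν.range) with h | h
    · exfalso
      apply hne
      refine Finset.prod_eq_one fun i _ => ?_
      have hbot : ν.range = ⊥ := Subgroup.card_eq_one.mp h
      have : ν ⟨(z ^ i)⁻¹ * w * z ^ i, by
          simpa using hMn.conj_mem w hw (z ^ i)⁻¹⟩ ∈ ν.range := ⟨_, rfl⟩
      rw [hbot] at this
      exact mem_bot.mp this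
    · exact eq_top_of_card_eq _ (h.trans hA.symm)
  have hLi : L.index = p ^ 2 := by
    rw [hL, index_map, M.ker_subtype, sup_bot_eq, M.range_subtype, hindex, index_ker,
      MonoidHom.range_eq_top.mpr hνs, card_top]
    simp [pow_two]
  have e : T ⧸ L ≃ Fin (p ^ 2) := Finite.equivFinOfCardEq (by rw [← index_eq_card, hLi])
  let f₀ : T →* Equiv.Perm (Fin (p ^ 2)) :=
    e.permCongrHom.toMonoidHom.comp (MulAction.toPermHom T (T ⧸ L))
  have hker : f₀.ker = L.normalCore := by
    rw [normalCore_eq_ker]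
    exact MonoidHom.ker_comp_of_injective _ _ e.permCongrHom.injective
  have hlower : p ^ (p + 1) ∣ Nat.card f₀.range := by
    rw [← index_ker, hker]
    have hcoreM : L.normalCore ≤ M := (normalCore_le L).trans (map_subtype_le _)
    have hcoreK : L.normalCore.subgroupOf M ≤ K 0 := by
      intro m hm
      show conjSeq ν z m = 0
      funext j
      have h1 := (normalCore_normal L).conj_mem _ (mem_subgroupOf.mp hm) (z ^ j)⁻¹
      obtain ⟨m', hm', he⟩ := normalCore_le L h1
      simp only [conjSeq, Pi.zero_apply, toAdd_eq_zero]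
      convert MonoidHom.mem_ker.mp hm' using 2
      exact Subtype.ext (by simpa using he.symm)
    rw [← relIndex_mul_index hcoreM, hindex, pow_succ]
    refine Nat.mul_dvd_mul_right ?_ p
    show p ^ p ∣ (L.normalCore.subgroupOf M).index
    refine Nat.dvd_trans ?_ (index_dvd_of_le hcoreK)
    have h1 := hKcard p le_rfl
    have h2 : p ^ p * Nat.card (K 0) ∣ Nat.card M :=
      h1.trans (card_subgroup_dvd_card _)
    rw [← (K 0).card_mul_index, mul_comm] at h2
    exact Nat.dvd_of_mul_dvd_mul_left Nat.card_pos h2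
  have hfr : IsPGroup p f₀.range := hT.of_surjective f₀.rangeRestrict f₀.rangeRestrict_surjective
  obtain ⟨P, hP⟩ := hfr.exists_le_sylow
  have hPcard : Nat.card P = p ^ (p + 1) := by
    rw [P.card_eq_multiplicity, Nat.card_perm, Nat.card_fin, pow_two,
      Nat.factorization_factorial_mul hp.out]
    congr 1
    have h1 := Nat.factorization_factorial_mul (n := 1) hp.out
    rw [mul_one] at h1
    rw [h1]
    simp [add_comm]
  have heq : f₀.range = (P : Subgroup _) := eq_of_le_of_card_ge hP (by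
    rw [show Nat.card ↥(P : Subgroup (Equiv.Perm (Fin (p ^ 2)))) = p ^ (p + 1) from hPcard]
    exact Nat.le_of_dvd Nat.card_pos hlower)
  exact ⟨P, (MulEquiv.subgroupCongr heq).toMonoidHom.comp f₀.rangeRestrict,
    (MulEquiv.subgroupCongr heq).surjective.comp f₀.rangeRestrict_surjective⟩

end H5
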