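import Cfsg.Agent.H5.Yoshida

/-!
A nontrivial transfer on a moved orbit gives a nontrivial norm.
-/

set_option autoImplicit false
set_option linter.style.haveILetI false

namespace H5

open Subgroup

variable {G : Type*} [Group G] [Finite G] {p : ℕ} [hp : Fact p.Prime]

theorem exists_norm_of_orbit {N : Subgroup G} (φ : N →* Multiplicative (ZMod p)) {T : Subgroup G}
    (hTp : IsPGroup p T) {u : G} (huT : u ∈ T)
    (hsmall : ∀ (t : G) (k : ℕ), 1 < k → k ∣ orderOf u → ∀ h : t⁻¹ * u ^ k * t ∈ N,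
      φ ⟨_, h⟩ = 1)
    (orb : G ⧸ N → Finset (G ⧸ N)) (horb : ∀ q x, x ∈ orb q ↔ x ∈ MulAction.orbit T q)
    (q₀ : G ⧸ N) (hne : ∏ q ∈ orb q₀, coc N φ u q ≠ 1) (hmove : ¬ ∀ t : T, t • q₀ = q₀) :
    ∃ (M : Subgroup T) (hMn : M.Normal) (ν : M →* Multiplicative (ZMod p)) (z w : T),
      IsCoatom M ∧ z ∉ M ∧
      ∃ hw : w ∈ M, (∏ i ∈ Finset.range p,
        ν ⟨(z ^ i)⁻¹ * w * z ^ i, by
          simpa using hMn.conj_mem w hw (z ^ i)⁻¹⟩) ≠ 1 := by
  classical
  haveI : Fintype (G ⧸ N) := Fintype.ofFinite _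
  have horbinv : ∀ (t : G), t ∈ T → ∀ q ∈ orb q₀, t • q ∈ orb q₀ := by
    intro t ht q hq
    rw [horb] at hq ⊢
    obtain ⟨s, rfl⟩ := hq
    exact ⟨⟨t, ht⟩ * s, mul_smul _ _ _⟩
  obtain ⟨q₁, hq₁, huq₁⟩ : ∃ q₁ ∈ orb q₀, u • q₁ = q₁ := by
    by_contra hcon
    push Not at hcon
    exact hne (prod_coc_eq_one φ hsmall _ (horbinv u huT) hcon)
  -- the maximal subgroup
  set D := MulAction.stabilizer T q₁
  have hDtop : D ≠ ⊤ := by
    intro htop
    obtain ⟨s, hs⟩ := (horb _ _).mp hq₁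
    refine hmove fun t => ?_
    have h2 : ∀ r : T, r • q₁ = q₁ := fun r => by
      have : r ∈ D := htop ▸ mem_top _
      exact this
    rw [show q₀ = s⁻¹ • q₁ from eq_inv_smul_iff.mpr hs, ← mul_smul, h2, h2]
  obtain ⟨M, hM, hDM⟩ := (eq_top_or_exists_le_coatom D).resolve_left hDtop
  haveI := hTp.isNilpotent
  have hMn : M.Normal :=
    NormalizerCondition.normal_of_coatom M Group.normalizerCondition_of_isNilpotent hM
  have huM : (⟨u, huT⟩ : T) ∈ M := hDM huq₁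
  obtain ⟨z, -, hzM⟩ := SetLike.exists_of_lt (lt_top_iff_ne_top.mpr hM.1)
  have hcard := H31.card_quotient_coatom hTp hM
  have hzord : orderOf (QuotientGroup.mk' M z) = p := by
    have hd := orderOf_dvd_natCard (QuotientGroup.mk' M z)
    rw [hcard] at hd
    refine ((Nat.dvd_prime hp.out).mp hd).resolve_left fun h1 => hzM ?_
    exact (QuotientGroup.eq_one_iff _).mp (orderOf_eq_one_iff.mp h1)
  have hzrep : ∀ t : T, ∃ i < p, (z ^ i)⁻¹ * t ∈ M := by
    intro t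
    have h1 : QuotientGroup.mk' M t ∈ zpowers (QuotientGroup.mk' M z) := by
      rw [zpowers_eq_top_of_prime_card hcard]
      · exact mem_top _
      · intro h1; exact hzM ((QuotientGroup.eq_one_iff _).mp h1)
    rw [← mem_powers_iff_mem_zpowers, mem_powers_iff_mem_range_orderOf, hzord,
      Finset.mem_image] at h1
    obtain ⟨i, hi, hit⟩ := h1
    refine ⟨i, Finset.mem_range.mp hi, (QuotientGroup.eq_one_iff _).mp ?_⟩
    show QuotientGroup.mk' M ((z ^ i)⁻¹ * t) = 1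
    rw [map_mul, map_inv, map_pow, hit, inv_mul_cancel]
  let O₀ : Finset (G ⧸ N) := Finset.univ.filter fun x => x ∈ MulAction.orbit M q₁
  have hO₀inv : ∀ m : M, ∀ q ∈ O₀, ((m : T) : G) • q ∈ O₀ := by
    intro m q hq
    simp only [O₀, Finset.mem_filter, Finset.mem_univ, true_and] at hq ⊢
    obtain ⟨s, rfl⟩ := hq
    exact ⟨m * s, mul_smul m s q₁⟩
  let ν : M →* Multiplicative (ZMod p) :=
    MonoidHom.mk' (fun m => ∏ q ∈ O₀, coc N φ ((m : T) : G) q)
      fun a c => prod_coc_mul φ O₀ (hO₀inv c)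
  refine ⟨M, hMn, ν, z, ⟨u, huT⟩, hM, hzM, huM, ?_⟩
  -- the orbit is the disjoint union of the translates of `O₀`
  let O : ℕ → Finset (G ⧸ N) := fun i => O₀.image (((z ^ i : T) : G) • ·)
  have hdis : ∀ i ∈ Finset.range p, ∀ j ∈ Finset.range p, i ≠ j → Disjoint (O i) (O j) := by
    intro i hi j hj hij
    rw [Finset.disjoint_left]
    intro x hxi hxj
    obtain ⟨a, ha, rfl⟩ := Finset.mem_image.mp hxi
    obtain ⟨c, hc, hce⟩ := Finset.mem_image.mp hxj
    simp only [O₀, Finset.mem_filter, Finset.mem_univ, true_and] at ha hc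
    obtain ⟨m, rfl⟩ := ha
    obtain ⟨m', rfl⟩ := hc
    have h1 : ((z ^ i * (m : T))⁻¹ * (z ^ j * (m' : T))) ∈ D := by
      show ((z ^ i * (m : T))⁻¹ * (z ^ j * (m' : T))) • q₁ = q₁
      rw [mul_smul, inv_smul_eq_iff, mul_smul, mul_smul]
      exact hce
    have h2 : QuotientGroup.mk' M ((z ^ i * (m : T))⁻¹ * (z ^ j * (m' : T))) = 1 :=
      (QuotientGroup.eq_one_iff _).mpr (hDM h1)
    simp only [map_mul, map_inv, map_pow, show ∀ y : M, QuotientGroup.mk' M (y : T) = 1 from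
      fun y => (QuotientGroup.eq_one_iff _).mpr y.2, mul_one, inv_mul_eq_one] at h2
    exact hij (pow_injOn_Iio_orderOf (x := QuotientGroup.mk' M z)
      (Set.mem_Iio.mpr (hzord.symm ▸ Finset.mem_range.mp hi))
      (Set.mem_Iio.mpr (hzord.symm ▸ Finset.mem_range.mp hj)) h2)
  have hcover : orb q₀ = (Finset.range p).biUnion O := by
    ext x
    rw [horb, Finset.mem_biUnion, ← MulAction.orbit_eq_iff.mpr ((horb _ _).mp hq₁)]
    constructor
    · rintro ⟨t, rfl⟩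
      obtain ⟨i, hi, him⟩ := hzrep t
      refine ⟨i, Finset.mem_range.mpr hi, Finset.mem_image.mpr
        ⟨(⟨_, him⟩ : M) • q₁, Finset.mem_filter.mpr ⟨Finset.mem_univ _,
          MulAction.mem_orbit q₁ (⟨_, him⟩ : M)⟩, ?_⟩⟩
      show (z ^ i) • ((z ^ i)⁻¹ * t) • q₁ = t • q₁
      rw [← mul_smul, mul_inv_cancel_left]
    · rintro ⟨i, -, hx⟩
      obtain ⟨a, ha, rfl⟩ := Finset.mem_image.mp hx
      simp only [O₀, Finset.mem_filter, Finset.mem_univ, true_and] at ha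
      obtain ⟨m, rfl⟩ := ha
      exact ⟨z ^ i * (m : T), mul_smul _ _ _⟩
  rw [hcover, Finset.prod_biUnion hdis] at hne
  convert hne using 1
  refine Finset.prod_congr rfl fun i _ => ?_
  rw [Finset.prod_image fun a _ c _ => (MulAction.injective _ ·)]
  set g : G := ((z ^ i : T) : G) with hg
  set m : M := ⟨(z ^ i)⁻¹ * ⟨u, huT⟩ * z ^ i, by
    simpa using hMn.conj_mem _ huM (z ^ i)⁻¹⟩ with hm
  have hcomm : g * ((m : T) : G) = u * g := by simp [hg, hm, mul_assoc]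
  have hmO := hO₀inv m
  have key : ∀ q, coc N φ g (((m : T) : G) • q) * coc N φ ((m : T) : G) q =
      coc N φ u (g • q) * coc N φ g q := fun q => by rw [← coc_mul, ← coc_mul, hcomm]
  show ∏ q ∈ O₀, coc N φ ((m : T) : G) q = _
  have hall : (∏ q ∈ O₀, coc N φ g q) * ∏ q ∈ O₀, coc N φ ((m : T) : G) q =
      (∏ q ∈ O₀, coc N φ u (g • q)) * ∏ q ∈ O₀, coc N φ g q := by
    rw [← prod_coc_mul φ O₀ hmO, ← Finset.prod_mul_distrib]
    exact Finset.prod_congr rfl fun q _ => by rw [coc_mul, key]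
  rw [mul_comm] at hall
  exact mul_right_cancel hall

end H5
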