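import Cfsg.Agent.H5.FusionTate
import Cfsg.Agent.H5.YoshidaOrbit
import Cfsg.Agent.H5.YoshidaNorm
import Cfsg.Agent.H85.LocalSystems

/-!
Yoshida's theorem for saturated fusion systems.
-/

set_option autoImplicit false
set_option linter.style.haveILetI false

open Cfsg Cfsg.FusionSystem

namespace H5

universe u

variable {Ω : Type u} [Group Ω] {S : Subgroup Ω}

theorem exists_norm_fusion [Finite S] {p : ℕ} [hp : Fact p.Prime] (hS : IsPGroup p S)
    {F H : FusionSystem S} (hF : F.IsSaturated p) (hH : H.IsSaturated p)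
    (hHF : H.IsSubsystemOf F) (htop : F.Hom S ⊆ H.Hom S)
    (hne : H.focalSubgroup ≠ F.focalSubgroup) :
    ∃ (M : Subgroup S) (hMn : M.Normal) (ν : M →* Multiplicative (ZMod p)) (z w : S),
      IsCoatom M ∧ z ∉ M ∧
      ∃ hw : w ∈ M, (∏ i ∈ Finset.range p,
        ν ⟨(z ^ i)⁻¹ * w * z ^ i, by
          simpa using hMn.conj_mem w hw (z ^ i)⁻¹⟩) ≠ 1 := by
  classical
  -- a character killing `foc(H)` but not `foc(F)`
  obtain ⟨lam, hlamH, hlamF⟩ : ∃ lam : S →* Multiplicative (ZMod p),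
      H.focalSubgroup ≤ lam.ker.map S.subtype ∧ ¬ F.focalSubgroup ≤ lam.ker.map S.subtype := by
    by_contra hcon
    push Not at hcon
    exact hne (focal_eq_of_hyperfocal_eq hS hF hH
      (hyperfocal_eq_of_characters hS hF hH hHF hcon)).symm
  obtain ⟨D⟩ := exists_transferData hS hF
  have hfocS : F.focalSubgroup ≤ S := by
    rw [focalSubgroup, Subgroup.closure_le]
    rintro _ ⟨P, φ, x, hφ, rfl⟩
    exact S.mul_mem (S.inv_mem (H85.source_le hφ x.2)) (H85.map_mem hφ x)
  -- minimal order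
  let Bad : ℕ → Prop := fun n => ∃ x : S, (x : Ω) ∈ F.focalSubgroup ∧ lam x ≠ 1 ∧ orderOf x = n
  have hex : ∃ n, Bad n := by
    obtain ⟨y, hy, hy'⟩ := SetLike.not_le_iff_exists.mp hlamF
    exact ⟨_, ⟨y, hfocS hy⟩, hy, fun h1 => hy' ⟨⟨y, hfocS hy⟩, h1, rfl⟩, rfl⟩
  obtain ⟨u, huF, hulam, hun⟩ := Nat.find_spec hex
  have hmin : ∀ x : S, (x : Ω) ∈ F.focalSubgroup → orderOf x < orderOf u → lam x = 1 := by
    intro x hx hlt
    by_contra h1
    exact Nat.find_min hex (hun ▸ hlt) ⟨x, hx, h1, rfl⟩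
  let χ : D.N →* Multiplicative (ZMod p) := lam.comp D.ψ
  obtain ⟨hinj⟩ : Nonempty (Function.Injective D.emb) := ⟨by
    -- an element of the kernel is fixed by all maps
    rw [injective_iff_map_eq_one]
    intro a ha
    obtain ⟨P, φ, hφ, hval⟩ := D.fixed 1
    have hmem : (1 : D.Γ)⁻¹ * D.emb a * 1 ∈ D.N := by simp [ha, D.N.one_mem]
    obtain ⟨haP, h1⟩ := hval a hmem
    have h2 : (⟨(1 : D.Γ)⁻¹ * D.emb a * 1, hmem⟩ : D.N) = 1 := Subtype.ext (by simp [ha])
    rw [h2, map_one, Subgroup.coe_one, ← map_one φ] at h1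
    have h3 := F.injective_of_mem hφ h1
    exact Subtype.ext (congrArg (fun z : P => (z : Ω)) h3).symm⟩
  set u' := D.emb u with hu'
  have hsmall : ∀ (t : D.Γ) (k : ℕ), 1 < k → k ∣ orderOf u' → ∀ h : t⁻¹ * u' ^ k * t ∈ D.N,
      χ ⟨_, h⟩ = 1 := by
    intro t k hk hkd h
    rw [hu', orderOf_injective D.emb hinj] at hkd
    obtain ⟨P, φ, hφ, hval⟩ := D.fixed t
    have h' : t⁻¹ * D.emb (u ^ k) * t ∈ D.N := by rwa [map_pow]
    obtain ⟨hP, hv⟩ := hval (u ^ k) h'
    have e : (⟨_, h⟩ : D.N) = ⟨_, h'⟩ := Subtype.ext (by simp [hu'])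
    show lam (D.ψ _) = 1
    rw [e]
    refine hmin _ ?_ ?_
    · rw [hv]
      have h1 : ((u ^ k : S) : Ω)⁻¹ * φ ⟨(u ^ k : S), hP⟩ ∈ F.focalSubgroup :=
        Subgroup.subset_closure ⟨P, φ, ⟨(u ^ k : S), hP⟩, hφ, rfl⟩
      have h2 : ((u ^ k : S) : Ω) ∈ F.focalSubgroup := by
        rw [Subgroup.coe_pow]
        exact pow_mem huF k
      have := mul_mem h2 h1
      rwa [mul_inv_cancel_left] at this
    · rw [← Subgroup.orderOf_coe, hv, orderOf_injective φ (F.injective_of_mem hφ),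
        Subgroup.orderOf_mk, Subgroup.orderOf_coe, orderOf_pow_of_dvd (by omega) hkd]
      exact Nat.div_lt_self (orderOf_pos u) hk
  haveI : Fintype (D.Γ ⧸ D.N) := Fintype.ofFinite _
  let V : D.Γ →* Multiplicative (ZMod p) := MonoidHom.mk' (fun g => ∏ q, coc D.N χ g q)
    fun a b => prod_coc_mul χ _ fun q _ => Finset.mem_univ _
  -- the transfer kills the focal subgroup
  have hV : V u' = 1 := by
    have hle : F.focalSubgroup ≤ ((V.comp D.emb).ker).map S.subtype := by
      rw [focalSubgroup, Subgroup.closure_le]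
      rintro _ ⟨P, φ, x, hφ, rfl⟩
      obtain ⟨g, hg⟩ := D.conj P φ hφ
      refine ⟨(⟨x, H85.source_le hφ x.2⟩ : S)⁻¹ * ⟨φ x, H85.map_mem hφ x⟩, ?_, rfl⟩
      show V (D.emb _) = 1
      rw [map_mul D.emb, map_inv D.emb, hg x, map_mul, map_mul, map_mul, map_inv, map_inv,
        mul_comm (V g), mul_inv_cancel_right, inv_mul_cancel]
    obtain ⟨w, hw, hwu⟩ := hle huF
    rw [hu', ← (Subtype.ext hwu : w = u)]
    exact hw
  set T := D.emb.range with hT
  have hTp : IsPGroup p T := hS.of_surjective _ D.emb.rangeRestrict_surjective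
  have huT : u' ∈ T := ⟨u, rfl⟩
  let orb : D.Γ ⧸ D.N → Finset (D.Γ ⧸ D.N) := fun q =>
    Finset.univ.filter fun x => x ∈ MulAction.orbit T q
  have horb : ∀ q x, x ∈ orb q ↔ x ∈ MulAction.orbit T q := fun q x => by simp [orb]
  -- the cosets fixed by all of `S`
  have hfixed : ∀ q : D.Γ ⧸ D.N, (∀ t : T, t • q = q) → coc D.N χ u' q = lam u := by
    intro q hq
    have hmem : ∀ a : S, q.out⁻¹ * D.emb a * q.out ∈ D.N := by
      intro a
      have h1 : D.emb a • (QuotientGroup.mk q.out : D.Γ ⧸ D.N) = QuotientGroup.mk q.out := by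
        rw [QuotientGroup.out_eq']
        exact hq ⟨_, a, rfl⟩
      rw [mul_assoc]
      exact QuotientGroup.eq.mp h1.symm
    obtain ⟨P, φ, hφ, hval⟩ := D.fixed q.out
    have hPS : P = S := le_antisymm (H85.source_le hφ) fun a ha =>
      (hval ⟨a, ha⟩ (hmem ⟨a, ha⟩)).1
    subst hPS
    have hφH := htop hφ
    obtain ⟨hu, hv⟩ := hval u (hmem u)
    have hqu : u' • q = q := hq ⟨u', huT⟩
    have e : coc D.N χ u' q = lam (D.ψ ⟨_, hmem u⟩) := by
      show lam (D.ψ _) = _
      congr 2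
      exact Subtype.ext (by rw [hu'] at hqu; simp only [hu', hqu])
    rw [e]
    have h1 : u⁻¹ * D.ψ ⟨_, hmem u⟩ ∈ lam.ker := by
      obtain ⟨w, hw, hwe⟩ := hlamH (Subgroup.subset_closure ⟨P, φ, ⟨u, hu⟩, hφH, rfl⟩)
      have : w = u⁻¹ * D.ψ ⟨_, hmem u⟩ := Subtype.ext (hwe.trans (by rw [← hv]; rfl))
      exact this ▸ hw
    rw [MonoidHom.mem_ker, map_mul, map_inv, inv_mul_eq_one] at h1
    exact h1.symm
  let Fix : Finset (D.Γ ⧸ D.N) := Finset.univ.filter fun q => ∀ t : T, t • q = q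
  obtain ⟨q₀, hq₀, hprod⟩ : ∃ q₀, (¬ ∀ t : T, t • q₀ = q₀) ∧
      ∏ q ∈ orb q₀, coc D.N χ u' q ≠ 1 := by
    by_contra hcon
    push Not at hcon
    have h1 : ∏ q ∈ Finset.univ.filter (fun q => ¬ ∀ t : T, t • q = q), coc D.N χ u' q = 1 := by
      set E := Finset.univ.filter (fun q : D.Γ ⧸ D.N => ¬ ∀ t : T, t • q = q) with hE
      rw [← Finset.prod_fiberwise_of_maps_to (t := E.image orb) (g := orb)
        (fun x hx => Finset.mem_image_of_mem _ hx)]
      refine Finset.prod_eq_one fun O hO => ?_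
      obtain ⟨q, hq, rfl⟩ := Finset.mem_image.mp hO
      rw [← hcon q (by simpa [hE] using hq)]
      refine Finset.prod_congr ?_ fun _ _ => rfl
      ext x
      rw [Finset.mem_filter, horb]
      constructor
      · rintro ⟨-, hx⟩
        rw [← horb, ← hx, horb]
        exact MulAction.mem_orbit_self x
      · intro hx
        refine ⟨?_, by ext y; rw [horb, horb, MulAction.orbit_eq_iff.mpr hx]⟩
        obtain ⟨s, rfl⟩ := hx
        simp only [hE, Finset.mem_filter, Finset.mem_univ, true_and] at hq ⊢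
        intro hall
        apply hq
        intro t
        have h2 : ∀ r : T, (r * s) • q = s • q := fun r => by rw [mul_smul]; exact hall r
        have h3 := h2 s⁻¹
        rw [inv_mul_cancel, one_smul] at h3
        rw [h3]
        exact hall t
    have hprodV : ∏ q, coc D.N χ u' q = 1 := hV
    rw [← Finset.prod_filter_mul_prod_filter_not Finset.univ (fun q => ∀ t : T, t • q = q), h1,
      mul_one, Finset.prod_congr rfl (fun q hq => hfixed q (Finset.mem_filter.mp hq).2),
      Finset.prod_const] at hprodV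
    set k := (Finset.univ.filter fun q : D.Γ ⧸ D.N => ∀ t : T, t • q = q).card with hk
    have hmod : Nat.card (D.Γ ⧸ D.N) ≡ k [MOD p] := by
      have h2 := hTp.card_modEq_card_fixedPoints (D.Γ ⧸ D.N)
      rwa [show Nat.card (MulAction.fixedPoints T (D.Γ ⧸ D.N)) = k by
        rw [hk, ← Fintype.card_subtype, ← Nat.card_eq_fintype_card]
        exact Nat.card_congr (Equiv.subtypeEquivRight fun q => Iff.rfl)] at h2
    have hkp : ¬ p ∣ k := fun hd => D.index
      ((Nat.modEq_zero_iff_dvd).mp (hmod.trans (Nat.modEq_zero_iff_dvd.mpr hd)))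
    apply hulam
    have hpow : lam u ^ p = 1 := by
      have : Nat.card (Multiplicative (ZMod p)) = p := by simp
      calc lam u ^ p = lam u ^ Nat.card (Multiplicative (ZMod p)) := by rw [this]
        _ = 1 := pow_card_eq_one'
    rw [← orderOf_eq_one_iff]
    exact Nat.eq_one_of_dvd_coprimes ((hp.out.coprime_iff_not_dvd).mpr hkp)
      (orderOf_dvd_of_pow_eq_one hpow) (orderOf_dvd_of_pow_eq_one hprodV)
  obtain ⟨M, hMn, ν, z, w, hM, hz, hw, hnorm⟩ :=
    exists_norm_of_orbit χ hTp huT hsmall orb horb q₀ hprod hq₀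
  -- back to `S`
  let e : S ≃* T := MonoidHom.ofInjective hinj
  let M' : Subgroup S := M.comap e.toMonoidHom
  have hM'n : M'.Normal := hMn.comap _
  let res : M' →* M :=
    (e.toMonoidHom.comp M'.subtype).codRestrict M fun a => a.2
  refine ⟨M', hM'n, ν.comp res, e.symm z, e.symm w, ?_, ?_, ?_, ?_⟩
  · have htopmap : (⊤ : Subgroup S).map e.toMonoidHom = ⊤ :=
      Subgroup.map_top_of_surjective e.toMonoidHom e.surjective
    have hMM : M'.map e.toMonoidHom = M := Subgroup.map_comap_eq_self_of_surjective e.surjective M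
    refine ⟨fun h => hM.1 ?_, fun K hK => ?_⟩
    · rw [← hMM, h, htopmap]
    · have h1 : M'.map e.toMonoidHom < K.map e.toMonoidHom :=
        (Subgroup.map_lt_map_iff_of_injective (f := e.toMonoidHom) e.injective).mpr hK
      rw [hMM] at h1
      refine Subgroup.map_injective (f := e.toMonoidHom) e.injective ?_
      rw [hM.2 _ h1, htopmap]
  · show e (e.symm z) ∉ M
    rwa [MulEquiv.apply_symm_apply]
  · show e (e.symm w) ∈ M
    rwa [MulEquiv.apply_symm_apply]
  · intro h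
    apply hnorm
    rw [← h]
    refine Finset.prod_congr rfl fun i _ => ?_
    rw [MonoidHom.comp_apply]
    congr 1
    apply Subtype.ext
    show (z ^ i)⁻¹ * w * z ^ i = e ((e.symm z ^ i)⁻¹ * e.symm w * e.symm z ^ i)
    simp

/-- The hypotheses of Yoshida's theorem, transported along `normalizerIn S S = S`. -/
theorem exists_norm_normalizer [Finite S] {p : ℕ} [Fact p.Prime] (hS : IsPGroup p S)
    {F : FusionSystem S} (hF : F.IsSaturated p) {S' : Subgroup Ω} (hS' : S' = S)
    (N : FusionSystem S') (hN : N.IsSaturated p) (hNF : N.IsSubsystemOf F)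
    (htop : F.Hom S ⊆ N.Hom S) (hne : N.focalSubgroup ≠ F.focalSubgroup) :
    ∃ (M : Subgroup S) (hMn : M.Normal) (ν : M →* Multiplicative (ZMod p)) (z w : S),
      IsCoatom M ∧ z ∉ M ∧
      ∃ hw : w ∈ M, (∏ i ∈ Finset.range p,
        ν ⟨(z ^ i)⁻¹ * w * z ^ i, by
          simpa using hMn.conj_mem w hw (z ^ i)⁻¹⟩) ≠ 1 := by
  subst hS'
  exact exists_norm_fusion hS hF hN hNF htop hne

end H5
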