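import Cfsg.Agent.H30.SymplecticType
import Cfsg.Agent.H29.AbelianInvariantSplit
import Mathlib.GroupTheory.SpecificGroups.Dihedral

/-!
Splitting a `p`-group with derived subgroup of order `p` and an abelian maximal centralizer of
exponent `p` as a small group times an elementary abelian one.
-/

set_option autoImplicit false

open Subgroup

namespace H5.GenExtra

variable {G : Type*} [Group G] {p : ℕ} {z u g : G}

/-- A group with commutators in `⟨z⟩`, with `⟨z⟩` central of order `p`, and a noncentral `u` of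
order `p` with abelian centralizer; `g` is any element not commuting with `u`. -/
structure Frame (p : ℕ) (z u g : G) : Prop where
  hz : orderOf z = p
  hzc : z ∈ center G
  hcomm : ∀ a b : G, a * b * a⁻¹ * b⁻¹ ∈ zpowers z
  hu : u ^ p = 1
  hg : ¬ Commute g u
  hab : ∀ x y : G, Commute x u → Commute y u → Commute x y

theorem exists_comHom (h : ∀ a b : G, a * b * a⁻¹ * b⁻¹ ∈ center G) (v : G) :
    ∃ f : G →* G, ∀ x, f x = x * v * x⁻¹ * v⁻¹ := by
  refine ⟨MonoidHom.mk' (fun x => x * v * x⁻¹ * v⁻¹) fun x y => ?_, fun x => rfl⟩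
  calc x * y * v * (x * y)⁻¹ * v⁻¹ = x * (y * v * y⁻¹ * v⁻¹) * (v * x⁻¹ * v⁻¹) := by group
    _ = (y * v * y⁻¹ * v⁻¹) * x * (v * x⁻¹ * v⁻¹) := by rw [mem_center_iff.1 (h y v) x]
    _ = (y * v * y⁻¹ * v⁻¹) * (x * v * x⁻¹ * v⁻¹) := by group
    _ = (x * v * x⁻¹ * v⁻¹) * (y * v * y⁻¹ * v⁻¹) := mem_center_iff.1 (h x v) _

theorem com_eq_one_iff (a b : G) : a * b * a⁻¹ * b⁻¹ = 1 ↔ Commute a b := by
  rw [mul_inv_eq_one, mul_inv_eq_iff_eq_mul]
  exact Iff.rfl

namespace Frame

theorem com_center (F : Frame p z u g) (a b : G) : a * b * a⁻¹ * b⁻¹ ∈ center G :=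
  (zpowers_le.2 F.hzc) (F.hcomm a b)

variable [hp : Fact p.Prime]

theorem zpow_eq_one_iff (F : Frame p z u g) {w : G} (hw : w ∈ zpowers z) (hw1 : w ≠ 1) (i : ℤ) :
    w ^ i = 1 ↔ (p : ℤ) ∣ i := by
  have : orderOf w = p := by
    refine orderOf_eq_prime ?_ hw1
    obtain ⟨k, rfl⟩ := hw
    show (z ^ k) ^ p = 1
    rw [← zpow_natCast, ← zpow_mul, mul_comm, zpow_mul, zpow_natCast, ← F.hz, pow_orderOf_eq_one,
      one_zpow]
  rw [← orderOf_dvd_iff_zpow_eq_one, this]

theorem c_ne (F : Frame p z u g) : g * u * g⁻¹ * u⁻¹ ≠ 1 :=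
  fun h => F.hg ((com_eq_one_iff g u).1 h)

theorem exists_zpow_c [Finite G] (F : Frame p z u g) {w : G} (hw : w ∈ zpowers z) :
    ∃ i : ℤ, (g * u * g⁻¹ * u⁻¹) ^ i = w := by
  set c := g * u * g⁻¹ * u⁻¹ with hc
  have hle : zpowers c ≤ zpowers z := zpowers_le.2 (F.hcomm g u)
  have : zpowers c = zpowers z := by
    refine eq_of_le_of_card_ge hle ?_
    rw [Nat.card_zpowers, Nat.card_zpowers, F.hz]
    refine le_of_eq (orderOf_eq_prime ?_ F.c_ne).symm
    have := (F.zpow_eq_one_iff (F.hcomm g u) F.c_ne p).2 dvd_rfl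
    rwa [zpow_natCast] at this
  exact mem_zpowers_iff.1 (this.symm ▸ hw)

theorem dvd_of_commute_u (F : Frame p z u g) {i : ℤ} (h : Commute (g ^ i) u) : (p : ℤ) ∣ i := by
  obtain ⟨f, hf⟩ := exists_comHom F.com_center u
  have h1 : f (g ^ i) = 1 := by rw [hf, com_eq_one_iff]; exact h
  rw [map_zpow, hf] at h1
  exact (F.zpow_eq_one_iff (F.hcomm g u) F.c_ne i).1 h1

theorem dvd_of_commute_g (F : Frame p z u g) {j : ℤ} (h : Commute (u ^ j) g) : (p : ℤ) ∣ j := by
  obtain ⟨f, hf⟩ := exists_comHom F.com_center g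
  have h1 : f (u ^ j) = 1 := by rw [hf, com_eq_one_iff]; exact h
  rw [map_zpow, hf] at h1
  exact (F.zpow_eq_one_iff (F.hcomm u g) (fun e => F.hg ((com_eq_one_iff u g).1 e).symm) j).1 h1

theorem exists_centralizer_part [Finite G] (F : Frame p z u g) (x : G) :
    ∃ i : ℤ, Commute ((g ^ i)⁻¹ * x) u := by
  obtain ⟨f, hf⟩ := exists_comHom F.com_center u
  obtain ⟨i, hi⟩ := F.exists_zpow_c (F.hcomm x u)
  refine ⟨i, (com_eq_one_iff _ u).1 ?_⟩
  rw [← hf, map_mul, map_inv, map_zpow, hf, hf, hi, inv_mul_cancel]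

theorem mem_center_of [Finite G] (F : Frame p z u g) {x : G} (hu : Commute x u)
    (hg : Commute x g) : x ∈ center G := by
  refine mem_center_iff.2 fun y => ?_
  obtain ⟨i, hi⟩ := F.exists_centralizer_part y
  have h2 : Commute x y := by
    have := (hg.zpow_right i).mul_right (F.hab x _ hu hi)
    rwa [mul_inv_cancel_left] at this
  exact h2.eq.symm

theorem decomp [Finite G] (F : Frame p z u g) (x : G) :
    ∃ i j : ℤ, ∃ w ∈ center G, x = g ^ i * u ^ j * w := by
  obtain ⟨i, hi⟩ := F.exists_centralizer_part x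
  set y := (g ^ i)⁻¹ * x with hy
  obtain ⟨f, hf⟩ := exists_comHom F.com_center g
  obtain ⟨j, hj⟩ := F.exists_zpow_c (inv_mem (F.hcomm y g))
  refine ⟨i, j, (u ^ j)⁻¹ * y, F.mem_center_of ?_ ((com_eq_one_iff _ g).1 ?_), ?_⟩
  · exact ((Commute.refl u).zpow_left j).inv_left.mul_left hi
  · rw [← hf, map_mul, map_inv, map_zpow, hf, hf]
    have e : (u * g * u⁻¹ * g⁻¹)⁻¹ = g * u * g⁻¹ * u⁻¹ := by group
    rw [← inv_zpow, e, hj, inv_mul_cancel]
  · rw [hy]; group

theorem exists_complement [Finite G] (F : Frame p z u g)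
    (hexp : ∀ w ∈ center G, w ^ p = 1) :
    ∃ A : Subgroup G, A ≤ center G ∧ A ⊓ zpowers z = ⊥ ∧ A ⊔ zpowers z = center G := by
  let iC : CommGroup (center G) :=
    { (center G).toGroup with mul_comm := fun a b => Subtype.ext (mem_center_iff.1 b.2 a) }
  obtain ⟨C, -, -, hint, hsup⟩ := Cfsg.Agent.H29.exists_complement_elementary (A := center G) hp.out ⊤
    (zpowers ⟨z, F.hzc⟩) ⊥ le_top bot_le (bot_inf_eq _)
    (fun a _ => Subgroup.mem_bot.2 (Subtype.ext (by simpa using hexp a a.2)))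
  refine ⟨C.map (center G).subtype, map_subtype_le _, ?_, ?_⟩
  · have := congrArg (Subgroup.map (center G).subtype) hint
    rwa [map_inf _ _ _ (subtype_injective _), MonoidHom.map_zpowers, Subgroup.map_bot] at this
  · have := congrArg (Subgroup.map (center G).subtype) hsup
    rwa [Subgroup.map_sup, MonoidHom.map_zpowers, ← MonoidHom.range_eq_map, range_subtype] at this

end Frame

/-- An internal direct product with a central factor. -/
theorem prod_equiv (E A : Subgroup G) (hA : A ≤ center G) (hinf : E ⊓ A = ⊥)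
    (hsup : E ⊔ A = ⊤) : Nonempty (G ≃* E × A) := by
  have hcomm : ∀ (e : E) (a : A), Commute (E.subtype e) (A.subtype a) :=
    fun e a => mem_center_iff.1 (hA a.2) e
  let f : E × A →* G := MonoidHom.noncommCoprod E.subtype A.subtype hcomm
  have hinj : Function.Injective f := by
    rw [injective_iff_map_eq_one]
    rintro ⟨e, a⟩ h
    have h' : (e : G) * (a : G) = 1 := h
    have he : (e : G) ∈ E ⊓ A := ⟨e.2, by rw [eq_inv_of_mul_eq_one_left h']; exact A.inv_mem a.2⟩
    rw [hinf, Subgroup.mem_bot] at he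
    rw [he, one_mul] at h'
    exact Prod.ext (Subtype.ext he) (Subtype.ext h')
  have hsurj : Function.Surjective f := by
    rw [← MonoidHom.range_eq_top, eq_top_iff, ← hsup, sup_le_iff]
    exact ⟨fun x hx => ⟨(⟨x, hx⟩, 1), by simp [f]⟩, fun x hx => ⟨(1, ⟨x, hx⟩), by simp [f]⟩⟩
  exact ⟨(MulEquiv.ofBijective f ⟨hinj, hsurj⟩).symm⟩

variable [hp : Fact p.Prime]

/-- The odd case: an extraspecial group of order `p ^ 3` and exponent `p` times an elementary
abelian group. -/
theorem split_odd {G : Type} [Group G] [Finite G] {z u g : G} (F : Frame p z u g)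
    (hexp : ∀ x : G, x ^ p = 1) :
    ∃ (E : Type) (_ : Group E) (A : Type) (_ : CommGroup A), Cfsg.IsExtraspecial p E ∧
      Nat.card E = p ^ 3 ∧ Monoid.exponent E = p ∧ (∀ a : A, a ^ p = 1) ∧ Nonempty (G ≃* E × A) := by
  have hpG : IsPGroup p G := fun x => ⟨1, by rw [pow_one]; exact hexp x⟩
  have hzp : ∀ i : ℤ, ∀ x : G, (p : ℤ) ∣ i → x ^ i = 1 := by
    rintro i x ⟨k, rfl⟩
    rw [zpow_mul, zpow_natCast, hexp, one_zpow]
  haveI hZn : (zpowers z).Normal := ⟨fun n hn h => by
    rwa [mem_center_iff.1 ((zpowers_le.2 F.hzc) hn) h, mul_inv_cancel_right]⟩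
  set K := zpowers u ⊔ zpowers z with hK
  haveI hKn : K.Normal := ⟨fun n hn h => by
    have := mul_mem ((le_sup_right : zpowers z ≤ K) (F.hcomm h n)) hn
    rwa [inv_mul_cancel_right] at this⟩
  set E := zpowers g ⊔ K with hE
  have hmem : ∀ x ∈ E, ∃ i j k : ℤ, x = g ^ i * u ^ j * z ^ k := by
    intro x hx
    obtain ⟨a, ⟨i, rfl⟩, b, hb, rfl⟩ := mem_sup_of_normal_right.1 hx
    obtain ⟨c, ⟨j, rfl⟩, d, ⟨k, rfl⟩, rfl⟩ := mem_sup_of_normal_right.1 hb
    exact ⟨i, j, k, (mul_assoc _ _ _).symm⟩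
  have hgE : g ∈ E := le_sup_left (b := K) (mem_zpowers g)
  have huE : u ∈ E := (le_sup_right : K ≤ E) ((le_sup_left : zpowers u ≤ K) (mem_zpowers u))
  have hzE : z ∈ E := (le_sup_right : K ≤ E) ((le_sup_right : zpowers z ≤ K) (mem_zpowers z))
  have hzc : ∀ (k : ℤ) (x : G), Commute x (z ^ k) := fun k x =>
    mem_center_iff.1 (zpow_mem F.hzc k) x
  have hcen : ∀ x ∈ E, Commute x u → Commute x g → x ∈ zpowers z := by
    intro x hx hxu hxg
    obtain ⟨i, j, k, rfl⟩ := hmem x hx
    have hi : g ^ i = 1 := by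
      refine hzp i g (F.dvd_of_commute_u ?_)
      have := (hxu.mul_left (hzc k u).symm.inv_left).mul_left ((Commute.refl u).zpow_left j).inv_left
      rwa [mul_inv_cancel_right, mul_inv_cancel_right] at this
    rw [hi, one_mul] at hxg ⊢
    have hj : u ^ j = 1 := by
      refine hzp j u (F.dvd_of_commute_g ?_)
      have := hxg.mul_left (hzc k g).symm.inv_left
      rwa [mul_inv_cancel_right] at this
    rw [hj, one_mul]
    exact zpow_mem (mem_zpowers z) k
  obtain ⟨A, hA, hAz, hAs⟩ := F.exists_complement fun w _ => hexp w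
  have hinf : E ⊓ A = ⊥ := by
    rw [eq_bot_iff]
    rintro x ⟨hxE, hxA⟩
    rw [← hAz]
    exact ⟨hxA, hcen x hxE (mem_center_iff.1 (hA hxA) u).symm (mem_center_iff.1 (hA hxA) g).symm⟩
  have hsup : E ⊔ A = ⊤ := by
    rw [eq_top_iff]
    intro x _
    obtain ⟨i, j, w, hw, rfl⟩ := F.decomp x
    have hle : center G ≤ E ⊔ A := hAs ▸ sup_le le_sup_right
      ((zpowers_le.2 hzE).trans le_sup_left)
    exact mul_mem ((le_sup_left : E ≤ E ⊔ A) (mul_mem (zpow_mem hgE i) (zpow_mem huE j))) (hle hw)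
  have hext : Cfsg.IsExtraspecial p ↥E := by
    refine H30.isExtraspecial_subgroup hpG F.hz hzE ?_ ?_ (fun a _ b _ => F.hcomm a b)
      (fun a _ => by rw [hexp]; exact one_mem _) fun h => ?_
    · exact mem_centralizer_iff.2 fun h _ => mem_center_iff.1 F.hzc h
    · rintro x ⟨hxE, hxc⟩
      exact hcen x hxE (mem_centralizer_iff.1 hxc u huE).symm (mem_centralizer_iff.1 hxc g hgE).symm
    · exact F.hg (mem_center_iff.1 ((zpowers_le.2 F.hzc) (h huE)) g)
  have hou : orderOf u = p :=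
    orderOf_eq_prime F.hu fun h => F.hg (h ▸ Commute.one_right g)
  have hog : orderOf g = p :=
    orderOf_eq_prime (hexp g) fun h => F.hg (h ▸ Commute.one_left u)
  have hcard : Nat.card E = p ^ 3 := by
    let f : zpowers g × zpowers u × zpowers z → E := fun t =>
      ⟨(t.1 : G) * (t.2.1 : G) * (t.2.2 : G), mul_mem (mul_mem ((zpowers_le.2 hgE) t.1.2)
        ((zpowers_le.2 huE) t.2.1.2)) ((zpowers_le.2 hzE) t.2.2.2)⟩
    have hs : Function.Surjective f := by
      rintro ⟨x, hx⟩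
      obtain ⟨i, j, k, rfl⟩ := hmem x hx
      exact ⟨(⟨g ^ i, i, rfl⟩, ⟨u ^ j, j, rfl⟩, ⟨z ^ k, k, rfl⟩), rfl⟩
    have hi : Function.Injective f := by
      rintro ⟨⟨_, i, rfl⟩, ⟨_, j, rfl⟩, ⟨_, k, rfl⟩⟩ ⟨⟨_, i', rfl⟩, ⟨_, j', rfl⟩, ⟨_, k', rfl⟩⟩ h
      have h' : g ^ i * u ^ j * z ^ k = g ^ i' * u ^ j' * z ^ k' := congrArg Subtype.val h
      have h2 : g ^ (i - i') = u ^ j' * z ^ k' * (z ^ k)⁻¹ * (u ^ j)⁻¹ := by
        have e : g ^ (i - i') = (g ^ i')⁻¹ * (g ^ i * u ^ j * z ^ k) * (z ^ k)⁻¹ * (u ^ j)⁻¹ := by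
          group
        rw [e, h']; group
      have hgi : g ^ i = g ^ i' := by
        have : g ^ (i - i') = 1 := by
          refine hzp _ g (F.dvd_of_commute_u ?_)
          rw [h2]
          exact ((((Commute.refl u).zpow_left j').mul_left (hzc k' u).symm).mul_left
            (hzc k u).symm.inv_left).mul_left ((Commute.refl u).zpow_left j).inv_left
        rwa [zpow_sub, mul_inv_eq_one] at this
      rw [hgi, mul_assoc, mul_assoc, mul_right_inj] at h'
      have h3 : u ^ (j - j') = z ^ (k' - k) := by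
        have e : u ^ (j - j') = (u ^ j')⁻¹ * (u ^ j * z ^ k) * (z ^ k)⁻¹ := by group
        rw [e, h']; group
      have huj : u ^ j = u ^ j' := by
        have : u ^ (j - j') = 1 := by
          refine hzp _ u (F.dvd_of_commute_g ?_)
          rw [h3]
          exact (hzc _ g).symm
        rwa [zpow_sub, mul_inv_eq_one] at this
      rw [huj, mul_right_inj] at h'
      exact Prod.ext (Subtype.ext hgi) (Prod.ext (Subtype.ext huj) (Subtype.ext h'))
    rw [← Nat.card_congr (Equiv.ofBijective f ⟨hi, hs⟩), Nat.card_prod, Nat.card_prod,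
      Nat.card_zpowers, Nat.card_zpowers, Nat.card_zpowers, hog, hou, F.hz]
    ring
  have hexpE : Monoid.exponent E = p := by
    refine (Nat.Prime.eq_one_or_self_of_dvd hp.out _
      (Monoid.exponent_dvd_of_forall_pow_eq_one fun x => Subtype.ext (hexp x))).resolve_left ?_
    intro h1
    have := Monoid.pow_exponent_eq_one (⟨g, hgE⟩ : E)
    rw [h1, pow_one] at this
    have hg1 : g = 1 := congrArg Subtype.val this
    exact F.hg (hg1 ▸ Commute.one_left u)
  let iA : CommGroup A :=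
    { (inferInstance : Group A) with
      mul_comm := fun a b => Subtype.ext (mem_center_iff.1 (hA b.2) a) }
  exact ⟨E, inferInstance, A, iA, hext, hcard, hexpE, fun a => Subtype.ext (hexp a),
    prod_equiv E A hA hinf hsup⟩

/-- The even case: a dihedral group of order 8 times an elementary abelian group. -/
theorem split_two {G : Type} [Group G] [Finite G] {z u g : G} (F : Frame 2 z u g)
    (hexp : ∀ w ∈ center G, w ^ 2 = 1) (hg2 : g ^ 2 = z) :
    ∃ (A : Type) (_ : CommGroup A),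
      (∀ a : A, a ^ 2 = 1) ∧ Nonempty (G ≃* DihedralGroup 4 × A) := by
  haveI : Fact (Nat.Prime 2) := ⟨Nat.prime_two⟩
  obtain ⟨A, hA, hAz, hAs⟩ := F.exists_complement hexp
  have hz2 : z ^ 2 = 1 := by rw [← F.hz]; exact pow_orderOf_eq_one z
  have hz1 : z ≠ 1 := fun h => by
    have := F.hz
    rw [h, orderOf_one] at this
    omega
  have hg4 : g ^ 4 = 1 := by rw [show (4 : ℕ) = 2 * 2 from rfl, pow_mul, hg2, hz2]
  have hu : u * u = 1 := by rw [← sq]; exact F.hu
  have hc : g * u * g⁻¹ * u⁻¹ = z := by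
    obtain ⟨k, hk⟩ := mem_zpowers_iff.1 (F.hcomm g u)
    obtain ⟨m, hm⟩ | ⟨m, hm⟩ := Int.even_or_odd k
    · exfalso
      apply F.c_ne
      rw [← hk, hm, ← two_mul, zpow_mul, show z ^ (2 : ℤ) = 1 from mod_cast hz2, one_zpow]
    · rw [← hk, hm, zpow_add, zpow_mul, show z ^ (2 : ℤ) = 1 from mod_cast hz2, one_zpow, one_mul,
        zpow_one]
  have hconj : u * g * u⁻¹ = g⁻¹ := by
    have h1 : g * u * g⁻¹ = g * g * u := by
      rw [← sq, hg2, ← hc, inv_mul_cancel_right]
    have h2 : u * g⁻¹ = g * u := by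
      rw [mul_assoc g u, mul_assoc g g] at h1
      exact mul_left_cancel h1
    calc u * g * u⁻¹ = (u * g⁻¹ * u⁻¹)⁻¹ := by group
      _ = g⁻¹ := by rw [h2, mul_inv_cancel_right]
  let e : ZMod 4 → G := fun i => g ^ i.val
  have e_add : ∀ i j, e (i + j) = e i * e j := fun i j => by
    simp only [e, ← pow_add, ZMod.val_add]
    exact (pow_eq_pow_mod _ hg4).symm
  have e_neg : ∀ i, e (-i) = (e i)⁻¹ := fun i => by
    refine eq_inv_of_mul_eq_one_left ?_
    rw [← e_add, neg_add_cancel]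
    simp [e]
  have e_u : ∀ i, u * e i = e (-i) * u := fun i => by
    rw [← mul_inv_eq_iff_eq_mul, e_neg]
    show u * g ^ i.val * u⁻¹ = _
    rw [← conj_pow, hconj, inv_pow]
  let f : DihedralGroup 4 →* G := MonoidHom.mk'
    (fun x => match x with | .r i => e i | .sr i => u * e i) (by
      rintro (i | i) (j | j)
      · simp only [DihedralGroup.r_mul_r]; exact e_add i j
      · simp only [DihedralGroup.r_mul_sr]
        have h := e_u (-i)
        rw [neg_neg] at h
        rw [← mul_assoc, ← h, mul_assoc, ← e_add, neg_add_eq_sub]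
      · simp only [DihedralGroup.sr_mul_r]; rw [e_add, mul_assoc]
      · simp only [DihedralGroup.sr_mul_sr]
        rw [e_u i, mul_assoc, ← mul_assoc u u, hu, one_mul, ← e_add, neg_add_eq_sub])
  have hfA : ∀ x (a : A), Commute (f x) (A.subtype a) := fun x a => mem_center_iff.1 (hA a.2) _
  let F' : DihedralGroup 4 × A →* G := MonoidHom.noncommCoprod f A.subtype hfA
  have hev : ∀ i : ZMod 4, Commute (e i) u → e i ∈ zpowers z := fun i hi => by
    obtain ⟨k, hk⟩ : (2 : ℤ) ∣ (i.val : ℤ) :=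
      F.dvd_of_commute_u (by rw [zpow_natCast]; exact hi)
    refine mem_zpowers_iff.2 ⟨k, ?_⟩
    rw [← hg2, ← zpow_natCast g 2, ← zpow_mul]
    exact (congrArg (g ^ ·) hk.symm).trans (zpow_natCast g i.val)
  have hinj : Function.Injective F' := by
    rw [injective_iff_map_eq_one]
    rintro ⟨x, a⟩ h
    have h' : f x * (a : G) = 1 := h
    have hfx : f x ∈ A := by rw [eq_inv_of_mul_eq_one_left h']; exact A.inv_mem a.2
    have hxc : ∀ y, Commute (f x) y := fun y => (mem_center_iff.1 (hA hfx) y).symm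
    cases x with
    | r i =>
      have he : e i ∈ A ⊓ zpowers z := ⟨hfx, hev i (hxc u)⟩
      rw [hAz, Subgroup.mem_bot] at he
      have hi : i = 0 := by
        have h0 : g ^ i.val = 1 := he
        have hlt := ZMod.val_lt i
        have hd := orderOf_dvd_of_pow_eq_one h0
        have ho : orderOf g = 2 ^ 2 := orderOf_eq_prime_pow (by rw [pow_one, hg2]; exact hz1) hg4
        rw [ho] at hd
        exact (ZMod.val_eq_zero i).1 (Nat.eq_zero_of_dvd_of_lt hd hlt)
      have ha : (a : G) = 1 := by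
        have h2 : e i * (a : G) = 1 := h'
        rwa [he, one_mul] at h2
      subst hi
      exact Prod.ext rfl (Subtype.ext ha)
    | sr i =>
      exfalso
      have h1 : Commute (u * e i) u := hxc u
      have h2 : Commute (e i) u := by
        have := (Commute.refl u).inv_left.mul_left h1
        rwa [inv_mul_cancel_left] at this
      have h3 : Commute (u * e i) g := hxc g
      have h4 : Commute u g := by
        have := h3.mul_left ((Commute.refl g).pow_left i.val).inv_left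
        rwa [mul_inv_cancel_right] at this
      exact F.hg h4.symm
  have hsurj : Function.Surjective F' := by
    rw [← MonoidHom.range_eq_top, eq_top_iff]
    intro x _
    obtain ⟨i, j, w, hw, rfl⟩ := F.decomp x
    have hg' : g ∈ F'.range :=
      ⟨(.r 1, 1), by simp [F', f, e, show (1 : ZMod 4).val = 1 from rfl]⟩
    have hu' : u ∈ F'.range := ⟨(.sr 0, 1), by simp [F', f, e]⟩
    have hle : center G ≤ F'.range := hAs ▸ sup_le
      (fun a ha => ⟨(1, ⟨a, ha⟩), by simp [F']⟩) (zpowers_le.2 (hg2 ▸ pow_mem hg' 2))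
    exact mul_mem (mul_mem (zpow_mem hg' i) (zpow_mem hu' j)) (hle hw)
  let iA : CommGroup A :=
    { (inferInstance : Group A) with
      mul_comm := fun a b => Subtype.ext (mem_center_iff.1 (hA b.2) a) }
  exact ⟨A, iA, fun a => Subtype.ext (hexp a (hA a.2)),
    ⟨(MulEquiv.ofBijective F' ⟨hinj, hsurj⟩).symm⟩⟩

theorem Frame.map {G H : Type*} [Group G] [Group H] (e : G ≃* H) {z u g : G}
    (F : Frame p z u g) : Frame p (e z) (e u) (e g) := by
  have key : ∀ x y : G, Commute (e x) (e y) ↔ Commute x y := fun x y => by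
    constructor
    · intro h
      exact e.injective (by simpa using h.eq)
    · exact fun h => h.map e
  refine ⟨(orderOf_injective e.toMonoidHom e.injective z).trans F.hz, ?_, ?_, ?_, ?_, ?_⟩
  · refine mem_center_iff.2 fun y => ?_
    obtain ⟨x, rfl⟩ := e.surjective y
    exact ((key z x).2 (mem_center_iff.1 F.hzc x).symm).eq.symm
  · intro a b
    obtain ⟨a, rfl⟩ := e.surjective a
    obtain ⟨b, rfl⟩ := e.surjective b
    obtain ⟨k, hk⟩ := mem_zpowers_iff.1 (F.hcomm a b)
    exact mem_zpowers_iff.2 ⟨k, by simpa using congrArg e hk⟩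
  · rw [← map_pow, F.hu, map_one]
  · exact fun h => F.hg ((key g u).1 h)
  · intro a b ha hb
    obtain ⟨a, rfl⟩ := e.surjective a
    obtain ⟨b, rfl⟩ := e.surjective b
    exact (key a b).2 (F.hab a b ((key a u).1 ha) ((key b u).1 hb))

end H5.GenExtra
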