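import Cfsg.Agent.H5.HeisenbergLike
import Cfsg.Agent.H85.Normal
import Cfsg.Agent.H85.ModelExists
import Cfsg.Agent.H87.Essential
import Cfsg.Agent.H87.CentreControl
import Cfsg.Agent.H89.OmitClass

/-!
A saturated system with nontrivial core over a group like the Heisenberg group is constrained.
-/

set_option autoImplicit false

open Cfsg Cfsg.FusionSystem commutatorElement

namespace H5

universe u

variable {Ω : Type u} [Group Ω] {S : Subgroup Ω} {p : ℕ} {F : FusionSystem S}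

/-- `x` lies in the centre of `S`. -/
def InZ (S : Subgroup Ω) (x : Ω) : Prop := x ∈ S ∧ ∀ y ∈ S, Commute x y

theorem inZ_of_comm (hH : HeisLike S) {x y : Ω} (hx : x ∈ S) (hy : y ∈ S) :
    InZ S (x * y * x⁻¹ * y⁻¹) :=
  ⟨S.mul_mem (S.mul_mem (S.mul_mem hx hy) (S.inv_mem hx)) (S.inv_mem hy), fun g hg => by
    have := (hH.comm ⟨x, hx⟩ ⟨y, hy⟩ ⟨g, hg⟩).map S.subtype
    simpa [commutatorElement_def] using this⟩

theorem exists_not_commute {x : Ω} (hx : x ∈ S) (h : ¬ InZ S x) :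
    ∃ g : S, ¬ Commute (⟨x, hx⟩ : S) g := by
  by_contra! hc
  exact h ⟨hx, fun y hy => (hc ⟨y, hy⟩).map S.subtype⟩

theorem commute_of_commute (hH : HeisLike S) {x y w : Ω} (hx : x ∈ S) (hy : y ∈ S) (hw : w ∈ S)
    (hxZ : ¬ InZ S x) (h1 : Commute x y) (h2 : Commute x w) : Commute y w :=
  (hH.trans ⟨x, hx⟩ (exists_not_commute hx hxZ) ⟨y, hy⟩ ⟨w, hw⟩ (Subtype.ext h1.eq)
    (Subtype.ext h2.eq)).map S.subtype

theorem exists_conj_eq_mul (hH : HeisLike S) {x z : Ω} (hx : x ∈ S) (hxZ : ¬ InZ S x)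
    (hz : InZ S z) : ∃ y ∈ S, y * x * y⁻¹ = z * x := by
  obtain ⟨y, hy⟩ := hH.surj ⟨x, hx⟩ (exists_not_commute hx hxZ) ⟨z, hz.1⟩
    fun g => Subtype.ext (hz.2 g g.2).eq
  exact ⟨y, y.2, congrArg Subtype.val hy⟩

/-- The centre of `S` as a subgroup of `A`. -/
def zIn (S A : Subgroup Ω) : Subgroup A :=
  (S ⊓ Subgroup.centralizer (S : Set Ω)).subgroupOf A

theorem mem_zIn {A : Subgroup Ω} {x : A} : x ∈ zIn S A ↔ InZ S (x : Ω) :=
  ⟨fun h => ⟨h.1, fun y hy => (Subgroup.mem_centralizer_iff.1 h.2 y hy).symm⟩,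
    fun h => ⟨h.1, Subgroup.mem_centralizer_iff.2 fun y hy => (h.2 y hy).symm.eq⟩⟩

section

variable [Finite S] [Fact p.Prime]

theorem inZ_mem_of_centric {E : Subgroup Ω} (hE : F.IsEssential p E) {x : Ω} (hx : InZ S x) :
    x ∈ E :=
  H87.essential_centric hE hx.1 fun _ he => (hx.2 _ (hE.1.1 he)).symm.eq

/-- An essential subgroup whose automorphisms fix the centre of `S` cannot exist. -/
theorem not_essential_of_invariant (hS : IsPGroup p S) (hF : F.IsSaturated p) (hH : HeisLike S)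
    {E : Subgroup Ω} (hE : F.IsEssential p E)
    (hinv : ∀ α ∈ F.autGroup E, ∀ x ∈ zIn S E, α x ∈ zIn S E) : False := by
  haveI := H87.essential_finite hE
  have hES : E < S := lt_of_le_of_ne hE.1.1 (H89.essential_ne_top hS hF hE)
  obtain ⟨g, hg, hgN, hgE⟩ := H85.exists_normalizing hS le_rfl hES
  let H : Subgroup (MulAut E) :=
    { carrier := {α | (∀ x : E, x⁻¹ * α x ∈ zIn S E) ∧ ∀ r ∈ zIn S E, α r = r}
      one_mem' := ⟨fun x => by simp, fun r _ => rfl⟩
      mul_mem' := by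
        rintro a b ⟨ha, ha'⟩ ⟨hb, hb'⟩
        refine ⟨fun x => ?_, fun r hr => by rw [MulAut.mul_apply, hb' r hr, ha' r hr]⟩
        have e : x⁻¹ * (a * b) x = (x⁻¹ * b x) * ((b x)⁻¹ * a (b x)) := by
          rw [MulAut.mul_apply]; group
        rw [e]
        exact Subgroup.mul_mem _ (hb x) (ha _)
      inv_mem' := by
        rintro a ⟨ha, ha'⟩
        refine ⟨fun x => ?_, fun r hr => by rw [MulAut.inv_apply, MulEquiv.symm_apply_eq, ha' r hr]⟩
        have := Subgroup.inv_mem _ (ha (a⁻¹ x))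
        rw [MulAut.apply_inv_self] at this
        simpa using this }
  have hH' : IsPGroup p H := H87.isPGroup_of_stabilizes (zIn S E)
    ((hS.to_le hE.1.1).to_subgroup _) H (fun α hα => hα.1) (fun α hα => hα.2)
  let c := H85.conjAut S E ⟨g, hg, hgN⟩
  have hc : c ∈ H := by
    refine ⟨fun x => mem_zIn.2 ?_, fun r hr => Subtype.ext ?_⟩
    · have h1 := inZ_of_comm hH (S.inv_mem (hE.1.1 x.2)) hg
      simpa [c, mul_assoc] using h1
    · rw [H85.conjAut_apply]
      change g * (r : Ω) * g⁻¹ = r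
      rw [← ((mem_zIn.1 hr).2 g hg).eq, mul_inv_cancel_right]
  have hcF : c ∈ F.autGroup E :=
    H85.autInducedBy_le_autGroup F hE.1.1 (H85.conjAut_range S E ▸ ⟨_, rfl⟩)
  have hinn : c ∈ Inn E := by
    refine H87.essential_mem_inn hE H (hH'.to_le inf_le_left) (fun a ha b hb _ => ?_) hc hcF
    refine ⟨fun x => ?_, fun r hr => ?_⟩
    · have h1 := hinv a ha _ (hb.1 (a⁻¹ x))
      rw [map_mul, map_inv, MulAut.apply_inv_self] at h1
      exact h1
    · rw [MulAut.mul_apply, MulAut.mul_apply, hb.2 _ (hinv _ (inv_mem ha) r hr),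
        MulAut.apply_inv_self]
  exact hgE (H85.mem_of_induces_inner hE.1 hg hinn fun x => H85.conjAut_apply S E _ x)

/-- Every essential subgroup is abelian and has a noncentral element. -/
theorem essential_shape (hS : IsPGroup p S) (hF : F.IsSaturated p) (hH : HeisLike S)
    {E : Subgroup Ω} (hE : F.IsEssential p E) :
    (∀ x ∈ E, ∀ y ∈ E, Commute x y) ∧
      ∀ v ∈ E, ¬ InZ S v → ∀ y ∈ S, Commute v y → y ∈ E := by
  have hab : ∀ x ∈ E, ∀ y ∈ E, Commute x y := by
    by_contra! hn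
    obtain ⟨a, ha, b, hb, hab⟩ := hn
    refine not_essential_of_invariant hS hF hH hE fun α _ x hx => ?_
    rw [mem_zIn] at hx ⊢
    have hS' : ((α x : E) : Ω) ∈ S := hE.1.1 (α x).2
    by_contra hnz
    refine hab (commute_of_commute hH hS' (hE.1.1 ha) (hE.1.1 hb) hnz ?_ ?_)
    · have h1 : Commute (α x) (α (α⁻¹ ⟨a, ha⟩)) :=
        (show Commute x (α⁻¹ ⟨a, ha⟩) from
          Subtype.ext (hx.2 _ (hE.1.1 (α⁻¹ ⟨a, ha⟩).2)).eq).map α
      rw [MulAut.apply_inv_self] at h1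
      exact h1.map E.subtype
    · have h1 : Commute (α x) (α (α⁻¹ ⟨b, hb⟩)) :=
        (show Commute x (α⁻¹ ⟨b, hb⟩) from
          Subtype.ext (hx.2 _ (hE.1.1 (α⁻¹ ⟨b, hb⟩).2)).eq).map α
      rw [MulAut.apply_inv_self] at h1
      exact h1.map E.subtype
  refine ⟨hab, fun v hv hvZ y hy hvy => H87.essential_centric hE hy fun e he => ?_⟩
  exact (commute_of_commute hH (hE.1.1 hv) hy (hE.1.1 he) hvZ hvy (hab v hv e he)).symm.eq

/-- A nontrivial central subgroup left invariant by the automorphisms of an essential subgroup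
cannot exist. -/
theorem not_invariant_central (hS : IsPGroup p S) (hF : F.IsSaturated p) (hH : HeisLike S)
    {A : Subgroup Ω} (hA : F.IsEssential p A) {R : Subgroup A} (hR : R ≠ ⊥) (hRZ : R ≤ zIn S A)
    (hinv : ∀ α ∈ F.autGroup A, ∀ r ∈ R, α r ∈ R) : False := by
  haveI := H87.essential_finite hA
  by_cases hfix : ∀ α ∈ F.autGroup A, ∀ x ∈ zIn S A, α x ∈ zIn S A
  · exact not_essential_of_invariant hS hF hH hA hfix
  push_neg at hfix
  obtain ⟨α₀, hα₀, z, hz, hα₀z⟩ := hfix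
  haveI := H85.finite_autGroup F hA.1.1
  set L := F.autGroup A with hLdef
  set O := MulAction.orbit ↥L z with hO
  obtain ⟨-, T, hT⟩ := H85.fullyAutomized_of_fullyNormalized hS hF hA.2.1
  have hTle : (T : Subgroup L) ≤ MulAction.stabilizer ↥L z := by
    intro a ha
    rw [hT, Subgroup.mem_subgroupOf, H85.mem_autInducedBy] at ha
    obtain ⟨g, hg, hga⟩ := ha
    rw [MulAction.mem_stabilizer_iff]
    refine Subtype.ext ?_
    show ((( (a : MulAut A) z : A)) : Ω) = z
    rw [hga, ← ((mem_zIn.1 hz).2 g hg).eq, mul_inv_cancel_right]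
  have hOp : ¬ p ∣ O.ncard := by
    rw [hO, ← MulAction.index_stabilizer]
    exact fun h => T.not_dvd_index (h.trans (Subgroup.index_dvd_of_le hTle))
  obtain ⟨r, hr, hrp⟩ : ∃ r ∈ R, orderOf r = p := by
    haveI : Nontrivial R := (Subgroup.nontrivial_iff_ne_bot R).2 hR
    obtain ⟨n, hn, hcard⟩ := (((hS.to_le hA.1.1).to_subgroup R).nontrivial_iff_card).1 inferInstance
    obtain ⟨r, hr⟩ := exists_prime_orderOf_dvd_card' (G := R) p (hcard ▸ dvd_pow_self p hn.ne')
    exact ⟨r, r.2, by rwa [Subgroup.orderOf_coe]⟩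
  have hmul : ∀ u ∈ O, ∀ k ∈ Subgroup.zpowers r, k * u ∈ O := by
    intro u hu k hk
    obtain ⟨a, rfl⟩ := hu
    let b : L := ⟨α₀, hα₀⟩ * a⁻¹
    have hkR : k ∈ R := Subgroup.zpowers_le.2 hr hk
    have hbk : InZ S (((b : MulAut A) k : A) : Ω) := mem_zIn.1 (hRZ (hinv _ b.2 _ hkR))
    have hbu : (b : MulAut A) (a • z) = α₀ z := by
      show (α₀ * (a : MulAut A)⁻¹) ((a : MulAut A) z) = α₀ z
      rw [MulAut.mul_apply, MulAut.inv_apply_self]
    obtain ⟨y, hy, hyc⟩ := exists_conj_eq_mul hH (hA.1.1 (α₀ z).2)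
      (fun h => hα₀z (mem_zIn.2 h)) hbk
    have hyN : y ∈ Subgroup.normalizer (A : Set Ω) := by
      refine H85.mem_normalizer_of_conj fun x hx => ?_
      have h1 := inZ_mem_of_centric hA (inZ_of_comm hH hy (hA.1.1 hx))
      have h2 := A.mul_mem h1 hx
      simpa using h2
    let c : L := ⟨H85.conjAut S A ⟨y, hy, hyN⟩,
      H85.autInducedBy_le_autGroup F hA.1.1 (H85.conjAut_range S A ▸ ⟨_, rfl⟩)⟩
    refine ⟨b⁻¹ * c * ⟨α₀, hα₀⟩, ?_⟩
    show (b : MulAut A)⁻¹ ((c : MulAut A) (α₀ z)) = k * a • z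
    rw [MulAut.inv_apply, MulEquiv.symm_apply_eq, map_mul, hbu]
    exact Subtype.ext hyc
  letI : MulAction (Subgroup.zpowers r) ↥O :=
    { smul := fun k u => ⟨(k : A) * (u : A), hmul u u.2 k k.2⟩
      one_smul := fun u => Subtype.ext (one_mul _)
      mul_smul := fun k l u => Subtype.ext (mul_assoc _ _ _) }
  have hrP : IsPGroup p (Subgroup.zpowers r) := (hS.to_le hA.1.1).to_subgroup _
  have h1 := hrP.card_modEq_card_fixedPoints (α := ↥O)
  have h2 : Nat.card (MulAction.fixedPoints (Subgroup.zpowers r) ↥O) = 0 := by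
    rw [Nat.card_eq_zero]
    refine Or.inl ⟨fun ⟨u, hu⟩ => ?_⟩
    have h3 : r * (u : A) = u :=
      congrArg Subtype.val (hu ⟨r, Subgroup.mem_zpowers r⟩)
    rw [mul_eq_right] at h3
    rw [h3, orderOf_one] at hrp
    exact (Fact.out : p.Prime).ne_one hrp.symm
  rw [h2, Nat.modEq_zero_iff_dvd, Nat.card_coe_set_eq] at h1
  exact hOp h1

/-- Over a group like the Heisenberg group, a system with nontrivial core is constrained. -/
theorem isConstrained_of_core_ne_bot (hS : IsPGroup p S) (hF : F.IsSaturated p) (hH : HeisLike S)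
    (hcore : F.core ≠ ⊥) : F.IsConstrained p := by
  set Q := F.core with hQdef
  have hQ : F.IsNormal Q := H87.isNormal_core F
  have hQn : ∀ g ∈ S, g ∈ Subgroup.normalizer (Q : Set Ω) := fun g hg =>
    H85.normalizer_of_normalSubgroup hQ hg
  obtain ⟨q, hqQ, hqZ, hq1⟩ : ∃ q ∈ Q, InZ S q ∧ q ≠ 1 := by
    obtain ⟨q, hq, hq1⟩ := (Subgroup.bot_or_exists_ne_one Q).resolve_left hcore
    by_cases hqZ : InZ S q
    · exact ⟨q, hq, hqZ, hq1⟩
    obtain ⟨g, hg⟩ := exists_not_commute (hQ.1 hq) hqZ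
    refine ⟨g * q * (g : Ω)⁻¹ * q⁻¹, ?_, inZ_of_comm hH g.2 (hQ.1 hq), fun h => hg ?_⟩
    · exact Q.mul_mem (H85.conj_mem_of_mem_normalizer (hQn g g.2) hq) (Q.inv_mem hq)
    · have h1 : (g : Ω) * q = q * g := by
        have := mul_inv_eq_one.1 h
        rwa [mul_inv_eq_iff_eq_mul] at this
      exact Subtype.ext h1.symm
  have hkey : ∀ E, F.IsEssential p E → E = centralizerIn S Q := by
    intro E hE
    have hQE : Q ≤ E :=
      H85.isNormal_le_centricRadical hS hQ hE.1 (H85.isRadical_of_isEssential hS hE)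
    obtain ⟨hab, hcl⟩ := essential_shape hS hF hH hE
    obtain ⟨v, hvQ, hvZ⟩ : ∃ v ∈ Q, ¬ InZ S v := by
      by_contra! hall
      refine not_invariant_central hS hF hH hE (R := Q.subgroupOf E) ?_
        (fun x hx => mem_zIn.2 (hall _ hx)) (fun α hα r hr => ?_)
      · rw [Ne, Subgroup.subgroupOf_eq_bot, disjoint_iff, inf_eq_left.2 hQE]
        exact hcore
      · exact (((H85.isNormal_iff_essential hS hF).1 hQ E (Or.inr hE)).2 α hα).le
          (Subgroup.mem_map_of_mem _ hr)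
    refine le_antisymm (fun x hx => H85.mem_centralizerIn.2 ⟨hE.1.1 hx, fun y hy =>
      (hab y (hQE hy) x hx).eq⟩) fun x hx => ?_
    obtain ⟨hxS, hxQ⟩ := H85.mem_centralizerIn.1 hx
    exact hcl v (hQE hvQ) hvZ x hxS (hxQ v hvQ)
  by_cases hess : ∃ E, F.IsEssential p E
  swap
  · have hnorm : ∀ P : Subgroup Ω, (P = S ∨ F.IsEssential p P) →
        (S ≤ P ∧ ∀ α ∈ F.autGroup P, (S.subgroupOf P).map α.toMonoidHom = S.subgroupOf P) := by
      rintro P (rfl | hP)
      · refine ⟨le_rfl, fun α _ => ?_⟩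
        rw [Subgroup.subgroupOf_self]
        exact Subgroup.map_top_of_surjective _ α.surjective
      · exact absurd ⟨P, hP⟩ hess
    exact ⟨hF, S, H85.isNormal_of_essential hS hF hnorm, H87.isCentric_of_isNormal
      (H85.isNormal_of_essential hS hF hnorm) fun x hx => (H85.mem_centralizerIn.1 hx).1⟩
  obtain ⟨A, hA⟩ := hess
  refine ⟨hF, A, H85.isNormal_of_essential hS hF ?_, hA.1⟩
  rintro P (rfl | hP)
  · refine ⟨hA.1.1, fun α hα => ?_⟩
    haveI := H85.finite_of_le (le_refl P)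
    refine H85.map_eq_of_mapsTo fun x hx => ?_
    have hx' : (x : Ω) ∈ centralizerIn P Q := hkey A hA ▸ hx
    obtain ⟨-, hxQ⟩ := H85.mem_centralizerIn.1 hx'
    show (((α x : P) : Ω)) ∈ A
    rw [hkey A hA]
    refine H85.mem_centralizerIn.2 ⟨(α x).2, fun y hy => ?_⟩
    obtain ⟨w, hw, hwy⟩ := (((H85.isNormal_iff_essential hS hF).1 hQ P (Or.inl rfl)).2 α hα).ge
      (show (⟨y, hQ.1 hy⟩ : P) ∈ Q.subgroupOf P from hy)
    have h1 : Commute (α w) (α x) :=
      (show Commute w x from Subtype.ext (hxQ w hw)).map α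
    have h2 : ((α w : P) : Ω) = y := congrArg Subtype.val hwy
    have h3 := (h1.map P.subtype).eq
    simp only [Subgroup.coe_subtype] at h3
    rwa [h2] at h3
  · have hPA : P = A := (hkey P hP).trans (hkey A hA).symm
    subst hPA
    refine ⟨le_rfl, fun α _ => ?_⟩
    rw [Subgroup.subgroupOf_self]
    exact Subgroup.map_top_of_surjective _ α.surjective

end

end H5
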