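import Mathlib
import Cfsg.Agent.H37.Sylow

/-!
Groups like the Heisenberg group over a field: class two, every commutator map of a noncentral
element onto the centre, and noncentral elements with abelian centralisers.
-/

set_option autoImplicit false

open Matrix commutatorElement

namespace H5

/-- A group like the Heisenberg group over a field. -/
structure HeisLike (U : Type*) [Group U] : Prop where
  comm : ∀ x y g : U, Commute ⁅x, y⁆ g
  surj : ∀ x : U, (∃ g, ¬ Commute x g) → ∀ z : U, (∀ g, Commute z g) → ∃ y, y * x * y⁻¹ = z * x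
  trans : ∀ x : U, (∃ g, ¬ Commute x g) → ∀ y w, Commute x y → Commute x w → Commute y w
  nonab : ∃ x g : U, ¬ Commute x g

theorem HeisLike.of_equiv {U V : Type*} [Group U] [Group V] (h : HeisLike U) (e : U ≃* V) :
    HeisLike V := by
  have hc : ∀ x y : V, Commute (e.symm x) (e.symm y) ↔ Commute x y := fun x y => by
    refine ⟨fun h => ?_, fun h => h.map e.symm.toMonoidHom⟩
    simpa using h.map e.toMonoidHom
  have hn : ∀ x : V, (∃ g, ¬ Commute x g) → ∃ g, ¬ Commute (e.symm x) g := fun x ⟨g, hg⟩ =>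
    ⟨e.symm g, fun h => hg ((hc x g).1 h)⟩
  refine ⟨fun x y g => ?_, fun x hx z hz => ?_, fun x hx y w hy hw => ?_, ?_⟩
  · rw [← hc, map_commutatorElement]
    exact h.comm _ _ _
  · obtain ⟨y, hy⟩ := h.surj _ (hn x hx) (e.symm z) fun g => by
      have := (hc z (e g)).2 (hz _)
      simpa using this
    refine ⟨e y, e.symm.injective ?_⟩
    simpa using hy
  · exact (hc y w).1 (h.trans _ (hn x hx) _ _ ((hc x y).2 hy) ((hc x w).2 hw))
  · obtain ⟨x, g, hg⟩ := h.nonab
    exact ⟨e x, e g, fun h' => hg (by simpa using h'.map e.symm.toMonoidHom)⟩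

namespace UniThree

variable {K : Type*} [Field K]

/-- The unitriangular group of degree three. -/
abbrev UT (K : Type*) [Field K] := ↥(H37.unitriangularSL 3 K)

/-- An entry of an element of the unitriangular group. -/
def ent (u : (UT K)) (i j : Fin 3) : K := ((u : SpecialLinearGroup (Fin 3) K) : Matrix (Fin 3) (Fin 3) K) i j

theorem ent_diag (u : (UT K)) (i : Fin 3) : ent u i i = 1 := u.2.2 i

theorem ent_low (u : (UT K)) {i j : Fin 3} (h : j < i) : ent u i j = 0 := u.2.1 h

theorem ent_mul (u v : (UT K)) (i j : Fin 3) :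
    ent (u * v) i j = ent u i 0 * ent v 0 j + ent u i 1 * ent v 1 j + ent u i 2 * ent v 2 j := by
  change ((((u : SpecialLinearGroup (Fin 3) K) : Matrix (Fin 3) (Fin 3) K)) *
    ((v : SpecialLinearGroup (Fin 3) K) : Matrix (Fin 3) (Fin 3) K)) i j = _
  rw [Matrix.mul_apply, Fin.sum_univ_three]
  rfl

theorem mul_a (u v : (UT K)) : ent (u * v) 0 1 = ent u 0 1 + ent v 0 1 := by
  rw [ent_mul, ent_diag, ent_diag, ent_low v (i := 2) (j := 1) (by decide)]
  ring

theorem mul_b (u v : (UT K)) : ent (u * v) 1 2 = ent u 1 2 + ent v 1 2 := by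
  rw [ent_mul, ent_diag, ent_diag, ent_low u (i := 1) (j := 0) (by decide)]
  ring

theorem mul_c (u v : (UT K)) :
    ent (u * v) 0 2 = ent u 0 2 + ent v 0 2 + ent u 0 1 * ent v 1 2 := by
  rw [ent_mul, ent_diag, ent_diag]
  ring

theorem ext3 {u v : (UT K)} (h1 : ent u 0 1 = ent v 0 1) (h2 : ent u 1 2 = ent v 1 2)
    (h3 : ent u 0 2 = ent v 0 2) : u = v := by
  apply Subtype.ext
  ext i j
  change ent u i j = ent v i j
  fin_cases i <;> fin_cases j <;>
    first
      | exact h1
      | exact h2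
      | exact h3
      | exact (ent_diag u _).trans (ent_diag v _).symm
      | exact (ent_low u (by decide)).trans (ent_low v (by decide)).symm

theorem exists_ent (a b c : K) : ∃ u : (UT K), ent u 0 1 = a ∧ ent u 1 2 = b ∧ ent u 0 2 = c := by
  refine ⟨⟨⟨!![1, a, c; 0, 1, b; 0, 0, 1], by simp [Matrix.det_fin_three]⟩, ?_, ?_⟩, ?_, ?_, ?_⟩
  · intro i j h
    fin_cases i <;> fin_cases j <;> first | (exact absurd h (by decide)) | rfl
  · intro i
    fin_cases i <;> rfl
  all_goals rfl

theorem commute_iff (u v : (UT K)) :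
    Commute u v ↔ ent u 0 1 * ent v 1 2 = ent v 0 1 * ent u 1 2 := by
  constructor
  · intro h
    have := congrArg (fun w : (UT K) => ent w 0 2) h.eq
    simp only [mul_c] at this
    linear_combination this
  · intro h
    refine ext3 ?_ ?_ ?_
    · rw [mul_a, mul_a, add_comm]
    · rw [mul_b, mul_b, add_comm]
    · rw [mul_c, mul_c]
      linear_combination h

theorem central_iff (u : (UT K)) : (∀ g, Commute u g) ↔ ent u 0 1 = 0 ∧ ent u 1 2 = 0 := by
  constructor
  · intro h
    obtain ⟨g, h1, h2, -⟩ := exists_ent (K := K) 1 0 0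
    obtain ⟨g', h1', h2', -⟩ := exists_ent (K := K) 0 1 0
    have e1 := (commute_iff u g).1 (h g)
    have e2 := (commute_iff u g').1 (h g')
    rw [h1, h2] at e1
    rw [h1', h2'] at e2
    constructor
    · linear_combination e2
    · linear_combination -e1
  · intro h g
    rw [commute_iff, h.1, h.2]
    ring

theorem heisLike : HeisLike (UT K) := by
  refine ⟨fun x y g => ?_, fun x hx z hz => ?_, fun x hx y w hy hw => ?_, ?_⟩
  · refine (central_iff _).2 ⟨?_, ?_⟩ g
    · have h1 : ent (⁅x, y⁆ * y * x) 0 1 = ent (x * y) 0 1 := by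
        rw [commutatorElement_def]; simp [mul_assoc]
      rw [mul_a, mul_a, mul_a] at h1
      linear_combination h1
    · have h1 : ent (⁅x, y⁆ * y * x) 1 2 = ent (x * y) 1 2 := by
        rw [commutatorElement_def]; simp [mul_assoc]
      rw [mul_b, mul_b, mul_b] at h1
      linear_combination h1
  · obtain ⟨hz1, hz2⟩ := (central_iff z).1 hz
    obtain ⟨a', b', hab⟩ : ∃ a' b' : K, a' * ent x 1 2 = ent z 0 2 + ent x 0 1 * b' := by
      by_cases ha : ent x 0 1 = 0
      · have hb : ent x 1 2 ≠ 0 := fun hb => by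
          obtain ⟨g, hg⟩ := hx
          exact hg ((central_iff x).2 ⟨ha, hb⟩ g)
        exact ⟨ent z 0 2 / ent x 1 2, 0, by rw [div_mul_cancel₀ _ hb]; ring⟩
      · exact ⟨0, -(ent z 0 2) / ent x 0 1, by field_simp; ring⟩
    obtain ⟨y, h1, h2, -⟩ := exists_ent a' b' 0
    refine ⟨y, ?_⟩
    rw [mul_inv_eq_iff_eq_mul]
    refine ext3 ?_ ?_ ?_
    · rw [mul_a, mul_a, mul_a, hz1]; ring
    · rw [mul_b, mul_b, mul_b, hz2]; ring
    · rw [mul_c, mul_c, mul_c, mul_a, h1, h2, hz1]
      linear_combination hab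
  · rw [commute_iff] at *
    by_cases ha : ent x 0 1 = 0
    · have hb : ent x 1 2 ≠ 0 := fun hb => by
        obtain ⟨g, hg⟩ := hx
        exact hg ((central_iff x).2 ⟨ha, hb⟩ g)
      rw [ha, zero_mul] at hy hw
      rw [(mul_eq_zero.1 hy.symm).resolve_right hb, (mul_eq_zero.1 hw.symm).resolve_right hb]
      ring
    · refine mul_left_cancel₀ ha ?_
      linear_combination (ent y 0 1) * hw - (ent w 0 1) * hy
  · obtain ⟨x, hx1, hx2, -⟩ := exists_ent (K := K) 1 0 0
    obtain ⟨g, hg1, hg2, -⟩ := exists_ent (K := K) 0 1 0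
    refine ⟨x, g, fun h => ?_⟩
    rw [commute_iff, hx1, hx2, hg1, hg2] at h
    simp at h

end UniThree

theorem heisLike_sylow {p : ℕ} [Fact p.Prime] {K : Type*} [Field K] [Finite K] [CharP K p]
    (T : Sylow p (SpecialLinearGroup (Fin 3) K)) :
    HeisLike ↥(T : Subgroup (SpecialLinearGroup (Fin 3) K)) :=
  (UniThree.heisLike (K := K)).of_equiv ((H37.sylowSL (F := K) p 3).equiv T)

end H5
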