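import Cfsg.Agent.H5.Frobenius
import Cfsg.Agent.H27.OmegaFixed
import Mathlib.Tactic

/-!
Fusion of elements of order `p` (or `4`) and normal `p`-complements.
-/

namespace H5

open scoped commutatorElement

variable {G : Type*} [Group G] {p : ℕ}

/-- A coprime element fixing the displacement of `r` fixes `r`. -/
theorem conj_eq_self_of_displacement {g r t : G} (hg : Nat.Coprime (orderOf g) p)
    (hr : g * r * g⁻¹ = r * t) (ht : g * t * g⁻¹ = t) (htp : ∃ k, t ^ p ^ k = 1) :
    g * r * g⁻¹ = r := by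
  have key : ∀ m : ℕ, g ^ m * r * (g ^ m)⁻¹ = r * t ^ m := by
    intro m
    induction m with
    | zero => simp
    | succ m ih =>
      calc g ^ (m + 1) * r * (g ^ (m + 1))⁻¹ = g * (g ^ m * r * (g ^ m)⁻¹) * g⁻¹ := by
            rw [pow_succ']; group
        _ = g * r * g⁻¹ * (g * t ^ m * g⁻¹) := by rw [ih]; group
        _ = r * t ^ (m + 1) := by rw [hr, ← conj_pow, ht, pow_succ', mul_assoc]
  have h1 : t ^ orderOf g = 1 := by
    have := key (orderOf g)
    rw [pow_orderOf_eq_one, one_mul, inv_one, mul_one] at this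
    exact left_eq_mul.mp this
  obtain ⟨k, hk⟩ := htp
  have : t = 1 := orderOf_eq_one_iff.mp (Nat.eq_one_of_dvd_coprimes (hg.pow_right k)
    (orderOf_dvd_of_pow_eq_one h1) (orderOf_dvd_of_pow_eq_one hk))
  rw [hr, this, mul_one]

variable [Finite G] [hp : Fact p.Prime]

/-- If `g` permutes a `P`-fusion-closed set of elements of `Q ≤ P` and fixes it, for elements of
order `p` or `4`, it centralises `Q`: the key step of the fusion criterion. -/
theorem centralizer_of_omega_fusion {P Q : Subgroup G} (hP : IsPGroup p P) (hQ : Q ≤ P)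
    (h : ∀ a ∈ P, (a ^ p = 1 ∨ (p = 2 ∧ a ^ 4 = 1)) → ∀ g : G, g * a * g⁻¹ ∈ P →
      ∃ x ∈ P, g * a * g⁻¹ = x * a * x⁻¹)
    {g : G} (hg : g ∈ Subgroup.normalizer (Q : Set G)) (hgo : Nat.Coprime (orderOf g) p) :
    g ∈ Subgroup.centralizer (Q : Set G) := by
  obtain ⟨n, hn⟩ := P.isNilpotent_iff_lowerCentralSeries.mp hP.isNilpotent
  set T : ℕ → Subgroup G := fun i => Q ⊓ P.lowerCentralSeries i with hT
  have hQp : IsPGroup p Q := hP.to_le hQ
  -- the elements in question of each term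
  have hω : ∀ (i : ℕ) (a : G), a ∈ T i → (a ^ p = 1 ∨ (p = 2 ∧ a ^ 4 = 1)) →
      g * a * g⁻¹ ∈ T i ∧ a⁻¹ * (g * a * g⁻¹) ∈ T (i + 1) := by
    intro i a ha hω
    have hga : g * a * g⁻¹ ∈ Q := (Subgroup.mem_normalizer_iff.mp hg a).mp ha.1
    obtain ⟨x, hx, hxa⟩ := h a (hQ ha.1) hω g (hQ hga)
    have hc : ⁅a⁻¹, x⁆ ∈ P.lowerCentralSeries (i + 1) :=
      Subgroup.commutator_mem_commutator (Subgroup.inv_mem _ ha.2) hx
    have e : a⁻¹ * (g * a * g⁻¹) = ⁅a⁻¹, x⁆ := by
      rw [hxa, commutatorElement_def]; group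
    refine ⟨⟨hga, ?_⟩, ⟨Q.mul_mem (Q.inv_mem ha.1) hga, e ▸ hc⟩⟩
    have := Subgroup.mul_mem _ ha.2 (P.lowerCentralSeries_antitone (Nat.le_succ i) (e ▸ hc))
    rwa [mul_inv_cancel_left] at this
  -- `g` fixes the elements in question, from the bottom of the series up
  have key : ∀ j i : ℕ, n ≤ i + j → ∀ a ∈ T i, (a ^ p = 1 ∨ (p = 2 ∧ a ^ 4 = 1)) →
      g * a * g⁻¹ = a := by
    intro j
    induction j with
    | zero =>
      intro i hi a ha _
      have : a ∈ P.lowerCentralSeries n := P.lowerCentralSeries_antitone (by omega) ha.2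
      rw [hn, Subgroup.mem_bot] at this
      simp [this]
    | succ j ih =>
      intro i hi a ha hωa
      set R : Subgroup G := Subgroup.closure
        {b | b ∈ T i ∧ (b ^ p = 1 ∨ (p = 2 ∧ b ^ 4 = 1))} with hR
      have hRT : R ≤ T i := (Subgroup.closure_le _).mpr fun b hb => hb.1
      -- displacement is uniform on `R`
      have hdisp : ∀ b ∈ R, g * b * g⁻¹ ∈ R ∧ b⁻¹ * (g * b * g⁻¹) ∈ P.lowerCentralSeries (i + 1) := by
        intro b hb
        induction hb using Subgroup.closure_induction with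
        | mem b hb =>
          refine ⟨Subgroup.subset_closure ⟨(hω i b hb.1 hb.2).1, ?_⟩, (hω i b hb.1 hb.2).2.2⟩
          rcases hb.2 with h1 | ⟨h1, h2⟩
          · exact Or.inl (by rw [conj_pow, h1, mul_one, mul_inv_cancel])
          · exact Or.inr ⟨h1, by rw [conj_pow, h2, mul_one, mul_inv_cancel]⟩
        | one => simp
        | mul b c hb hc ihb ihc =>
          refine ⟨by simpa [mul_assoc] using R.mul_mem ihb.1 ihc.1, ?_⟩
          have e : (b * c)⁻¹ * (g * (b * c) * g⁻¹) =
              c⁻¹ * (b⁻¹ * (g * b * g⁻¹)) * c⁻¹⁻¹ * (c⁻¹ * (g * c * g⁻¹)) := by group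
          rw [e]
          refine Subgroup.mul_mem _ ?_ ihc.2
          exact (Subgroup.mem_normalizer_iff.mp (P.self_le_normalizer_lowerCentralSeries _
            (P.inv_mem (hQ (hRT hc).1))) _).mp ihb.2
        | inv b hb ihb =>
          refine ⟨by simpa [mul_assoc] using R.inv_mem ihb.1, ?_⟩
          have e : b⁻¹⁻¹ * (g * b⁻¹ * g⁻¹) = b * (b⁻¹ * (g * b * g⁻¹))⁻¹ * b⁻¹ := by group
          rw [e]
          exact (Subgroup.mem_normalizer_iff.mp (P.self_le_normalizer_lowerCentralSeries _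
            (hQ (hRT hb).1)) _).mp (Subgroup.inv_mem _ ihb.2)
      set R1 := R ⊓ P.lowerCentralSeries (i + 1) with hR1
      have hR1inv : ∀ r ∈ R1, g * r * g⁻¹ ∈ R1 := fun r hr => ⟨(hdisp r hr.1).1, by
        have := Subgroup.mul_mem _ hr.2 (hdisp r hr.1).2
        rwa [mul_inv_cancel_left] at this⟩
      have hfix : ∀ r ∈ R1, Commute g r := by
        refine H27.commute_of_fixes_omega hgo (hQp.to_le fun r hr => (hRT hr.1).1) hR1inv
          fun r hr hro => ?_
        refine mul_inv_eq_iff_eq_mul.mp (ih (i + 1) (by omega) r ⟨(hRT hr.1).1, hr.2⟩ ?_)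
        rcases hro with h1 | ⟨h1, h2⟩
        · exact Or.inl (h1 ▸ pow_orderOf_eq_one r)
        · exact Or.inr ⟨h1, h2 ▸ pow_orderOf_eq_one r⟩
      have haR : a ∈ R := Subgroup.subset_closure ⟨ha, hωa⟩
      set t := a⁻¹ * (g * a * g⁻¹) with ht
      have htR : t ∈ R1 := ⟨R.mul_mem (R.inv_mem haR) (hdisp a haR).1, (hdisp a haR).2⟩
      refine conj_eq_self_of_displacement hgo (t := t) (by rw [ht]; group) ?_ ?_
      · rw [(hfix t htR).eq, mul_inv_cancel_right]
      · obtain ⟨k, hk⟩ := hQp ⟨t, (hRT htR.1).1⟩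
        exact ⟨k, congrArg Subtype.val hk⟩
  intro q hq
  refine (H27.commute_of_fixes_omega hgo hQp
    (fun r hr => (Subgroup.mem_normalizer_iff.mp hg r).mp hr) (fun r hr hro => ?_) q hq).symm
  refine mul_inv_eq_iff_eq_mul.mp (key n 0 (by omega) r ⟨hr, hQ hr⟩ ?_)
  rcases hro with h1 | ⟨h1, h2⟩
  · exact Or.inl (h1 ▸ pow_orderOf_eq_one r)
  · exact Or.inr ⟨h1, h2 ▸ pow_orderOf_eq_one r⟩

/-- Coprime elements centralise `p`-subgroups whose small elements lie in the hypercentre. -/
theorem centralizer_of_omega_le_upperCentralSeries {Q : Subgroup G} (hQ : IsPGroup p Q) (n : ℕ)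
    (h : ∀ a ∈ Q, (a ^ p = 1 ∨ (p = 2 ∧ a ^ 4 = 1)) → a ∈ Subgroup.upperCentralSeries G n)
    {g : G} (hg : g ∈ Subgroup.normalizer (Q : Set G)) (hgo : Nat.Coprime (orderOf g) p) :
    g ∈ Subgroup.centralizer (Q : Set G) := by
  have key : ∀ i : ℕ, ∀ a ∈ Q, a ∈ Subgroup.upperCentralSeries G i → g * a * g⁻¹ = a := by
    intro i
    induction i with
    | zero =>
      intro a _ ha
      rw [Subgroup.upperCentralSeries_zero, Subgroup.mem_bot] at ha
      simp [ha]
    | succ i ih =>
      intro a haQ ha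
      have h1 := Subgroup.mem_upperCentralSeries_succ_iff.mp (Subgroup.inv_mem _ ha) g
      have htQ : a⁻¹ * (g * a * g⁻¹) ∈ Q :=
        Q.mul_mem (Q.inv_mem haQ) ((Subgroup.mem_normalizer_iff.mp hg a).mp haQ)
      have htZ : a⁻¹ * (g * a * g⁻¹) ∈ Subgroup.upperCentralSeries G i := by
        simpa [commutatorElement_def, mul_assoc] using h1
      refine conj_eq_self_of_displacement hgo (t := a⁻¹ * (g * a * g⁻¹)) (by group)
        (ih _ htQ htZ) ?_
      obtain ⟨k, hk⟩ := hQ ⟨_, htQ⟩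
      exact ⟨k, congrArg Subtype.val hk⟩
  intro q hq
  refine (H27.commute_of_fixes_omega hgo hQ
    (fun r hr => (Subgroup.mem_normalizer_iff.mp hg r).mp hr) (fun r hr hro => ?_) q hq).symm
  refine mul_inv_eq_iff_eq_mul.mp (key n r hr (h r hr ?_))
  rcases hro with h1 | ⟨h1, h2⟩
  · exact Or.inl (h1 ▸ pow_orderOf_eq_one r)
  · exact Or.inr ⟨h1, h2 ▸ pow_orderOf_eq_one r⟩

/-- The relation used in Alperin-type inductions: `R` is carried onto `P` by an element
centralising their intersection. -/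
theorem sylow_conj_centralizer_inf_of_tame (P : Sylow p G)
    (h : ∀ Q : Sylow p G, let D := (P : Subgroup G) ⊓ (Q : Subgroup G)
      let N := Subgroup.normalizer (D : Set G)
      D ≠ ⊥ → (¬ p ∣ ((P : Subgroup G) ⊓ N).relIndex N ∧ ¬ p ∣ ((Q : Subgroup G) ⊓ N).relIndex N) →
        ∀ g ∈ N, Nat.Coprime (orderOf g) p → g ∈ Subgroup.centralizer (D : Set G))
    (R : Sylow p G) :
    ∃ c ∈ Subgroup.centralizer (((P : Subgroup G) ⊓ (R : Subgroup G) : Subgroup G) : Set G),
      c • R = P := by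
  induction hk : Nat.card G - Nat.card ((P : Subgroup G) ⊓ (R : Subgroup G) : Subgroup G)
      using Nat.strong_induction_on generalizing R with
  | _ k ih =>
    set D := (P : Subgroup G) ⊓ (R : Subgroup G) with hD
    by_cases hbot : D = ⊥
    · obtain ⟨c, hc⟩ := MulAction.exists_smul_eq G R P
      refine ⟨c, fun x hx => ?_, hc⟩
      rw [hbot, SetLike.mem_coe, Subgroup.mem_bot] at hx
      simp [hx]
    by_cases hPR : (P : Subgroup G) ≤ (R : Subgroup G)
    · exact ⟨1, Subgroup.one_mem _, by rw [one_smul]; exact Sylow.ext (P.3 R.2 hPR)⟩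
    set N := Subgroup.normalizer (D : Set G) with hN
    have hlt : ∀ S : Sylow p G, D < (S : Subgroup G) → D < N ⊓ (S : Subgroup G) := by
      intro S hS
      refine lt_of_le_of_ne (le_inf Subgroup.le_normalizer hS.le) fun he => ?_
      have h1 : D.subgroupOf (S : Subgroup G) < ⊤ := by
        rw [lt_top_iff_ne_top, Ne, Subgroup.subgroupOf_eq_top]; exact hS.not_ge
      haveI := S.2.isNilpotent
      obtain ⟨x, hx1, hx2⟩ := SetLike.exists_of_lt (normalizerCondition_of_isNilpotent _ h1)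
      apply hx2
      rw [Subgroup.mem_subgroupOf]
      have : (x : G) ∈ N ⊓ (S : Subgroup G) := by
        refine ⟨?_, x.2⟩
        show (x : G) ∈ Subgroup.normalizer (D : Set G)
        rw [Subgroup.mem_normalizer_iff]
        intro d
        rw [Subgroup.mem_normalizer_iff] at hx1
        constructor
        · intro hd; simpa [Subgroup.mem_subgroupOf] using (hx1 ⟨d, hS.le hd⟩).mp hd
        · intro hd
          have hdS : d ∈ (S : Subgroup G) := by
            have := (S : Subgroup G).mul_mem ((S : Subgroup G).mul_mem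
              ((S : Subgroup G).inv_mem x.2) (hS.le hd)) x.2
            simpa [mul_assoc] using this
          exact (hx1 ⟨d, hdS⟩).mpr hd
      exact he ▸ this
    have hDP : D < (P : Subgroup G) :=
      lt_of_le_of_ne inf_le_left fun he => hPR (inf_eq_left.mp he)
    have hDR : D < (R : Subgroup G) := by
      refine lt_of_le_of_ne inf_le_right fun he => hPR ?_
      exact (R.3 P.2 (inf_eq_right.mp he)).le
    have hmeasure : ∀ S : Sylow p G, D < (P : Subgroup G) ⊓ (S : Subgroup G) →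
        Nat.card G - Nat.card ((P : Subgroup G) ⊓ (S : Subgroup G) : Subgroup G) < k := by
      intro S hS
      rw [← hk]
      have h2 := Subgroup.card_le_card_group (G := G) ((P : Subgroup G) ⊓ (S : Subgroup G))
      have := Set.Finite.card_lt_card (Set.toFinite _) (SetLike.coe_ssubset_coe.mpr hS)
      simp only [SetLike.coe_sort_coe] at this
      omega
    have hmem : ∀ (c : G) (S : Sylow p G) (x : G), x ∈ (S : Subgroup G) →
        c * x * c⁻¹ ∈ ((c • S : Sylow p G) : Subgroup G) := fun c S x hx => ⟨x, hx, rfl⟩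
    have hCN : Subgroup.centralizer (D : Set G) ≤ N := Subgroup.centralizer_le_normalizer _
    -- `P ∩ N` is a Sylow subgroup of `N`
    obtain ⟨T, hT⟩ := (P.2.comap_subtype (K := N) :
      IsPGroup p ((P : Subgroup G).subgroupOf N)).exists_le_sylow
    obtain ⟨S, hS⟩ := (T.2.map N.subtype).exists_le_sylow
    obtain ⟨TP, hTP⟩ : ∃ TP : Sylow p N, (TP : Subgroup N) = (P : Subgroup G).subgroupOf N := by
      have hDS : D < (P : Subgroup G) ⊓ (S : Subgroup G) :=
        (hlt P hDP).trans_le (le_inf inf_le_right fun x hx => hS ⟨⟨x, hx.1⟩, hT hx.2, rfl⟩)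
      obtain ⟨c1, hc1, hc1'⟩ := ih _ (hmeasure S hDS) S rfl
      have hc1D : c1 ∈ Subgroup.centralizer (D : Set G) := Subgroup.centralizer_le hDS.le hc1
      refine ⟨(⟨c1, hCN hc1D⟩ : N) • T,
        ((((⟨c1, hCN hc1D⟩ : N) • T : Sylow p N)).3 P.2.comap_subtype ?_).symm⟩
      rintro _ ⟨t, ht, rfl⟩
      show c1 * (t : G) * c1⁻¹ ∈ (P : Subgroup G)
      exact hc1' ▸ hmem c1 S t (hS ⟨t, ht, rfl⟩)
    have hsylP : ∀ x : G, ∀ hx : x ∈ N, (⟨x, hx⟩ : N) ∈ (TP : Subgroup N) → x ∈ (P : Subgroup G) :=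
      fun x hx h1 => by rw [hTP] at h1; exact h1
    obtain ⟨T2, hT2⟩ := (R.2.comap_subtype (K := N) :
      IsPGroup p ((R : Subgroup G).subgroupOf N)).exists_le_sylow
    obtain ⟨S2, hS2⟩ := (T2.2.map N.subtype).exists_le_sylow
    have hDT2 : ∀ x ∈ D, ∀ hx : x ∈ N, (⟨x, hx⟩ : N) ∈ (T2 : Subgroup N) :=
      fun x hx hxN => hT2 (show x ∈ (R : Subgroup G) from hx.2)
    have hDS2 : D ≤ (P : Subgroup G) ⊓ (S2 : Subgroup G) := fun x hx =>
      ⟨hx.1, hS2 ⟨⟨x, Subgroup.le_normalizer hx⟩, hDT2 x hx _, rfl⟩⟩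
    rcases hDS2.eq_or_lt with he | hlt2
    · -- the pair `(P, S2)` is tame
      have htame : ∀ g ∈ N, Nat.Coprime (orderOf g) p → g ∈ Subgroup.centralizer (D : Set G) := by
        have := h S2
        simp only [← he] at this
        refine this hbot ⟨?_, ?_⟩
        · rw [← hN, Subgroup.inf_relIndex_right, Subgroup.relIndex, ← hTP]
          exact TP.not_dvd_index
        · rw [← hN, Subgroup.inf_relIndex_right]
          refine fun hd => T2.not_dvd_index (hd.trans (Subgroup.index_dvd_of_le ?_))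
          intro x hx; exact hS2 ⟨x, hx, rfl⟩
      haveI := centralizer_subgroupOf_normalizer_normal D
      have hC : (Subgroup.centralizer (D : Set G)).subgroupOf N ⊔ (TP : Subgroup N) = ⊤ := by
        refine sup_sylow_eq_top_of_pResidual_le ?_ TP
        show Subgroup.closure _ ≤ _
        rw [Subgroup.closure_le]
        intro x hx
        exact htame x x.2 (by rw [Subgroup.orderOf_coe]; exact hx)
      obtain ⟨n, hn⟩ := MulAction.exists_smul_eq N T2 TP
      obtain ⟨u, hu, w, hw, hnw⟩ : ∃ u ∈ (TP : Subgroup N),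
          ∃ w ∈ (Subgroup.centralizer (D : Set G)).subgroupOf N, u * w = n := by
        have hm := hC ▸ Subgroup.mem_top n
        rw [sup_comm, ← SetLike.mem_coe, Subgroup.mul_normal] at hm
        exact Set.mem_mul.mp hm
      have hR2 : D < (P : Subgroup G) ⊓ (((n : G) • R : Sylow p G) : Subgroup G) := by
        have hnD : ∀ x ∈ D, (n : G) * x * (n : G)⁻¹ ∈ D := fun x hx =>
          (Subgroup.mem_normalizer_iff.mp n.2 x).mp hx
        have hnR : ∀ x ∈ N ⊓ (R : Subgroup G), (n : G) * x * (n : G)⁻¹ ∈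
            (P : Subgroup G) ⊓ (((n : G) • R : Sylow p G) : Subgroup G) := by
          intro x hx
          refine ⟨?_, hmem _ _ _ hx.2⟩
          have h1 : n * ⟨x, hx.1⟩ * n⁻¹ ∈ ((n • T2 : Sylow p N) : Subgroup N) :=
            ⟨⟨x, hx.1⟩, hT2 hx.2, rfl⟩
          rw [hn] at h1
          exact hsylP _ _ h1
        obtain ⟨x, hx1, hx2⟩ := SetLike.exists_of_lt (hlt R hDR)
        refine lt_of_le_not_ge ?_ fun hle => hx2 ?_
        · intro y hy
          have := hnR _ (show (n : G)⁻¹ * y * n ∈ N ⊓ (R : Subgroup G) from ?_)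
          · simpa [mul_assoc] using this
          · have hy' := (Subgroup.mem_normalizer_iff.mp (N.inv_mem n.2) y).mp hy
            rw [inv_inv] at hy'
            exact ⟨Subgroup.le_normalizer hy', hy'.2⟩
        · have := hle (hnR x hx1)
          exact (Subgroup.mem_normalizer_iff.mp n.2 x).mpr this
      obtain ⟨c2, hc2, hc2'⟩ := ih _ (hmeasure _ hR2) _ rfl
      refine ⟨(u : G)⁻¹ * c2 * u * w, Subgroup.mul_mem _ ?_ hw, ?_⟩
      · intro d hd
        have hd' := (Subgroup.mem_normalizer_iff.mp u.2 d).mp hd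
        have h2 := Subgroup.centralizer_le hR2.le hc2 _ hd'
        calc d * ((u : G)⁻¹ * c2 * u) = (u : G)⁻¹ * (((u : G) * d * (u : G)⁻¹) * c2) * u := by group
          _ = (u : G)⁻¹ * (c2 * ((u : G) * d * (u : G)⁻¹)) * u := by rw [h2]
          _ = (u : G)⁻¹ * c2 * u * d := by group
      · have huP : (u : G) ∈ (P : Subgroup G) := hsylP _ u.2 hu
        rw [mul_assoc, ← Subgroup.coe_mul, hnw, mul_smul, mul_smul, hc2']
        exact Sylow.smul_eq_iff_mem_normalizer.mpr
          (Subgroup.inv_mem _ (Subgroup.le_normalizer huP))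
    · -- the larger intersection with `S2` comes first
      obtain ⟨c3, hc3, hc3'⟩ := ih _ (hmeasure S2 hlt2) S2 rfl
      have hc3D : c3 ∈ Subgroup.centralizer (D : Set G) := Subgroup.centralizer_le hlt2.le hc3
      have hR3 : D < (P : Subgroup G) ⊓ ((c3 • R : Sylow p G) : Subgroup G) := by
        have hfixD : ∀ y ∈ D, c3 * y * c3⁻¹ = y := fun y hy => by
          rw [← hc3D y hy, mul_inv_cancel_right]
        have himg : ∀ x ∈ N ⊓ (R : Subgroup G), c3 * x * c3⁻¹ ∈
            (P : Subgroup G) ⊓ ((c3 • R : Sylow p G) : Subgroup G) := fun x hx =>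
          ⟨hc3' ▸ hmem c3 S2 x (hS2 ⟨⟨x, hx.1⟩, hT2 hx.2, rfl⟩), hmem _ _ _ hx.2⟩
        obtain ⟨x, hx1, hx2⟩ := SetLike.exists_of_lt (hlt R hDR)
        refine lt_of_le_not_ge (fun y hy => ?_) fun hle => hx2 ?_
        · rw [← hfixD y hy]
          exact himg y ⟨Subgroup.le_normalizer hy, hy.2⟩
        · have h1 := hle (himg x hx1)
          have h2 : x = c3⁻¹ * (c3 * x * c3⁻¹) * c3 := by group
          rw [h2]
          have h3 := hc3D _ h1
          rw [mul_assoc, h3, inv_mul_cancel_left]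
          exact h1
      obtain ⟨c4, hc4, hc4'⟩ := ih _ (hmeasure _ hR3) _ rfl
      exact ⟨c4 * c3, Subgroup.mul_mem _ (Subgroup.centralizer_le hR3.le hc4) hc3D,
        by rw [mul_smul, hc4']⟩

end H5
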