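import Cfsg.Agent.H27.SolCount
import Cfsg.Agent.H5.PResidual
import Mathlib.Tactic

/-!
The number of `n`-th roots of a conjugacy class is divisible by `gcd(hn, |G|)`.
-/

namespace H5

open Subgroup

universe u

/-- Roots of a non-trivial `q`-element inside `q`-elements come in batches of `q ^ b`. -/
theorem pow_dvd_card_qRoots {G : Type u} [Group G] [Finite G] {q : ℕ} (hq : q.Prime) {n b k : ℕ}
    (hb : q ^ b ∣ n) {c : G} (hc : c ≠ 1) :
    q ^ b ∣ Nat.card {z : G // z ^ q ^ k = 1 ∧ z ^ n = c} := by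
  classical
  cases nonempty_fintype G
  rw [Nat.card_eq_fintype_card, Fintype.card_subtype,
    Finset.card_eq_sum_card_image Subgroup.zpowers]
  refine Finset.dvd_sum fun H hH => ?_
  obtain ⟨z, hz, rfl⟩ := Finset.mem_image.mp hH
  simp only [Finset.mem_filter, Finset.mem_univ, true_and] at hz
  obtain ⟨s, -, hs⟩ := (Nat.dvd_prime_pow hq).mp (orderOf_dvd_of_pow_eq_one hz.1)
  have hbs : b ≤ s := by
    by_contra hlt
    apply hc
    rw [← hz.2]
    exact orderOf_dvd_iff_pow_eq_one.mp (hs ▸ (pow_dvd_pow q (by omega)).trans hb)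
  -- the fibre over `⟨z⟩` is a translate of the kernel of `x ↦ x ^ n` on `⟨z⟩`
  have hgen : ∀ w ∈ zpowers z, w ^ n = c → zpowers w = zpowers z := by
    intro w hw hwc
    obtain ⟨i, rfl⟩ := hw
    refine le_antisymm (zpowers_le.mpr ⟨i, rfl⟩) (zpowers_le.mpr ?_)
    by_cases hi : (q : ℤ) ∣ i
    · exfalso
      apply hc
      obtain ⟨j, rfl⟩ := hi
      -- then `c = c ^ (q j)`, so the `q`-element `c` is trivial
      have h1 : c ^ ((q : ℤ) * j) = c := by
        conv_rhs => rw [← hwc]
        conv_lhs => rw [← hz.2]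
        simp only [← zpow_natCast, ← zpow_mul]
        congr 1; ring
      have hck : c ^ ((q : ℤ) ^ k) = 1 := by
        rw [← hz.2, show ((q : ℤ) ^ k) = ((q ^ k : ℕ) : ℤ) by push_cast; rfl, zpow_natCast,
          ← pow_mul, mul_comm, pow_mul, hz.1, one_pow]
      have h2 : c ^ ((q : ℤ) * j - 1) = 1 := by rw [zpow_sub, h1, zpow_one, mul_inv_cancel]
      obtain ⟨u, v, huv⟩ : IsCoprime ((q : ℤ) * j - 1) ((q : ℤ) ^ k) :=
        IsCoprime.pow_right ⟨-1, j, by ring⟩
      rw [← zpow_one c, ← huv, zpow_add, zpow_mul', h2, one_zpow, one_mul, zpow_mul', hck,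
        one_zpow]
    · obtain ⟨u, v, huv⟩ : IsCoprime i ((q : ℤ) ^ s) :=
        IsCoprime.pow_right (IsCoprime.symm
          ((Nat.prime_iff_prime_int.mp hq).coprime_iff_not_dvd.mpr hi))
      refine ⟨u, ?_⟩
      show (z ^ i) ^ u = z
      have hzs : z ^ ((q : ℤ) ^ s) = 1 := by
        rw [show ((q : ℤ) ^ s) = ((q ^ s : ℕ) : ℤ) by push_cast; rfl, zpow_natCast, ← hs,
          pow_orderOf_eq_one]
      conv_rhs => rw [← zpow_one z, ← huv, zpow_add, zpow_mul' z v, hzs, one_zpow, mul_one]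
      rw [← zpow_mul, mul_comm]
  set C := zpowers z with hC
  have hker : Nat.card {u : C // u ^ n = 1} = n.gcd (q ^ s) := by
    have h1 : IsCyclic C := inferInstance
    letI : CommGroup C := IsCyclic.commGroup
    have h3 := IsCyclic.card_powMonoidHom_ker (G := C) n
    rw [Nat.card_zpowers, hs] at h3
    rw [Nat.gcd_comm, ← h3]
    exact Nat.card_congr (Equiv.subtypeEquivRight fun u => by
      simp [MonoidHom.mem_ker, powMonoidHom_apply])
  have hfib : ((Finset.univ.filter fun z : G => z ^ q ^ k = 1 ∧ z ^ n = c).filter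
      fun w => zpowers w = C).card = Nat.card {u : C // u ^ n = 1} := by
    rw [Nat.card_eq_fintype_card, Fintype.card_subtype]
    symm
    refine Finset.card_bij (fun u _ => z * (u : G)) ?_ ?_ ?_
    · intro u hu
      simp only [Finset.mem_filter, Finset.mem_univ, true_and] at hu
      have hcm : Commute z (u : G) := by
        obtain ⟨i, hi⟩ := u.2
        rw [← hi]; exact Commute.self_zpow z i
      have hun : (u : G) ^ n = 1 := congrArg Subtype.val hu
      have hwn : (z * (u : G)) ^ n = c := by rw [hcm.mul_pow, hun, hz.2, mul_one]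
      have hmem : z * (u : G) ∈ C := C.mul_mem (mem_zpowers z) u.2
      simp only [Finset.mem_filter, Finset.mem_univ, true_and]
      refine ⟨⟨?_, hwn⟩, hgen _ hmem hwn⟩
      obtain ⟨i, hi⟩ := hmem
      rw [← hi, ← zpow_natCast (z ^ i), ← zpow_mul, mul_comm, zpow_mul, zpow_natCast, hz.1, one_zpow]
    · intro u _ v _ h
      exact Subtype.ext (mul_left_cancel h)
    · intro w hw
      simp only [Finset.mem_filter, Finset.mem_univ, true_and] at hw
      have hwC : w ∈ C := hw.2 ▸ mem_zpowers w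
      refine ⟨⟨z⁻¹ * w, C.mul_mem (C.inv_mem (mem_zpowers z)) hwC⟩, ?_, mul_inv_cancel_left z w⟩
      simp only [Finset.mem_filter, Finset.mem_univ, true_and]
      apply Subtype.ext
      have hcm : Commute z⁻¹ w := by
        obtain ⟨i, hi⟩ := hwC
        rw [← hi]; exact ((Commute.refl z).zpow_right i).inv_left
      show (z⁻¹ * w) ^ n = 1
      rw [hcm.mul_pow, inv_pow, hz.2, hw.1.2, inv_mul_cancel]
  rw [hfib, hker]
  exact Nat.dvd_gcd hb (pow_dvd_pow q hbs)

/-- For a central `c`, the number of `n`-th roots of `c` is divisible by `gcd(n, |G|)`. -/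
theorem gcd_dvd_card_roots {G : Type u} [Group G] [Finite G] {c : G} (hc : ∀ g, Commute c g)
    (n : ℕ) : Nat.gcd n (Nat.card G) ∣ Nat.card {x : G // x ^ n = c} := by
  classical
  cases nonempty_fintype G
  rw [Nat.dvd_iff_prime_pow_dvd_dvd]
  intro q a hq hqa
  haveI := Fact.mk hq
  have hqn : q ^ a ∣ n := hqa.trans (Nat.gcd_dvd_left _ _)
  have hqG : q ^ a ∣ Nat.card G := hqa.trans (Nat.gcd_dvd_right _ _)
  set k := (Nat.card G).factorization q with hk
  set M := q ^ k with hM
  set D := Nat.card G / M with hD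
  have hDM : D * M = Nat.card G := Nat.div_mul_cancel (Nat.ordProj_dvd _ _)
  have hcop : D.Coprime M := ((Nat.coprime_ordCompl hq Nat.card_pos.ne').pow_left k).symm
  have hall : ∀ x : G, x ^ (D * M) = 1 := fun x => by rw [hDM, pow_card_eq_one']
  obtain ⟨e, he⟩ := H27.exists_split_exponent (G := G) hcop
  obtain ⟨c1, c2, hc12, hc1, hc2, hcc⟩ := H27.exists_split hcop (hall c)
  have hc2c : ∀ g, Commute c2 g := by
    have h1 : c ^ e = c1 := by rw [hcc]; exact he c1 c2 hc12 hc1 hc2
    intro g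
    have h2 : c2 = c1⁻¹ * c := by rw [hcc, inv_mul_cancel_left]
    rw [h2, ← h1]
    exact ((hc g).pow_left e).inv_left.mul_left (hc g)
  -- split every root
  have hsplit : ∀ y z : G, Commute y z → y ^ D = 1 → z ^ M = 1 →
      ((y * z) ^ n = c ↔ y ^ n = c1 ∧ z ^ n = c2) := by
    intro y z hyz hy hz
    constructor
    · intro h
      rw [hyz.mul_pow, hcc] at h
      have h1 := he (y ^ n) (z ^ n) (hyz.pow_pow n n)
        (by rw [← pow_mul, mul_comm, pow_mul, hy, one_pow])
        (by rw [← pow_mul, mul_comm, pow_mul, hz, one_pow])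
      rw [h, he c1 c2 hc12 hc1 hc2] at h1
      exact ⟨h1.symm, mul_left_cancel (h.trans (by rw [h1]))⟩
    · rintro ⟨h1, h2⟩
      rw [hyz.mul_pow, h1, h2, hcc]
  let T : Finset G := Finset.univ.filter fun y => y ^ D = 1 ∧ y ^ n = c1
  let f : G → ℕ := fun y => Nat.card {z : G // Commute y z ∧ z ^ M = 1 ∧ z ^ n = c2}
  have hcount : Nat.card {x : G // x ^ n = c} = ∑ y ∈ T, f y := by
    have : Nat.card (Σ y : T, {z : G // Commute (y : G) z ∧ z ^ M = 1 ∧ z ^ n = c2}) =
        Nat.card {x : G // x ^ n = c} := by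
      refine Nat.card_congr (Equiv.ofBijective (fun t => ⟨(t.1 : G) * (t.2 : G),
        (hsplit _ _ t.2.2.1 (Finset.mem_filter.mp t.1.2).2.1 t.2.2.2.1).mpr
          ⟨(Finset.mem_filter.mp t.1.2).2.2, t.2.2.2.2⟩⟩) ⟨?_, ?_⟩)
      · rintro ⟨⟨y, hy⟩, ⟨z, hz⟩⟩ ⟨⟨y', hy'⟩, ⟨z', hz'⟩⟩ hh
        have hh' : y * z = y' * z' := congrArg Subtype.val hh
        have h1 : y = y' := by
          rw [← he y z hz.1 (Finset.mem_filter.mp hy).2.1 hz.2.1, hh',
            he y' z' hz'.1 (Finset.mem_filter.mp hy').2.1 hz'.2.1]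
        subst h1
        obtain rfl : z = z' := mul_left_cancel hh'
        rfl
      · rintro ⟨x, hx⟩
        obtain ⟨y, z, hyz, hy, hz, rfl⟩ := H27.exists_split hcop (hall x)
        obtain ⟨h1, h2⟩ := (hsplit y z hyz hy hz).mp hx
        exact ⟨⟨⟨y, Finset.mem_filter.mpr ⟨Finset.mem_univ _, hy, h1⟩⟩, ⟨z, hyz, hz, h2⟩⟩, rfl⟩
    rw [← this, Nat.card_sigma]
    exact Finset.sum_coe_sort T f
  rw [hcount]
  have hc1c : ∀ g, Commute c1 g := fun g => by
    rw [← he c1 c2 hc12 hc1 hc2, ← hcc]; exact (hc g).pow_left e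
  refine H27.dvd_sum_of_conj_invariant _ T f ?_ ?_ ?_
  · intro g y hy
    simp only [T, Finset.mem_filter, Finset.mem_univ, true_and] at hy ⊢
    refine ⟨by rw [conj_pow, hy.1, mul_one, mul_inv_cancel], ?_⟩
    rw [conj_pow, hy.2, ← (hc1c g).eq, mul_inv_cancel_right]
  · intro g y
    refine (Nat.card_congr ((MulAut.conj g).toEquiv.subtypeEquiv fun z => ?_)).symm
    refine and_congr ⟨fun h => ?_, fun h => ?_⟩ (and_congr ?_ ?_)
    · simpa [MulAut.conj_apply] using h.map (MulAut.conj g).toMonoidHom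
    · simpa [MulAut.conj_apply, mul_assoc] using h.map (MulAut.conj g⁻¹).toMonoidHom
    · show z ^ M = 1 ↔ (g * z * g⁻¹) ^ M = 1
      rw [conj_pow, mul_inv_eq_one, mul_eq_left]
    · show z ^ n = c2 ↔ (g * z * g⁻¹) ^ n = c2
      rw [conj_pow, mul_inv_eq_iff_eq_mul, (hc2c g).eq, mul_left_cancel_iff]
  · intro y _
    set C := Subgroup.centralizer ({y} : Set G) with hC
    have hc2C : c2 ∈ C := Subgroup.mem_centralizer_singleton_iff.mpr (hc2c y)
    set m := min a ((Nat.card C).factorization q) with hm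
    have hfy : f y = Nat.card {z : C // z ^ M = 1 ∧ z ^ n = ⟨c2, hc2C⟩} :=
      Nat.card_congr
        { toFun := fun z => ⟨⟨z.1, Subgroup.mem_centralizer_singleton_iff.mpr z.2.1.symm⟩,
            Subtype.ext z.2.2.1, Subtype.ext z.2.2.2⟩
          invFun := fun z => ⟨z.1.1, (Subgroup.mem_centralizer_singleton_iff.mp z.1.2).symm,
            congrArg Subtype.val z.2.1, congrArg Subtype.val z.2.2⟩
          left_inv := fun _ => rfl
          right_inv := fun _ => rfl }
    have hmn : q ^ m ∣ n := (pow_dvd_pow q (min_le_left _ _)).trans hqn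
    have hmC : q ^ m ∣ Nat.card C :=
      (pow_dvd_pow q (min_le_right _ _)).trans (Nat.ordProj_dvd _ _)
    have hmM : q ^ m ∣ M := (pow_dvd_pow q (min_le_left _ _)).trans
      (pow_dvd_pow q ((hq.pow_dvd_iff_le_factorization Nat.card_pos.ne').mp hqG))
    have hmf : q ^ m ∣ f y := by
      rw [hfy]
      by_cases h2 : c2 = 1
      · have hcongr : Nat.card {z : C // z ^ M = 1 ∧ z ^ n = ⟨c2, hc2C⟩} =
            Nat.card {z : C // z ^ Nat.gcd M n = 1} := by
          refine Nat.card_congr (Equiv.subtypeEquivRight fun z => ?_)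
          have : (⟨c2, hc2C⟩ : C) = 1 := Subtype.ext h2
          rw [this]
          exact ⟨fun h => pow_gcd_eq_one.mpr h, fun h => pow_gcd_eq_one.mp h⟩
        rw [hcongr]
        exact (Nat.dvd_gcd (Nat.dvd_gcd hmM hmn) hmC).trans
          (H27.gcd_card_dvd_card_pow_eq_one C _)
      · exact pow_dvd_card_qRoots hq hmn fun h => h2 (congrArg Subtype.val h)
    have hidx : q ^ (a - m) ∣ C.index := by
      by_cases hle : a ≤ (Nat.card C).factorization q
      · rw [hm, min_eq_left hle, Nat.sub_self, pow_zero]; exact one_dvd _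
      · rw [hm, min_eq_right (by omega)]
        set l := (Nat.card C).factorization q with hl
        have h1 : q ^ a ∣ Nat.card C * C.index := by rw [Subgroup.card_mul_index]; exact hqG
        rw [← Nat.ordProj_mul_ordCompl_eq_self (Nat.card C) q, ← hl,
          show a = l + (a - l) by omega, pow_add, mul_assoc] at h1
        exact ((Nat.coprime_ordCompl hq Nat.card_pos.ne').pow_left _).dvd_of_dvd_mul_left
          (Nat.dvd_of_mul_dvd_mul_left (pow_pos hq.pos _) h1)
    have h3 : q ^ a = q ^ (a - m) * q ^ m := by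
      rw [← pow_add]; congr 1; omega
    rw [h3]
    exact Nat.mul_dvd_mul hidx hmf

end H5
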