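import Cfsg.Agent.H86.PrimeLeast
import Cfsg.Agent.H86.ExtStep
import Cfsg.Agent.H88.Normal
import Cfsg.Agent.H89.Generation
import Cfsg.Agent.S5251

/-!
Levels of maps between centric subgroups with respect to a normal subsystem and a character of
`Aut_F(T)` of order prime to `p` killing `Aut_E(T)`.
-/

set_option autoImplicit false
set_option linter.style.haveILetI false

open Cfsg Cfsg.FusionSystem

namespace H5.SubLevel

variable {Ω : Type*} [Group Ω] {S T : Subgroup Ω} {p : ℕ}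
  {F : FusionSystem S} {E : FusionSystem T} {Δ : Type*} [Group Δ]
  {χ : F.autGroup T →* Δ}

/-- The hypotheses on the character `χ`. -/
structure Data (p : ℕ) (F : FusionSystem S) (E : FusionSystem T)
    (χ : F.autGroup T →* Δ) : Prop where
  hS : IsPGroup p S
  hE : E.IsNormalIn F p
  hΔ : (Nat.card Δ).Coprime p
  hker : (E.autGroup T).subgroupOf (F.autGroup T) ≤ χ.ker

/-- The level of the restriction to `P ∩ T`. -/
def GV (E : FusionSystem T) (χ : F.autGroup T →* Δ) (P : Subgroup Ω) (φ : P →* Ω) (d : Δ) : Prop :=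
  ∃ α : F.autGroup T, χ α = d ∧
    H86.Lev E (α : MulAut T) (P ⊓ T) (φ.comp (Subgroup.inclusion inf_le_left))

namespace Data

theorem sat (D : Data p F E χ) : F.IsSaturated p := D.hE.1.2.1

theorem sc (D : Data p F E χ) : F.StronglyClosed T := D.hE.1.2.2.2.1

variable [Finite S] [Fact p.Prime]

theorem norm (D : Data p F E χ) (α : F.autGroup T) : H86.NormAut E (α : MulAut T) :=
  H86.normAut_of_strongInv (H86.strongInv_of_invariant D.hE.1.2.2) D.sc.1 α.2

theorem eq_one_of_pow (D : Data p F E χ) {d : Δ} {k : ℕ} (h : d ^ p ^ k = 1) : d = 1 := by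
  have h1 : orderOf d ∣ Nat.card Δ := orderOf_dvd_natCard d
  have h2 : orderOf d ∣ p ^ k := orderOf_dvd_of_pow_eq_one h
  have h3 : (Nat.card Δ).Coprime (p ^ k) := D.hΔ.pow_right k
  exact orderOf_eq_one_iff.1 (Nat.eq_one_of_dvd_coprimes h3 h1 h2)

theorem chi_pElement (D : Data p F E χ) {α : F.autGroup T} {k : ℕ}
    (h : (α : MulAut T) ^ p ^ k = 1) : χ α = 1 := by
  refine D.eq_one_of_pow (k := k) ?_
  rw [← map_pow, show α ^ p ^ k = 1 from Subtype.ext (by simpa using h), map_one]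

/-- An `E`-centric subgroup carries no loop of nontrivial level. -/
theorem fine (D : Data p F E χ) {U : Subgroup Ω} (hU : E.IsCentric U) {α : F.autGroup T}
    (h : H86.Lev E (α : MulAut T) U U.subtype) : χ α = 1 := by
  have hTS := D.sc.1
  haveI : Finite T := H85.finite_of_le hTS
  have hTp : IsPGroup p T := D.hS.to_le hTS
  suffices H : ∀ (n : ℕ) (U : Subgroup Ω), E.IsCentric U → Nat.card T - Nat.card U ≤ n →
      ∀ α : F.autGroup T, H86.Lev E (α : MulAut T) U U.subtype → χ α = 1 from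
    H _ U hU le_rfl α h
  intro n
  induction n using Nat.strong_induction_on with
  | _ n ihn =>
  intro U hU hn α h
  obtain ⟨φ₀, h₀, he⟩ := h
  have hφT : ∀ x : U, φ₀ x ∈ T := (E.le_of_mem h₀).2
  rcases eq_or_lt_of_le hU.1 with heq | hlt
  · subst heq
    refine MonoidHom.mem_ker.1 (D.hker (Subgroup.mem_subgroupOf.2 ?_))
    refine inv_inv (α : MulAut U) ▸ inv_mem ((H85.mem_autGroup le_rfl).2 (H85.hom_congr h₀ fun x => ?_))
    show φ₀ x = (((α : MulAut U)⁻¹ x : U) : Ω)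
    have h1 : x = (α : MulAut U) ⟨φ₀ x, hφT x⟩ := Subtype.ext (he x (hφT x))
    conv_rhs => rw [h1, MulAut.inv_apply_self]
  have hval : ∀ x : U, (⟨φ₀ x, hφT x⟩ : T) = (α : MulAut T)⁻¹ ⟨(x : Ω), hU.1 x.2⟩ := fun x => by
    rw [show (⟨(x : Ω), hU.1 x.2⟩ : T) = (α : MulAut T) ⟨φ₀ x, hφT x⟩ from
      Subtype.ext (he x (hφT x)), MulAut.inv_apply_self]
  have hrc : E.IsCentric φ₀.range := H85.centric_of_isConj hU ⟨φ₀, h₀, rfl⟩
  obtain ⟨f, hf, hext⟩ := (H85.receptive_of_fullyCentralized hTp D.hE.1.1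
    (H85.centric_fullyCentralized hrc)).2 U φ₀ h₀ rfl
  have hval' : ∀ x : U, φ₀ x = (((α : MulAut T)⁻¹ ⟨(x : Ω), hU.1 x.2⟩ : T) : Ω) := fun x =>
    congrArg Subtype.val (hval x)
  have hX : normalizerIn T U ≤ extender T U φ₀ := by
    intro g hg
    refine H85.mem_extender.2 ⟨hg.1, hg.2, (((α : MulAut T)⁻¹ ⟨g, hg.1⟩ : T) : Ω),
      SetLike.coe_mem _, fun x hx => ?_⟩
    have e1 : (⟨g * x * g⁻¹, hU.1 hx⟩ : T) = ⟨g, hg.1⟩ * ⟨(x : Ω), hU.1 x.2⟩ * ⟨g, hg.1⟩⁻¹ := rfl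
    have h1 : φ₀ ⟨g * x * g⁻¹, hx⟩ = (((α : MulAut T)⁻¹ ⟨g * x * g⁻¹, hU.1 hx⟩ : T) : Ω) :=
      hval' ⟨g * x * g⁻¹, hx⟩
    rw [e1, map_mul, map_mul, map_inv, Subgroup.coe_mul, Subgroup.coe_mul, Subgroup.coe_inv,
      ← hval' x] at h1
    exact h1
  have hNT : normalizerIn T U ≤ T := H85.normalizerIn_le U
  have hUN : U ≤ normalizerIn T U := H85.le_normalizerIn hU.1
  haveI : Finite (normalizerIn T U) := H85.finite_of_le hNT
  haveI : Finite U := H85.finite_of_le hU.1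
  set N := normalizerIn T U with hN
  have hfN : f.comp (Subgroup.inclusion hX) ∈ E.Hom N := H85.restrict hf hX
  have hfT : ∀ x : N, (f.comp (Subgroup.inclusion hX)) x ∈ T := (E.le_of_mem hfN).2
  let δ : N →* Ω := ((α : MulAut T).toMonoidHom.comp ((f.comp (Subgroup.inclusion hX)).codRestrict T hfT)
    |> T.subtype.comp)
  have hlev : H86.Lev E (α : MulAut T) N δ := ⟨_, hfN, fun x hx => rfl⟩
  have hδF : δ ∈ F.Hom N := hlev.mem D.hE.1.2.2.1 hTS α.2
  have hδU : ∀ x : N, (x : Ω) ∈ U → δ x = x := by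
    intro x hx
    show (((α : MulAut T) ⟨f ⟨(x : Ω), hX x.2⟩, _⟩ : T) : Ω) = x
    refine Eq.trans ?_ (he ⟨(x : Ω), hx⟩ (hφT _)).symm
    exact congrArg (fun t : T => (((α : MulAut T) t : T) : Ω)) (Subtype.ext (hext x hx (hX x.2)))
  have hδmod : ∀ g : N, (g : Ω)⁻¹ * δ g ∈ U := by
    intro g
    refine H85.centric_self hU (H85.mem_centralizerIn.2 ⟨T.mul_mem (T.inv_mem (hNT g.2))
      (SetLike.coe_mem _), fun u hu => ?_⟩)
    have hu' : (g : Ω) * u * (g : Ω)⁻¹ ∈ U := H85.conj_mem_of_mem_normalizer g.2.2 hu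
    have h1 := map_mul δ g ⟨u, hUN hu⟩
    have h2 : g * ⟨u, hUN hu⟩ = ⟨(g : Ω) * u * (g : Ω)⁻¹, hUN hu'⟩ * g :=
      Subtype.ext (by simp [mul_assoc])
    rw [h2, map_mul, hδU ⟨u, hUN hu⟩ hu, hδU ⟨(g : Ω) * u * (g : Ω)⁻¹, hUN hu'⟩ hu'] at h1
    show u * ((g : Ω)⁻¹ * δ g) = (g : Ω)⁻¹ * δ g * u
    rw [mul_assoc ((g : Ω)⁻¹) (δ g), ← h1]
    simp [mul_assoc]
  have hrange : δ.range = N := by
    refine H86.range_eq_self_of_le F hδF ?_
    rintro _ ⟨g, rfl⟩
    have := N.mul_mem g.2 (hUN (hδmod g))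
    rwa [mul_inv_cancel_left] at this
  set b : MulAut N := H86.autOfHom δ (F.injective_of_mem hδF) hrange
  obtain ⟨k, hk⟩ := H85.aut_isPElement (D.hS.to_le (hNT.trans hTS)) b
    (fun x hx => Subtype.ext (hδU x hx)) hδmod
  have hNc : E.IsCentric N := H85.centric_mono hU hUN hNT
  have hbig : Nat.card U < Nat.card N :=
    H86.card_lt_card_normalizerIn hTp le_rfl hlt
  have hle : Nat.card N ≤ Nat.card T := Subgroup.card_le_of_le hNT
  have hloop : ∀ j : ℕ, H86.Lev E ((α ^ j : F.autGroup T) : MulAut T) N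
      (N.subtype.comp (b ^ j).toMonoidHom) := by
    intro j
    induction j with
    | zero =>
      rw [pow_zero, pow_zero, OneMemClass.coe_one]
      exact H86.lev_one.2 (H85.id_mem E hNT)
    | succ j ih =>
      rw [pow_succ' α, Subgroup.coe_mul]
      refine ih.comp hlev (D.norm (α ^ j)⁻¹) (fun x => ((b ^ j) x).2) fun x => ?_
      rw [pow_succ']
      rfl
  have h1 := hloop (p ^ k)
  rw [hk] at h1
  have h2 := ihn (Nat.card T - Nat.card N) (by omega) N hNc le_rfl (α ^ p ^ k)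
    (h1.congr fun x => rfl)
  exact D.eq_one_of_pow (k := k) (by rw [← map_pow]; exact h2)

theorem gv_unique (D : Data p F E χ) {P : Subgroup Ω} {φ : P →* Ω} (hφ : φ ∈ F.Hom P)
    (hP : E.IsCentric (P ⊓ T)) {d d' : Δ} (h : GV E χ P φ d) (h' : GV E χ P φ d') : d = d' := by
  obtain ⟨α, rfl, hα⟩ := h
  obtain ⟨β, rfl, hβ⟩ := h'
  set φU := φ.comp (Subgroup.inclusion (inf_le_left : P ⊓ T ≤ P)) with hφU
  have hU : φU ∈ F.Hom (P ⊓ T) := H85.restrict hφ inf_le_left
  let e := H85.isoOf φU hU rfl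
  have h1 : H86.Lev E ((β⁻¹ : F.autGroup T) : MulAut T) φU.range
      ((P ⊓ T).subtype.comp e.symm.toMonoidHom) :=
    hβ.inv (D.norm β) fun y => ⟨e.symm y, by
      show ((e (e.symm y) : φU.range) : Ω) = y
      rw [MulEquiv.apply_symm_apply], rfl⟩
  have h2 : H86.Lev E ((β⁻¹ * α : F.autGroup T) : MulAut T) (P ⊓ T) (P ⊓ T).subtype :=
    hα.comp h1 (D.norm α⁻¹) (fun x => ⟨x, rfl⟩) fun x => by
      show (x : Ω) = ((e.symm (e x) : (P ⊓ T : Subgroup Ω)) : Ω)
      rw [MulEquiv.symm_apply_apply]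
  have h3 := D.fine hP h2
  rw [map_mul, map_inv, inv_mul_eq_one] at h3
  exact h3.symm

theorem gv_exists (D : Data p F E χ) {P : Subgroup Ω} {φ : P →* Ω} (hφ : φ ∈ F.Hom P) :
    ∃ d, GV E χ P φ d := by
  obtain ⟨a, ha, φ₀, h₀, he⟩ :=
    D.hE.1.2.2.2.2.2 (P ⊓ T) inf_le_right _ (H85.restrict hφ inf_le_left)
  exact ⟨χ ⟨a, ha⟩, ⟨a, ha⟩, rfl, φ₀, h₀, he⟩

theorem gv_res {P Q : Subgroup Ω} (h : P ≤ Q) {ψ : Q →* Ω} {d : Δ}
    (hd : GV E χ Q ψ d) : GV E χ P (ψ.comp (Subgroup.inclusion h)) d := by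
  obtain ⟨α, hα, hl⟩ := hd
  exact ⟨α, hα, hl.res (inf_le_inf_right T h) fun x => rfl⟩

theorem gv_comp (D : Data p F E χ) {P : Subgroup Ω} {φ φ' : P →* Ω} {ψ : φ.range →* Ω}
    (hφ : φ ∈ F.Hom P) (he : ∀ x : P, φ' x = ψ ⟨φ x, x, rfl⟩) {d d' : Δ}
    (hd : GV E χ P φ d) (hd' : GV E χ φ.range ψ d') : GV E χ P φ' (d' * d) := by
  obtain ⟨α, rfl, hα⟩ := hd
  obtain ⟨β, rfl, hβ⟩ := hd'
  refine ⟨β * α, map_mul χ β α, ?_⟩
  exact hα.comp hβ (D.norm α⁻¹) (fun x => ⟨⟨⟨(x : Ω), x.2.1⟩, rfl⟩,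
    H88.sc_map_mem D.sc hφ (x := ⟨(x : Ω), x.2.1⟩) x.2.2⟩) fun x => he _

theorem inf_centric_map (D : Data p F E χ) {P : Subgroup Ω} {φ : P →* Ω} (hφ : φ ∈ F.Hom P)
    (hP : E.IsCentric (P ⊓ T)) : E.IsCentric (φ.range ⊓ T) := by
  refine H86.centric_of_conj D.hE.1 hP ⟨_, H85.restrict hφ inf_le_left, ?_⟩
  ext y
  constructor
  · rintro ⟨x, rfl⟩
    exact ⟨⟨⟨(x : Ω), x.2.1⟩, rfl⟩, H88.sc_map_mem D.sc hφ (x := ⟨(x : Ω), x.2.1⟩) x.2.2⟩
  · rintro ⟨⟨x, rfl⟩, hy⟩
    exact ⟨⟨(x : Ω), x.2, (H88.sc_map_mem_iff D.sc hφ x).1 hy⟩, rfl⟩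

theorem inf_centric_of_map (D : Data p F E χ) {P : Subgroup Ω} {φ : P →* Ω} (hφ : φ ∈ F.Hom P)
    (hP : E.IsCentric (φ.range ⊓ T)) : E.IsCentric (P ⊓ T) := by
  let e := (H85.isoOf φ hφ rfl).symm
  have he : H85.IsFIso F e := (H85.isFIso_isoOf φ hφ rfl).symm
  have := D.inf_centric_map (φ := P.subtype.comp e.toMonoidHom) he hP
  rwa [H85.IsFIso.range_eq e] at this

end Data

/-! ### Level functions -/

/-- `L` is a level function on the centric subgroups of depth less than `n`. -/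
structure LAx (F : FusionSystem S) (E : FusionSystem T) (χ : F.autGroup T →* Δ) (n : ℕ)
    (L : ∀ P : Subgroup Ω, (P →* Ω) → Δ) : Prop where
  res : ∀ (P Q : Subgroup Ω) (h : P ≤ Q) (ψ : Q →* Ω), ψ ∈ F.Hom Q → F.IsCentric P →
    Nat.card S - Nat.card P < n → L P (ψ.comp (Subgroup.inclusion h)) = L Q ψ
  comp : ∀ (P : Subgroup Ω) (φ φ' : P →* Ω) (ψ : φ.range →* Ω), φ ∈ F.Hom P → ψ ∈ F.Hom φ.range →
    F.IsCentric P → Nat.card S - Nat.card P < n → (∀ x : P, φ' x = ψ ⟨φ x, x, rfl⟩) →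
    L P φ' = L φ.range ψ * L P φ
  good : ∀ (P : Subgroup Ω) (φ : P →* Ω), φ ∈ F.Hom P → F.IsCentric P →
    Nat.card S - Nat.card P < n → E.IsCentric (P ⊓ T) → GV E χ P φ (L P φ)

namespace LAx

variable [Finite S] [Fact p.Prime] {n : ℕ} {L : ∀ P : Subgroup Ω, (P →* Ω) → Δ}

theorem comp' (A : LAx F E χ n L) {P Q : Subgroup Ω} {φ φ' : P →* Ω} {ψ : Q →* Ω}
    (hφ : φ ∈ F.Hom P) (hψ : ψ ∈ F.Hom Q) (hc : F.IsCentric P)
    (hn : Nat.card S - Nat.card P < n) (hm : ∀ x : P, φ x ∈ Q)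
    (he : ∀ x : P, φ' x = ψ ⟨φ x, hm x⟩) : L P φ' = L Q ψ * L P φ := by
  have hle : φ.range ≤ Q := by
    rintro _ ⟨x, rfl⟩
    exact hm x
  rw [A.comp P φ φ' _ hφ (H85.restrict hψ hle) hc hn fun x => he x,
    A.res φ.range Q hle ψ hψ (H85.centric_of_isConj hc ⟨φ, hφ, rfl⟩)
      (by rw [← H85.isConj_card (F := F) (P := P) ⟨φ, hφ, rfl⟩]; exact hn)]

theorem conj_one (D : Data p F E χ) (A : LAx F E χ n L) {P : Subgroup Ω} (hP : F.IsCentric P)
    (hn : Nat.card S - Nat.card P < n) {g : Ω} (hg : g ∈ S) : L P (Cfsg.conjHom P g) = 1 := by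
  have hTS := D.sc.1
  haveI : Finite T := H85.finite_of_le hTS
  have hS' : F.IsCentric S := H85.centric_top F
  have h0 : Nat.card S - Nat.card S < n := by omega
  have hmem := F.conj_mem (le_refl S) hg
  have h1 := A.res P S hP.1 _ hmem hP hn
  rw [show (Cfsg.conjHom S g).comp (Subgroup.inclusion hP.1) = Cfsg.conjHom P g from rfl] at h1
  rw [h1]
  have hc : E.IsCentric (S ⊓ T) := by
    rw [inf_eq_right.2 hTS]
    exact H85.centric_top E
  have hgT : g ∈ normalizerIn S T :=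
    ⟨hg, H85.mem_normalizer_of_conj fun x hx => D.sc.2 T le_rfl _ (F.conj_mem hTS hg) ⟨x, hx⟩⟩
  let c : F.autGroup T := ⟨H85.conjAut S T ⟨g, hgT⟩,
    H85.autInducedBy_le_autGroup F hTS (H85.conjAut_range S T ▸ ⟨_, rfl⟩)⟩
  have h2 : GV E χ S (Cfsg.conjHom S g) (χ c) :=
    ⟨c, rfl, (S ⊓ T : Subgroup Ω).subtype, H85.id_mem E inf_le_right, fun x hx => rfl⟩
  rw [D.gv_unique hmem hc (A.good S _ hmem hS' h0 hc) h2]
  obtain ⟨k, hk⟩ := (D.hS.to_le (H85.normalizerIn_le T)) ⟨g, hgT⟩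
  exact D.chi_pElement (k := k) (by
    show (H85.conjAut S T ⟨g, hgT⟩) ^ p ^ k = 1
    rw [← map_pow, hk, map_one])

theorem id_one (D : Data p F E χ) (A : LAx F E χ n L) {P : Subgroup Ω} (hP : F.IsCentric P)
    (hn : Nat.card S - Nat.card P < n) : L P P.subtype = 1 := by
  have := A.conj_one D hP hn S.one_mem
  rwa [show Cfsg.conjHom P (1 : Ω) = P.subtype from MonoidHom.ext fun x => by
    simp [H85.conjHom_apply]] at this

/-- Maps agreeing on a centric subgroup have equal levels. -/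
theorem agree (D : Data p F E χ) (A : LAx F E χ n L) {P R : Subgroup Ω} (hPR : P ≤ R)
    (hP : F.IsCentric P) {f f' : R →* Ω} (hf : f ∈ F.Hom R) (hf' : f' ∈ F.Hom R)
    (hn : Nat.card S - Nat.card R < n) (h : ∀ x : R, (x : Ω) ∈ P → f x = f' x) :
    L R f' = L R f := by
  have hR := H85.centric_mono hP hPR (H85.source_le hf)
  obtain ⟨z, -, -, hz⟩ := H85.centric_agree D.hS D.sat hPR hP hf hf' h
  have hzS : (z : Ω) ∈ S := H85.source_le hf z.2
  rw [A.comp' (φ := Cfsg.conjHom R z) (F.conj_mem (H85.source_le hf) hzS) hf hR hn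
    (fun x => H85.conj_mem_self z.2 x) fun x => hz x, A.conj_one D hR hn hzS, mul_one]

end LAx

/-! ### The step at subgroups meeting `T` in a non-centric subgroup -/

/-- A map moving `P` to `P₀` defined on the normalizer. -/
structure Move (F : FusionSystem S) (P P₀ : Subgroup Ω) where
  σ : normalizerIn S P →* Ω
  hσ : σ ∈ F.Hom (normalizerIn S P)
  le : P ≤ normalizerIn S P
  img : H85.img σ P = P₀
  cod : ∀ x, σ x ∈ normalizerIn S P₀

/-- The isomorphism of a move. -/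
noncomputable def Move.iso {P P₀ : Subgroup Ω} (m : Move F P P₀) : P ≃* P₀ :=
  (H85.resIso m.σ (F.injective_of_mem m.hσ) m.le).trans (MulEquiv.subgroupCongr m.img)

theorem Move.iso_apply {P P₀ : Subgroup Ω} (m : Move F P P₀) (x : P) :
    (m.iso x : Ω) = m.σ (Subgroup.inclusion m.le x) := rfl

/-- The elements of `N_S(P)` inducing elements of `O_p(Aut_F(P))`. -/
noncomputable def coreNorm (p : ℕ) (F : FusionSystem S) (P : Subgroup Ω) : Subgroup Ω :=
  (((pCore p (F.autGroup P)).map (F.autGroup P).subtype).comap (H85.conjAut S P)).map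
    (normalizerIn S P).subtype

theorem coreNorm_le (F : FusionSystem S) (P : Subgroup Ω) : coreNorm p F P ≤ normalizerIn S P :=
  Subgroup.map_subtype_le _

open Classical in
/-- The level of an automorphism of `P₀`, read off an extension. -/
noncomputable def lam (p : ℕ) (F : FusionSystem S) (L : ∀ P : Subgroup Ω, (P →* Ω) → Δ)
    {P₀ : Subgroup Ω} (a : MulAut P₀) : Δ :=
  if h : ∃ ψ ∈ F.Hom (coreNorm p F P₀),
      ∀ (x : P₀) (hx : (x : Ω) ∈ coreNorm p F P₀), ψ ⟨x, hx⟩ = (a x : Ω)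
  then L _ h.choose else 1

/-- The value of the level of an isomorphism at the new depth. -/
noncomputable def moveVal (p : ℕ) (L : ∀ P : Subgroup Ω, (P →* Ω) → Δ) {P Q P₀ : Subgroup Ω}
    (m : Move F P P₀) (m' : Move F Q P₀) (e : P ≃* Q) : Δ :=
  (L _ m'.σ)⁻¹ * lam p F L (m.iso.symm.trans (e.trans m'.iso)) * L _ m.σ

/-- A fully normalized centric subgroup meeting `T` in a non-centric subgroup, at depth `n`. -/
structure BadAt (F : FusionSystem S) (E : FusionSystem T) (n : ℕ) (P₀ : Subgroup Ω) : Prop where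
  fn : F.IsFullyNormalized P₀
  centric : F.IsCentric P₀
  bad : ¬ E.IsCentric (P₀ ⊓ T)
  depth : Nat.card S - Nat.card P₀ = n

namespace BadAt

variable [Finite S] [Fact p.Prime] {n : ℕ} {L : ∀ P : Subgroup Ω, (P →* Ω) → Δ} {P₀ : Subgroup Ω}

theorem ne_top (B : BadAt F E n P₀) (D : Data p F E χ) : P₀ ≠ S := by
  rintro rfl
  haveI : Finite T := H85.finite_of_le D.sc.1
  exact B.bad (by rw [inf_eq_right.2 D.sc.1]; exact H85.centric_top E)

theorem depth_big (B : BadAt F E n P₀) {P R : Subgroup Ω} (hP : F.IsConj P P₀)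
    (hR : R ≤ S) (hlt : P < R) : Nat.card S - Nat.card R < n := by
  have h1 := H89.card_lt_of_lt hR hlt
  have h2 : Nat.card R ≤ Nat.card S := Subgroup.card_le_of_le hR
  have h3 := H85.isConj_card hP
  have h4 := B.depth
  omega

theorem inn_le (B : BadAt F E n P₀) (D : Data p F E χ) :
    Cfsg.Inn P₀ ≤ (pCore p (F.autGroup P₀)).map (F.autGroup P₀).subtype := by
  refine Cfsg.Agent.S5251.le_core_map (H85.inn_le_autGroup F B.fn.1)
    ((H85.autInducedBy_isPGroup D.hS P₀).to_le (H85.inn_le_autInducedBy B.fn.1)) ?_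
  rintro a _ _ ⟨x, rfl⟩
  refine ⟨a x, MulEquiv.ext fun y => ?_⟩
  show a x * y * (a x)⁻¹ = a (x * a⁻¹ y * x⁻¹)
  rw [map_mul, map_mul, map_inv, MulAut.apply_inv_self]

theorem core_le (B : BadAt F E n P₀) (D : Data p F E χ) :
    (pCore p (F.autGroup P₀)).map (F.autGroup P₀).subtype ≤ autInducedBy S P₀ := by
  haveI : Finite (F.autGroup P₀) := H85.finite_autGroup F B.fn.1
  rintro _ ⟨a, ha, rfl⟩
  exact H88.le_autInducedBy_of_normal_pGroup D.hS D.sat B.fn (pCore p (F.autGroup P₀))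
    (H1.isPGroup_pCore p _) ha

theorem le_coreNorm (B : BadAt F E n P₀) (D : Data p F E χ) : P₀ ≤ coreNorm p F P₀ := fun x hx =>
  ⟨⟨x, H85.le_normalizerIn B.fn.1 hx⟩, B.inn_le D ⟨⟨x, hx⟩, MulEquiv.ext fun y => rfl⟩, rfl⟩

theorem lt_coreNorm (B : BadAt F E n P₀) (D : Data p F E χ) : P₀ < coreNorm p F P₀ := by
  refine lt_of_le_of_ne (B.le_coreNorm D) fun heq => ?_
  refine (Cfsg.Agent.S5251.main p D.hS F D.sat E D.hE P₀ B.centric B.bad).2
    ⟨B.fn.1, le_antisymm (fun a ha => ?_) (B.inn_le D)⟩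
  obtain ⟨g, hg, hga⟩ := H85.mem_autInducedBy.1 (B.core_le D ha)
  have hgN : g ∈ normalizerIn S P₀ := ⟨hg, H85.mem_normalizer_of_induced hga⟩
  have hconj : H85.conjAut S P₀ ⟨g, hgN⟩ = a := MulEquiv.ext fun x => Subtype.ext (hga x).symm
  have hgP : g ∈ P₀ := heq.ge ⟨⟨g, hgN⟩, Subgroup.mem_comap.2 (by
    rw [hconj]
    exact ha), rfl⟩
  exact ⟨⟨g, hgP⟩, by rw [← hconj]; exact MulEquiv.ext fun y => rfl⟩

/-- Every automorphism of `P₀` extends to an automorphism of `coreNorm`. -/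
theorem exists_ext (B : BadAt F E n P₀) (D : Data p F E χ) {a : MulAut P₀}
    (ha : a ∈ F.autGroup P₀) : ∃ ψ ∈ F.Hom (coreNorm p F P₀),
      (∀ (x : P₀) (hx : (x : Ω) ∈ coreNorm p F P₀), ψ ⟨x, hx⟩ = (a x : Ω)) ∧
        ∀ y, ψ y ∈ coreNorm p F P₀ := by
  haveI : Finite P₀ := H85.finite_of_le B.fn.1
  have haF : H85.IsFIso F a := (H85.mem_autGroup B.fn.1).1 ha
  obtain ⟨ψ, hψ, hext⟩ :=
    H85.receptive_extend (H85.receptive_of_fullyNormalized D.hS D.sat B.fn) haF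
  have hmem : ∀ g (hg : g ∈ coreNorm p F P₀),
      a * H85.conjAut S P₀ ⟨g, coreNorm_le F P₀ hg⟩ * a⁻¹ ∈
        (pCore p (F.autGroup P₀)).map (F.autGroup P₀).subtype := by
    rintro g ⟨⟨g, hgN⟩, ⟨k, hk, hkg⟩, rfl⟩
    haveI : (pCore p (F.autGroup P₀)).Normal := H1.pCore_normal' p _
    exact ⟨⟨a, ha⟩ * k * ⟨a, ha⟩⁻¹, Subgroup.Normal.conj_mem inferInstance k hk ⟨a, ha⟩,
      congrArg (fun b => a * b * a⁻¹) hkg⟩
  have hXg : coreNorm p F P₀ ≤ extender S P₀ (P₀.subtype.comp a.toMonoidHom) := by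
    intro g hg
    obtain ⟨h, hh, hha⟩ := H85.mem_autInducedBy.1 (B.core_le D (hmem g hg))
    refine H85.mem_extender.2 ⟨(coreNorm_le F P₀ hg).1, (coreNorm_le F P₀ hg).2, h, hh,
      fun x hx => ?_⟩
    have h2 := hha (a x)
    rw [MulAut.mul_apply, MulAut.mul_apply, MulAut.inv_apply_self] at h2
    exact (congrArg (fun z : P₀ => ((a z : P₀) : Ω)) (Subtype.ext rfl)).trans h2
  refine ⟨_, H85.restrict hψ hXg, fun x hx => hext x x.2 _, fun g => ?_⟩
  have hPX : P₀ ≤ extender S P₀ (P₀.subtype.comp a.toMonoidHom) :=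
    (B.le_coreNorm D).trans hXg
  have hN : ψ (Subgroup.inclusion hXg g) ∈ normalizerIn S P₀ :=
    ⟨H85.map_mem hψ _, H85.extend_maps_normalizer (e := a) hPX (fun x => hext x x.2 _)
      (coreNorm_le F P₀ g.2).2⟩
  refine ⟨⟨_, hN⟩, Subgroup.mem_comap.2 ?_, rfl⟩
  have he : H85.conjAut S P₀ ⟨_, hN⟩ =
      a * H85.conjAut S P₀ ⟨g, coreNorm_le F P₀ g.2⟩ * a⁻¹ := by
    refine MulEquiv.ext fun y => Subtype.ext ?_
    have h1 := H85.extend_conj (e := a) hPX (fun x => hext x x.2 _)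
      (g := Subgroup.inclusion hXg g) (x := a⁻¹ y)
      (H85.conj_mem_of_mem_normalizer (coreNorm_le F P₀ g.2).2 (a⁻¹ y).2)
    rw [MulAut.apply_inv_self] at h1
    exact h1.symm
  rw [he]
  exact hmem g g.2

theorem lam_eq_core (B : BadAt F E n P₀) (D : Data p F E χ) (A : LAx F E χ n L) {a : MulAut P₀}
    {ψ : coreNorm p F P₀ →* Ω} (hψ : ψ ∈ F.Hom (coreNorm p F P₀))
    (he : ∀ (x : P₀) (hx : (x : Ω) ∈ coreNorm p F P₀), ψ ⟨x, hx⟩ = (a x : Ω)) :
    lam p F L a = L _ ψ := by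
  have h : ∃ ψ ∈ F.Hom (coreNorm p F P₀),
      ∀ (x : P₀) (hx : (x : Ω) ∈ coreNorm p F P₀), ψ ⟨x, hx⟩ = (a x : Ω) := ⟨ψ, hψ, he⟩
  rw [lam, dif_pos h]
  obtain ⟨h1, h2⟩ := h.choose_spec
  exact A.agree D (B.le_coreNorm D) B.centric hψ h1
    (B.depth_big (H85.isConj_refl F B.fn.1) ((coreNorm_le F P₀).trans (H85.normalizerIn_le P₀))
      (B.lt_coreNorm D))
    fun x hx => (he ⟨x, hx⟩ x.2).trans (h2 ⟨x, hx⟩ x.2).symm

/-- The level of an automorphism is the level of any of its proper extensions. -/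
theorem lam_eq (B : BadAt F E n P₀) (D : Data p F E χ) (A : LAx F E χ n L) {a : MulAut P₀}
    {R : Subgroup Ω} (hPR : P₀ < R) (hRN : R ≤ normalizerIn S P₀) {f : R →* Ω}
    (hf : f ∈ F.Hom R) (he : ∀ (x : P₀) (hx : (x : Ω) ∈ R), f ⟨x, hx⟩ = (a x : Ω)) :
    lam p F L a = L R f := by
  have haF : H85.IsFIso F a := H85.of_extend hf hPR.le fun x => he x (hPR.le x.2)
  obtain ⟨ψc, hψc, hec, -⟩ := B.exists_ext D ((H85.mem_autGroup B.fn.1).2 haF)
  rw [B.lam_eq_core D A hψc hec]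
  -- both are restrictions of a map on the join
  obtain ⟨ψ, hψ, hext⟩ :=
    H85.receptive_extend (H85.receptive_of_fullyNormalized D.hS D.sat B.fn) haF
  have hR : R ≤ extender S P₀ (P₀.subtype.comp a.toMonoidHom) := by
    intro g hg
    refine H85.mem_extender.2 ⟨(hRN hg).1, (hRN hg).2, f ⟨g, hg⟩, H85.map_mem hf _, fun x hx => ?_⟩
    show ((a ⟨g * x * g⁻¹, hx⟩ : P₀) : Ω) = f ⟨g, hg⟩ * (a x : Ω) * (f ⟨g, hg⟩)⁻¹
    rw [← he ⟨g * x * g⁻¹, hx⟩ (hPR.le hx), ← he x (hPR.le x.2), ← map_inv, ← map_mul, ← map_mul]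
    rfl
  have hC : coreNorm p F P₀ ≤ extender S P₀ (P₀.subtype.comp a.toMonoidHom) := by
    intro g hg
    have hgN := coreNorm_le F P₀ hg
    refine H85.mem_extender.2 ⟨hgN.1, hgN.2, ψc ⟨g, hg⟩, H85.map_mem hψc _, fun x hx => ?_⟩
    show ((a ⟨g * x * g⁻¹, hx⟩ : P₀) : Ω) = ψc ⟨g, hg⟩ * (a x : Ω) * (ψc ⟨g, hg⟩)⁻¹
    rw [← hec ⟨g * x * g⁻¹, hx⟩ (B.le_coreNorm D hx), ← hec x (B.le_coreNorm D x.2), ← map_inv,
      ← map_mul, ← map_mul]
    rfl
  have hXS : extender S P₀ (P₀.subtype.comp a.toMonoidHom) ≤ S := H85.extender_le _ _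
  have hnR := B.depth_big (H85.isConj_refl F B.fn.1) (hR.trans hXS) hPR
  have hnC := B.depth_big (H85.isConj_refl F B.fn.1) (hC.trans hXS) (B.lt_coreNorm D)
  have h1 : L R (ψ.comp (Subgroup.inclusion hR)) = L R f :=
    A.agree D hPR.le B.centric hf (H85.restrict hψ hR) hnR
      fun x hx => (he ⟨x, hx⟩ x.2).trans (hext x hx (hR x.2)).symm
  have h2 : L _ (ψ.comp (Subgroup.inclusion hC)) = L _ ψc :=
    A.agree D (B.le_coreNorm D) B.centric hψc (H85.restrict hψ hC) hnC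
      fun x hx => (hec ⟨x, hx⟩ x.2).trans (hext x hx (hC x.2)).symm
  rw [← h1, ← h2, A.res R _ hR ψ hψ (H85.centric_mono B.centric hPR.le (hR.trans hXS)) hnR,
    A.res _ _ hC ψ hψ (H85.centric_mono B.centric (B.le_coreNorm D) (hC.trans hXS)) hnC]

theorem lam_mul (B : BadAt F E n P₀) (D : Data p F E χ) (A : LAx F E χ n L) {a b : MulAut P₀}
    (ha : a ∈ F.autGroup P₀) (hb : b ∈ F.autGroup P₀) :
    lam p F L (b * a) = lam p F L b * lam p F L a := by
  obtain ⟨f, hf, hfe, hfm⟩ := B.exists_ext D ha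
  obtain ⟨g, hg, hge, -⟩ := B.exists_ext D hb
  have hCS : coreNorm p F P₀ ≤ S := (coreNorm_le F P₀).trans (H85.normalizerIn_le P₀)
  have h1 := F.comp_mem hf hg hfm
  rw [B.lam_eq_core D A hf hfe, B.lam_eq_core D A hg hge, B.lam_eq_core D A h1 fun x hx => by
    show g ⟨f ⟨x, hx⟩, _⟩ = ((b (a x) : P₀) : Ω)
    rw [← hge (a x) (B.le_coreNorm D (a x).2)]
    exact congrArg g (Subtype.ext (hfe x hx))]
  exact A.comp' hf hg (H85.centric_mono B.centric (B.le_coreNorm D) hCS)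
    (B.depth_big (H85.isConj_refl F B.fn.1) hCS (B.lt_coreNorm D)) hfm fun x => rfl

theorem exists_move (B : BadAt F E n P₀) (D : Data p F E χ) {P : Subgroup Ω}
    (h : F.IsConj P P₀) : Nonempty (Move F P P₀) := by
  obtain ⟨σ, hσ, hcod, himg⟩ := H85.exists_map_to_fullyNormalized D.hS D.sat B.fn h
  exact ⟨⟨σ, hσ, H85.le_normalizerIn (H85.isConj_le h).1, himg, hcod⟩⟩

theorem move_lt (B : BadAt F E n P₀) (D : Data p F E χ) {P : Subgroup Ω} (h : F.IsConj P P₀) :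
    P < normalizerIn S P := by
  refine H89.lt_normalizerIn D.hS (H85.isConj_le h).1 ?_
  rintro rfl
  exact B.ne_top D (H85.conj_top h)

theorem move_isFIso {P : Subgroup Ω} (m : Move F P P₀) : H85.IsFIso F m.iso :=
  H85.hom_congr (H85.restrict m.hσ m.le) fun x => rfl

theorem moveVal_comp (B : BadAt F E n P₀) (D : Data p F E χ) (A : LAx F E χ n L)
    {P Q R : Subgroup Ω} (m : Move F P P₀) (m' : Move F Q P₀) (m'' : Move F R P₀) {e : P ≃* Q}
    {e' : Q ≃* R} (he : H85.IsFIso F e) (he' : H85.IsFIso F e') :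
    moveVal p L m m'' (e.trans e') = moveVal p L m' m'' e' * moveVal p L m m' e := by
  set a := m.iso.symm.trans (e.trans m'.iso)
  set b := m'.iso.symm.trans (e'.trans m''.iso)
  have hab : m.iso.symm.trans ((e.trans e').trans m''.iso) = b * a :=
    MulEquiv.ext fun x => by simp [a, b, MulAut.mul_apply]
  have ha : a ∈ F.autGroup P₀ := (H85.mem_autGroup B.fn.1).2
    ((move_isFIso m).symm.trans (he.trans (move_isFIso m')))
  have hb : b ∈ F.autGroup P₀ := (H85.mem_autGroup B.fn.1).2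
    ((move_isFIso m').symm.trans (he'.trans (move_isFIso m'')))
  show _ * lam p F L _ * _ = (_ * lam p F L b * _) * (_ * lam p F L a * _)
  rw [hab, B.lam_mul D A ha hb]
  group

theorem img_inter {P R : Subgroup Ω} (m : Move F P P₀) (hPR : P < R) (hR : R ≤ normalizerIn S P) :
    P₀ < (m.σ.comp (Subgroup.inclusion hR)).range := by
  have hi := F.injective_of_mem m.hσ
  refine lt_of_le_of_ne ?_ ?_
  · intro y hy
    obtain ⟨x, hx, rfl⟩ := H85.mem_img.1 (m.img.ge hy)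
    exact ⟨⟨(x : Ω), hPR.le hx⟩, rfl⟩
  · intro heq
    obtain ⟨x, hxR, hxP⟩ := SetLike.exists_of_lt hPR
    have : m.σ ⟨x, hR hxR⟩ ∈ P₀ := heq.ge ⟨⟨x, hxR⟩, rfl⟩
    obtain ⟨y, hy, hyx⟩ := H85.mem_img.1 (m.img.ge this)
    have h1 := hi hyx
    exact hxP (by rw [h1] at hy; exact hy)

/-- A map on a larger subgroup has the level predicted by the moves. -/
theorem moveVal_res (B : BadAt F E n P₀) (D : Data p F E χ) (A : LAx F E χ n L)
    {P Q : Subgroup Ω} (m : Move F P P₀) (m' : Move F Q P₀) {e : P ≃* Q}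
    {W : Subgroup Ω} (hPW : P < W) {ψ : W →* Ω} (hψ : ψ ∈ F.Hom W)
    (he : ∀ x : P, ψ (Subgroup.inclusion hPW.le x) = (e x : Ω)) :
    moveVal p L m m' e = L W ψ := by
  have hP : F.IsConj P P₀ := (move_isFIso m).isConj
  have hPc : F.IsCentric P := H85.centric_of_isConj B.centric (H85.isConj_symm hP)
  have hWS := H85.source_le hψ
  set R := W ⊓ normalizerIn S P with hRdef
  have hPR : P < R := by
    refine lt_of_le_of_ne (le_inf hPW.le m.le) fun heq => ?_
    haveI : Finite W := H85.finite_of_le hWS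
    obtain ⟨g, hg, hgP⟩ := H88.exists_mem_normalizerIn_not_mem (D.hS.to_le hWS) hPW
    exact hgP (heq.ge ⟨hg.1, hWS hg.1, hg.2⟩)
  have hRN : R ≤ normalizerIn S P := inf_le_right
  have hRS : R ≤ S := hRN.trans (H85.normalizerIn_le P)
  have hRc := H85.centric_mono hPc hPR.le hRS
  have hnR := B.depth_big hP hRS hPR
  haveI : Finite Q := H85.finite_of_le (H85.source_le (move_isFIso m'))
  set ψR := ψ.comp (Subgroup.inclusion (inf_le_left : R ≤ W)) with hψR
  have hψRm : ψR ∈ F.Hom R := H85.restrict hψ inf_le_left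
  have hψN : ∀ x : R, ψR x ∈ normalizerIn S Q := fun x =>
    ⟨H85.map_mem hψRm x, H85.extend_maps_normalizer (e := e) hPR.le (fun y => he y) (hRN x.2).2⟩
  have hg := F.comp_mem hψRm m'.hσ hψN
  set σR := m.σ.comp (Subgroup.inclusion hRN) with hσR
  have hσRm : σR ∈ F.Hom R := H85.restrict m.hσ hRN
  obtain ⟨h, hh, hhx⟩ := F.inv_mem hσRm
  have hhR : ∀ y, h y ∈ R := by
    rintro ⟨_, x, rfl⟩
    rw [hhx]
    exact x.2
  have hf := F.comp_mem hh hg hhR
  have hrN : σR.range ≤ normalizerIn S P₀ := by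
    rintro _ ⟨x, rfl⟩
    exact m.cod _
  have hσle : P₀ ≤ σR.range := (img_inter m hPR hRN).le
  have hlam := B.lam_eq D A (a := m.iso.symm.trans (e.trans m'.iso)) (img_inter m hPR hRN) hrN hf
    (fun x hx => by
      obtain ⟨y, rfl⟩ := m.iso.surjective x
      rw [MulEquiv.trans_apply, MulEquiv.trans_apply, MulEquiv.symm_apply_apply]
      refine Eq.trans ?_ (Move.iso_apply m' _).symm
      refine congrArg m'.σ (Subtype.ext ?_)
      refine Eq.trans (congrArg ψ (Subtype.ext ?_)) (he y)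
      exact hhx ⟨(y : Ω), hPR.le y.2⟩)
  have h2 : L R ((m'.σ).comp (ψR.codRestrict _ hψN)) =
      L σR.range ((m'.σ.comp (ψR.codRestrict _ hψN)).comp (h.codRestrict R hhR)) * L R σR :=
    A.comp R σR _ _ hσRm hf hRc hnR fun x =>
      congrArg (m'.σ.comp (ψR.codRestrict _ hψN)) (Subtype.ext (hhx x).symm)
  have h3 : L R ((m'.σ).comp (ψR.codRestrict _ hψN)) = L _ m'.σ * L W ψ := by
    rw [A.comp' (φ := ψR) hψRm m'.hσ hRc hnR hψN fun x => rfl,
      A.res R W inf_le_left ψ hψ hRc hnR]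
  have h4 : L R σR = L _ m.σ := A.res R _ hRN _ m.hσ hRc hnR
  rw [moveVal, hlam, mul_assoc, ← h4, ← h2, h3, inv_mul_cancel_left]

theorem moveVal_one (B : BadAt F E n P₀) (D : Data p F E χ) (A : LAx F E χ n L)
    {P : Subgroup Ω} (m m' : Move F P P₀) : moveVal p L m m' (MulEquiv.refl P) = 1 := by
  have hP : F.IsConj P P₀ := (move_isFIso m).isConj
  have hlt := B.move_lt D hP
  have hNS : normalizerIn S P ≤ S := H85.normalizerIn_le P
  rw [B.moveVal_res D A m m' hlt (H85.id_mem F hNS) fun x => rfl]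
  exact A.id_one D (H85.centric_mono (H85.centric_of_isConj B.centric (H85.isConj_symm hP))
    hlt.le hNS) (B.depth_big hP hNS hlt)

/-- The value does not depend on the chosen moves. -/
theorem moveVal_indep (B : BadAt F E n P₀) (D : Data p F E χ) (A : LAx F E χ n L)
    {P Q : Subgroup Ω} (m m₁ : Move F P P₀) (m' m₁' : Move F Q P₀) {e : P ≃* Q}
    (he : H85.IsFIso F e) : moveVal p L m m' e = moveVal p L m₁ m₁' e := by
  have h1 := B.moveVal_comp D A m m₁ m' (H85.IsFIso.refl F he.left_le) he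
  have h2 := B.moveVal_comp D A m₁ m₁' m' he (H85.IsFIso.refl F he.right_le)
  rw [B.moveVal_one D A m m₁, mul_one, show (MulEquiv.refl P).trans e = e from rfl] at h1
  rw [B.moveVal_one D A m₁' m', one_mul, show e.trans (MulEquiv.refl Q) = e from rfl] at h2
  rw [h1, h2]

end BadAt

/-! ### The level function -/

open Classical in
/-- A chosen fully normalized member of a class of subgroups. -/
noncomputable def repOf (F : FusionSystem S) (s : Set (Subgroup Ω)) : Subgroup Ω :=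
  if h : ∃ Q ∈ s, F.IsFullyNormalized Q then h.choose else ⊥

theorem repOf_spec [Finite S] (F : FusionSystem S) {P : Subgroup Ω} (hP : P ≤ S) :
    F.IsConj P (repOf F {Q | F.IsConj P Q}) ∧
      F.IsFullyNormalized (repOf F {Q | F.IsConj P Q}) := by
  have h : ∃ Q ∈ {Q | F.IsConj P Q}, F.IsFullyNormalized Q := H85.exists_fullyNormalized F hP
  rw [repOf, dif_pos h]
  exact h.choose_spec

theorem repOf_conj {P Q : Subgroup Ω} (h : F.IsConj P Q) :
    repOf F {R | F.IsConj P R} = repOf F {R | F.IsConj Q R} :=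
  congrArg (repOf F) (Set.ext fun _ =>
    ⟨fun hR => H85.isConj_trans (H85.isConj_symm h) hR, fun hR => H85.isConj_trans h hR⟩)

/-- The value at the new depth. -/
def IsVal (p : ℕ) (E : FusionSystem T) (χ : F.autGroup T →* Δ)
    (L : ∀ P : Subgroup Ω, (P →* Ω) → Δ) (P : Subgroup Ω) (φ : P →* Ω) (d : Δ) : Prop :=
  (E.IsCentric (P ⊓ T) ∧ GV E χ P φ d) ∨
    (¬ E.IsCentric (P ⊓ T) ∧ ∃ (e : P ≃* φ.range) (m : Move F P (repOf F {R | F.IsConj P R}))
      (m' : Move F φ.range (repOf F {R | F.IsConj P R})),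
        (∀ x, (e x : Ω) = φ x) ∧ d = moveVal p L m m' e)

open Classical in
/-- The extension of a level function by one step. -/
noncomputable def nextLevel (p : ℕ) (E : FusionSystem T) (χ : F.autGroup T →* Δ)
    (n : ℕ) (L : ∀ P : Subgroup Ω, (P →* Ω) → Δ) (P : Subgroup Ω) (φ : P →* Ω) : Δ :=
  if Nat.card S - Nat.card P < n then L P φ
  else if h : ∃ d, IsVal p E χ L P φ d then h.choose else 1

section Step

variable [Finite S] [Fact p.Prime] {n : ℕ} {L : ∀ P : Subgroup Ω, (P →* Ω) → Δ}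

theorem badAt (D : Data p F E χ) {P : Subgroup Ω} (hc : F.IsCentric P)
    (hd : Nat.card S - Nat.card P = n) (hb : ¬ E.IsCentric (P ⊓ T)) :
    BadAt F E n (repOf F {R | F.IsConj P R}) := by
  obtain ⟨hconj, hfn⟩ := repOf_spec F hc.1
  refine ⟨hfn, H85.centric_of_isConj hc hconj, fun h => hb ?_, ?_⟩
  · obtain ⟨φ, hφ, hr⟩ := hconj
    rw [← hr] at h
    exact D.inf_centric_of_map hφ h
  · rw [← H85.isConj_card hconj]
    exact hd

theorem nextLevel_isVal (D : Data p F E χ) {P : Subgroup Ω}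
    {φ : P →* Ω} (hφ : φ ∈ F.Hom P) (hc : F.IsCentric P) (hd : Nat.card S - Nat.card P = n) :
    IsVal p E χ L P φ (nextLevel p E χ n L P φ) := by
  have h : ∃ d, IsVal p E χ L P φ d := by
    by_cases hg : E.IsCentric (P ⊓ T)
    · obtain ⟨d, hd⟩ := D.gv_exists hφ
      exact ⟨d, Or.inl ⟨hg, hd⟩⟩
    · have B := badAt D hc hd hg
      have hPR : F.IsConj P φ.range := ⟨φ, hφ, rfl⟩
      have h0 := (repOf_spec F hc.1).1
      obtain ⟨m⟩ := B.exists_move D h0
      obtain ⟨m'⟩ := B.exists_move D (H85.isConj_trans (H85.isConj_symm hPR) h0)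
      exact ⟨_, Or.inr ⟨hg, H85.isoOf φ hφ rfl, m, m', fun x => rfl, rfl⟩⟩
  rw [nextLevel, if_neg (by omega), dif_pos h]
  exact h.choose_spec

theorem nextLevel_good (D : Data p F E χ) {P : Subgroup Ω} {φ : P →* Ω} (hφ : φ ∈ F.Hom P)
    (hc : F.IsCentric P) (hd : Nat.card S - Nat.card P = n) (hg : E.IsCentric (P ⊓ T)) :
    GV E χ P φ (nextLevel p E χ n L P φ) :=
  ((nextLevel_isVal D hφ hc hd).resolve_right fun h => h.1 hg).2

theorem nextLevel_bad (D : Data p F E χ) (A : LAx F E χ n L) {P : Subgroup Ω}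
    {φ : P →* Ω} (hφ : φ ∈ F.Hom P) (hc : F.IsCentric P) (hd : Nat.card S - Nat.card P = n)
    (hb : ¬ E.IsCentric (P ⊓ T)) {Q : Subgroup Ω} {e : P ≃* Q} (he : ∀ x, (e x : Ω) = φ x)
    (m : Move F P (repOf F {R | F.IsConj P R})) (m' : Move F Q (repOf F {R | F.IsConj P R})) :
    nextLevel p E χ n L P φ = moveVal p L m m' e := by
  have hQ : Q = φ.range := by
    refine le_antisymm ?_ ?_
    · intro y hy
      refine ⟨e.symm ⟨y, hy⟩, ?_⟩
      rw [← he, MulEquiv.apply_symm_apply]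
    · rintro _ ⟨x, rfl⟩
      exact he x ▸ (e x).2
  subst hQ
  obtain ⟨-, e₁, m₁, m₁', he₁, hval⟩ :=
    (nextLevel_isVal (L := L) D hφ hc hd).resolve_left fun h => hb h.1
  have : e₁ = e := MulEquiv.ext fun x => Subtype.ext ((he₁ x).trans (he x).symm)
  subst this
  rw [hval]
  exact (badAt D hc hd hb).moveVal_indep D A m₁ m m₁' m' (H85.hom_congr hφ fun x => (he x).symm)

theorem nextLevel_lt {P : Subgroup Ω} {φ : P →* Ω} (h : Nat.card S - Nat.card P < n) :
    nextLevel p E χ n L P φ = L P φ := if_pos h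

theorem lAx_next (D : Data p F E χ) (A : LAx F E χ n L) :
    LAx F E χ (n + 1) (nextLevel p E χ n L) := by
  constructor
  · intro P Q h ψ hψ hc hn
    rcases Nat.lt_succ_iff_lt_or_eq.1 hn with hlt | heq
    · have hQ := H85.source_le hψ
      haveI : Finite Q := H85.finite_of_le hQ
      have h1 := Subgroup.card_le_of_le h
      rw [nextLevel_lt hlt, nextLevel_lt (by omega)]
      exact A.res P Q h ψ hψ hc hlt
    rcases eq_or_lt_of_le h with rfl | hlt'
    · congr 1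
    have hQ := H85.source_le hψ
    have hQn : Nat.card S - Nat.card Q < n := by
      have h1 := H89.card_lt_of_lt hQ hlt'
      have h2 : Nat.card Q ≤ Nat.card S := Subgroup.card_le_of_le hQ
      omega
    rw [nextLevel_lt (L := L) (φ := ψ) hQn]
    have hres := H85.restrict hψ h
    have hQc := H85.centric_mono hc h hQ
    by_cases hg : E.IsCentric (P ⊓ T)
    · refine D.gv_unique hres hg (nextLevel_good D hres hc heq hg) (Data.gv_res h ?_)
      exact A.good Q ψ hψ hQc hQn (H85.centric_mono hg (inf_le_inf_right T h) inf_le_right)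
    · have B := badAt D hc heq hg
      have h0 := (repOf_spec F hc.1).1
      obtain ⟨m⟩ := B.exists_move D h0
      obtain ⟨m'⟩ := B.exists_move D
        (H85.isConj_trans (H85.isConj_symm ⟨_, hres, rfl⟩) h0 :
          F.IsConj (ψ.comp (Subgroup.inclusion h)).range _)
      rw [nextLevel_bad D A hres hc heq hg (e := H85.isoOf _ hres rfl) (fun x => rfl) m m']
      exact B.moveVal_res D A m m' hlt' hψ fun x => rfl
  · intro P φ φ' ψ hφ hψ hc hn he
    have hcard : Nat.card P = Nat.card φ.range := H85.isConj_card (F := F) ⟨φ, hφ, rfl⟩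
    have hrc : F.IsCentric φ.range := H85.centric_of_isConj hc ⟨φ, hφ, rfl⟩
    have hφ' : φ' ∈ F.Hom P := H86.comp_mem' F hφ hψ (fun x => ⟨x, rfl⟩) he
    rcases Nat.lt_succ_iff_lt_or_eq.1 hn with hlt | heq
    · rw [nextLevel_lt hlt, nextLevel_lt hlt, nextLevel_lt (hcard ▸ hlt)]
      exact A.comp P φ φ' ψ hφ hψ hc hlt he
    have heq' : Nat.card S - Nat.card φ.range = n := hcard ▸ heq
    by_cases hg : E.IsCentric (P ⊓ T)
    · exact D.gv_unique hφ' hg (nextLevel_good D hφ' hc heq hg) (D.gv_comp hφ he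
        (nextLevel_good D hφ hc heq hg)
        (nextLevel_good D hψ hrc heq' (D.inf_centric_map hφ hg)))
    · have hb' : ¬ E.IsCentric (φ.range ⊓ T) := fun h => hg (D.inf_centric_of_map hφ h)
      have B := badAt D hc heq hg
      have h0 := (repOf_spec F hc.1).1
      have hPR : F.IsConj P φ.range := ⟨φ, hφ, rfl⟩
      have hPR' : F.IsConj P ψ.range := H85.isConj_trans hPR ⟨ψ, hψ, rfl⟩
      obtain ⟨m⟩ := B.exists_move D h0
      obtain ⟨m'⟩ := B.exists_move D (H85.isConj_trans (H85.isConj_symm hPR) h0)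
      obtain ⟨m''⟩ := B.exists_move D (H85.isConj_trans (H85.isConj_symm hPR') h0)
      have hrep := repOf_conj hPR
      let e := H85.isoOf φ hφ rfl
      let e' := H85.isoOf ψ hψ rfl
      have h2 : nextLevel p E χ n L φ.range ψ = moveVal p L m' m'' e' := by
        revert m' m''
        rw [hrep]
        intro m' m''
        exact nextLevel_bad D A hψ hrc heq' hb' (fun x => rfl) m' m''
      rw [nextLevel_bad D A hφ' hc heq hg (e := e.trans e') (fun x => (he x).symm) m m'',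
        nextLevel_bad D A hφ hc heq hg (e := e) (fun x => rfl) m m', h2]
      exact B.moveVal_comp D A m m' m'' (H85.isFIso_isoOf φ hφ rfl) (H85.isFIso_isoOf ψ hψ rfl)
  · intro P φ hφ hc hn hg
    rcases Nat.lt_succ_iff_lt_or_eq.1 hn with hlt | heq
    · rw [nextLevel_lt hlt]
      exact A.good P φ hφ hc hlt hg
    · exact nextLevel_good D hφ hc heq hg

/-- A level function on all centric subgroups. -/
theorem exists_level (D : Data p F E χ) :
    ∃ L, LAx F E χ (Nat.card S + 1) L := by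
  have key : ∀ n : ℕ, ∃ L, LAx F E χ n L := by
    intro n
    induction n with
    | zero =>
      exact ⟨fun _ _ => 1, ⟨fun _ _ _ _ _ _ h => absurd h (Nat.not_lt_zero _),
        fun _ _ _ _ _ _ _ h _ => absurd h (Nat.not_lt_zero _),
        fun _ _ _ _ h _ => absurd h (Nat.not_lt_zero _)⟩⟩
    | succ n ih =>
      obtain ⟨L, A⟩ := ih
      exact ⟨_, lAx_next D A⟩
  exact key _

end Step

end H5.SubLevel
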