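import Cfsg.Agent.H14.HallTransfer
import Cfsg.Agent.H2.FrobeniusBasic
import Cfsg.Agent.H1.CoprimeAction
import Cfsg.Agent.S4116
import Cfsg.Prelude.Def_OddOrderLocal

/-!
TI subgroups that are Hall in their normaliser: normal complements and Frobenius complements.
-/

set_option autoImplicit false

namespace H5

open Subgroup
open scoped Pointwise

universe u

variable {G : Type u} [Group G]

/-- A nontrivial TI subgroup: a conjugation fixing a nontrivial element lies in the normaliser. -/
theorem mem_normalizer_of_ti {H : Subgroup G} (hTI : Cfsg.IsTISubset (H : Set G)) {g x : G}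
    (hx : x ∈ H) (hx1 : x ≠ 1) (hgx : g * x * g⁻¹ ∈ H) : g ∈ normalizer (H : Set G) := by
  by_contra hg
  exact hx1 (hTI g hg x hx hgx)

/-- A TI subgroup that is a Hall subgroup of its normaliser is a Hall subgroup. -/
theorem coprime_index_of_ti [Finite G] {H : Subgroup G} (hTI : Cfsg.IsTISubset (H : Set G))
    (hH : (Nat.card H).Coprime (H.subgroupOf (normalizer (H : Set G))).index) :
    (Nat.card H).Coprime H.index := by
  by_contra hcon
  obtain ⟨p, hp, hpH, hpi⟩ := Nat.Prime.not_coprime_iff_dvd.mp hcon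
  haveI := Fact.mk hp
  obtain ⟨P⟩ : Nonempty (Sylow p H) := inferInstance
  set Q : Subgroup G := (P : Subgroup H).map H.subtype with hQdef
  have hQp : IsPGroup p Q := P.isPGroup'.map _
  obtain ⟨S, hS⟩ := hQp.exists_le_sylow
  have hQcard : Nat.card Q = p ^ (Nat.card H).factorization p := by
    rw [hQdef, card_map_of_injective H.subtype_injective, P.card_eq_multiplicity]
  have hQH : Q ≤ H := map_subtype_le _
  have hQlt : Q.subgroupOf (S : Subgroup G) < ⊤ := by
    rw [lt_top_iff_ne_top, Ne, subgroupOf_eq_top]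
    intro hle
    have h1 : Nat.card Q = Nat.card (S : Subgroup G) := by rw [le_antisymm hS hle]
    rw [hQcard, S.card_eq_multiplicity, ← H.card_mul_index,
      Nat.factorization_mul Nat.card_pos.ne' index_ne_zero_of_finite] at h1
    have h2 := Nat.pow_right_injective hp.two_le h1
    have h3 := hp.factorization_pos_of_dvd index_ne_zero_of_finite hpi
    simp only [Finsupp.coe_add, Pi.add_apply] at h2
    omega
  haveI : Group.IsNilpotent (S : Subgroup G) := S.isPGroup'.isNilpotent
  obtain ⟨⟨x, hxS⟩, hx, hxQ⟩ := SetLike.exists_of_lt (normalizerCondition_of_isNilpotent _ hQlt)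
  obtain ⟨q, hq, hq1⟩ := (bot_or_exists_ne_one Q).resolve_left fun h => by
    rw [h, card_bot] at hQcard
    have := hp.factorization_pos_of_dvd Nat.card_pos.ne' hpH
    exact (Nat.one_lt_pow this.ne' hp.one_lt).ne hQcard
  have hxN : x ∈ normalizer (H : Set G) := by
    refine mem_normalizer_of_ti hTI (hQH hq) hq1 (hQH ?_)
    have h1 := (mem_normalizer_iff.mp hx ⟨q, hS hq⟩).mp (mem_subgroupOf.mpr hq)
    exact mem_subgroupOf.mp h1
  have hxH : x ∉ H := by
    intro hxH
    -- `⟨Q, x⟩` would be a larger `p`-subgroup of `H`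
    set T : Subgroup G := (H ⊓ (S : Subgroup G)) with hT
    have hTp : IsPGroup p T := S.isPGroup'.to_le inf_le_right
    have hQT : Q ≤ T := le_inf hQH hS
    have h1 : Nat.card T ∣ Nat.card Q := by
      obtain ⟨j, hj⟩ := IsPGroup.iff_card.mp hTp
      rw [hQcard, hj]
      exact pow_dvd_pow p ((hp.pow_dvd_iff_le_factorization Nat.card_pos.ne').mp
        (hj ▸ card_dvd_of_le inf_le_left))
    have h2 : Q = T := eq_of_le_of_card_ge hQT (Nat.le_of_dvd Nat.card_pos h1)
    exact hxQ (mem_subgroupOf.mpr (by rw [h2]; exact ⟨hxH, hxS⟩))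
  -- the image of `x` in `N(H)/H` has `p`-power order, hence is trivial
  haveI : (H.subgroupOf (normalizer (H : Set G))).Normal := normal_in_normalizer
  obtain ⟨j, hj⟩ := (IsPGroup.iff_orderOf.mp S.isPGroup') ⟨x, hxS⟩
  have h1 := orderOf_map_dvd (QuotientGroup.mk' (H.subgroupOf (normalizer (H : Set G))))
    (⟨x, hxN⟩ : normalizer (H : Set G))
  rw [orderOf_mk] at hj h1
  rw [hj] at h1
  obtain ⟨i, -, hi⟩ := (Nat.dvd_prime_pow hp).mp h1
  rcases Nat.eq_zero_or_pos i with rfl | hipos
  · rw [pow_zero, orderOf_eq_one_iff] at hi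
    exact hxH (mem_subgroupOf.mp ((QuotientGroup.eq_one_iff _).mp hi))
  · have h2 : p ∣ (H.subgroupOf (normalizer (H : Set G))).index := by
      rw [index_eq_card]
      exact (dvd_pow_self p hipos.ne').trans (hi ▸ orderOf_dvd_natCard _)
    exact hp.not_dvd_one (hH ▸ Nat.dvd_gcd hpH h2)

/-- A TI Hall subgroup with a normal complement in its normaliser has one in the whole group. -/
theorem exists_complement_of_ti [Finite G] {H : Subgroup G} (hTI : Cfsg.IsTISubset (H : Set G))
    (hHall : (Nat.card H).Coprime H.index)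
    (hK : ∃ K : Subgroup (normalizer (H : Set G)), K.Normal ∧
      K.IsComplement' (H.subgroupOf (normalizer (H : Set G)))) :
    ∃ N : Subgroup G, N.Normal ∧ N.IsComplement' H := by
  obtain ⟨K, hKn, hKc⟩ := hK
  haveI : (H.subgroupOf (normalizer (H : Set G))).Normal := normal_in_normalizer
  cases nonempty_fintype G
  have hfus : ∀ x ∈ H, ∀ y ∈ H, IsConj x y → ∃ h ∈ H, h * x * h⁻¹ = y := by
    intro x hx y hy hxy
    obtain ⟨g, rfl⟩ := isConj_iff.mp hxy
    by_cases hx1 : x = 1
    · exact ⟨1, one_mem _, by simp [hx1]⟩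
    obtain ⟨k, hk, h, hh, he⟩ :=
      H2.complement_decomp hKc ⟨g, mem_normalizer_of_ti hTI hx hx1 hy⟩
    refine ⟨h, mem_subgroupOf.mp hh, ?_⟩
    have he' : g = (k : G) * (h : G) := congrArg Subtype.val he
    have hc : Commute k (h * ⟨x, le_normalizer hx⟩ * h⁻¹) :=
      commute_of_normal_of_disjoint _ _ hKn inferInstance hKc.disjoint k _ hk
        (mul_mem (mul_mem hh (mem_subgroupOf.mpr hx)) (inv_mem hh))
    have hc' : (k : G) * ((h : G) * x * (h : G)⁻¹) = ((h : G) * x * (h : G)⁻¹) * k :=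
      congrArg Subtype.val hc.eq
    calc (h : G) * x * (h : G)⁻¹ = ((h : G) * x * (h : G)⁻¹) * k * (k : G)⁻¹ := by group
      _ = (k : G) * ((h : G) * x * (h : G)⁻¹) * (k : G)⁻¹ := by rw [hc']
      _ = g * x * g⁻¹ := by rw [he']; group
  have helem : ∀ (E : Subgroup G) (p : ℕ), p.Prime → Cfsg.IsElementary p E →
      Nat.card E ∣ Nat.card H → ∃ g : G, E.map (MulAut.conj g).toMonoidHom ≤ H := by
    intro E p _ _ hE
    obtain ⟨g, hg⟩ := Cfsg.Agent.S4116.result H hHall hTI E fun q _ hq => hq.trans hE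
    refine ⟨g⁻¹, ?_⟩
    rintro _ ⟨e, he, rfl⟩
    obtain ⟨h, hh, rfl⟩ := hg he
    simpa [mul_assoc] using hh
  obtain ⟨N, hN, hsup, hinf⟩ := H14.hall_transfer H hHall hfus helem
  haveI := hN
  refine ⟨N, hN, Subgroup.isComplement'_of_disjoint_and_mul_eq_univ (disjoint_iff.mpr hinf) ?_⟩
  rw [← normal_mul, hsup, coe_top]

/-- A non-normal TI Hall subgroup with a normal complement is a Frobenius complement. -/
theorem exists_frobenius_of_ti [Finite G] {H N : Subgroup G} [hN : N.Normal]
    (hc : N.IsComplement' H) (hTI : Cfsg.IsTISubset (H : Set G))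
    (hHall : (Nat.card H).Coprime H.index) (hnn : ¬ H.Normal) :
    ∃ (F : Type u) (_ : Group F) (_ : Finite F) (C : Subgroup F),
      Cfsg.IsFrobeniusComplement C ∧ Nonempty (H ≃* C) := by
  classical
  set M := normalizer (H : Set G) with hM
  have hHbot : H ≠ ⊥ := fun h => hnn (h ▸ inferInstance)
  have hdis : ∀ {x : G}, x ∈ N → x ∈ H → x = 1 := fun h1 h2 =>
    H2.complement_inf hc h1 h2
  -- `N ⊓ M` centralises `H`
  have hcomm : ∀ g ∈ N, g ∈ M → ∀ x ∈ H, g * x = x * g := by
    intro g hg hgM x hx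
    have h1 : g * x * g⁻¹ * x⁻¹ ∈ H := mul_mem ((mem_normalizer_iff.mp hgM x).mp hx) (inv_mem hx)
    have h2 : g * x * g⁻¹ * x⁻¹ ∈ N := by
      have := mul_mem hg (hN.conj_mem _ (inv_mem hg) x)
      simpa [mul_assoc] using this
    have := hdis h2 h1
    rwa [mul_inv_eq_one, mul_inv_eq_iff_eq_mul] at this
  have hNM : ¬ N ≤ M := by
    intro hle
    apply hnn
    rw [← normalizer_eq_top_iff, eq_top_iff, ← hc.sup_eq_top]
    exact sup_le hle le_normalizer
  have hidx : H.index = Nat.card N := hc.index_eq_card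
  have hcopNH : (Nat.card H).Coprime (Nat.card N) := hidx ▸ hHall
  -- a prime dividing `[N : N ⊓ M]`
  obtain ⟨p, hp, hpd⟩ := Nat.exists_prime_and_dvd
    (show ((N ⊓ M).subgroupOf N).index ≠ 1 by
      rw [Ne, index_eq_one, subgroupOf_eq_top, le_inf_iff]
      exact fun h => hNM h.2)
  haveI := Fact.mk hp
  obtain ⟨P₀⟩ : Nonempty (Sylow p N) := inferInstance
  set P₁ : Subgroup G := (P₀ : Subgroup N).map N.subtype with hP₁
  -- `H` normalises a Sylow `p`-subgroup of `N`
  set L := normalizer (P₁ : Set G) with hL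
  have hLN : L ⊔ N = ⊤ := Sylow.normalizer_sup_eq_top P₀
  haveI : (N.subgroupOf L).Normal := hN.subgroupOf L
  have hLi : (N.subgroupOf L).index = Nat.card H := by
    change N.relIndex L = _
    rw [← hc.symm.index_eq_card, ← relIndex_top_right, ← hLN, relIndex_sup_right]
  have hcopL : (Nat.card (N.subgroupOf L)).Coprime (N.subgroupOf L).index := by
    rw [hLi]
    refine (hcopNH.symm).coprime_dvd_left ?_
    rw [← card_map_of_injective L.subtype_injective, subgroupOf_map_subtype]
    exact card_dvd_of_le inf_le_left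
  obtain ⟨C₀, hC₀⟩ := exists_right_complement'_of_coprime hcopL
  have hC₀card : Nat.card (C₀.map L.subtype) = Nat.card H := by
    rw [card_map_of_injective L.subtype_injective, ← hC₀.symm.index_eq_card, hLi]
  obtain ⟨g, hg⟩ := Cfsg.Agent.S4116.result H hHall hTI (C₀.map L.subtype)
    fun q _ hq => hC₀card ▸ hq
  have hgeq : C₀.map L.subtype = H.map (MulAut.conj g).toMonoidHom :=
    eq_of_le_of_card_ge hg (by
      rw [card_map_of_injective (MulAut.conj g).injective, hC₀card])
  set P : Subgroup G := P₁.map (MulAut.conj g⁻¹).toMonoidHom with hP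
  have hPN : P ≤ N := by
    rintro _ ⟨y, hy, rfl⟩
    exact hN.conj_mem y (map_subtype_le _ hy) _
  have hPp : IsPGroup p P := (P₀.isPGroup'.map _).map _
  have hPcard : Nat.card P = p ^ (Nat.card N).factorization p := by
    rw [hP, card_map_of_injective (MulAut.conj g⁻¹).injective, hP₁,
      card_map_of_injective N.subtype_injective, P₀.card_eq_multiplicity]
  have hPM : ¬ P ≤ M := by
    intro hle
    have h1 : Nat.card P ∣ Nat.card (N ⊓ M : Subgroup G) := card_dvd_of_le (le_inf hPN hle)
    have h2 := ((N ⊓ M).subgroupOf N).card_mul_index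
    rw [Nat.card_congr (subgroupOfEquivOfLe (inf_le_left : N ⊓ M ≤ N)).toEquiv] at h2
    have h3 : p * Nat.card P ∣ Nat.card N := h2 ▸ (mul_comm p _ ▸ Nat.mul_dvd_mul h1 hpd)
    rw [hPcard, ← pow_succ'] at h3
    have := (hp.pow_dvd_iff_le_factorization Nat.card_pos.ne').mp h3
    omega
  have hHP : H ≤ normalizer (P : Set G) := by
    intro h hh
    have h1 : g * h * g⁻¹ ∈ C₀.map L.subtype := hgeq ▸ ⟨h, hh, rfl⟩
    have h2 : g * h * g⁻¹ ∈ L := map_subtype_le _ h1
    rw [mem_normalizer_iff]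
    intro x
    rw [hP, mem_map_equiv, mem_map_equiv]
    have h3 := mem_normalizer_iff.mp h2 (g * x * g⁻¹)
    simpa [mul_assoc] using h3
  -- the section `R / D`
  set D := P ⊓ M with hD
  set R := P ⊓ normalizer (D : Set G) with hR
  have hDR : D ≤ R := le_inf inf_le_left le_normalizer
  have hRD : ¬ R ≤ D := by
    haveI : Group.IsNilpotent P := hPp.isNilpotent
    have hlt : D.subgroupOf P < ⊤ := by
      rw [lt_top_iff_ne_top, Ne, subgroupOf_eq_top]
      exact fun h => hPM (h.trans inf_le_right)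
    obtain ⟨x, hx, hxD⟩ := SetLike.exists_of_lt (normalizerCondition_of_isNilpotent _ hlt)
    refine fun hle => hxD (mem_subgroupOf.mpr (hle ⟨x.2, ?_⟩))
    exact mem_normalizer_iff.mpr fun y => ⟨fun hy => mem_subgroupOf.mp
        ((mem_normalizer_iff.mp hx ⟨y, hy.1⟩).mp (mem_subgroupOf.mpr hy)), fun hy => by
      have hy1 : y ∈ P := by
        have := mul_mem (mul_mem (inv_mem x.2) hy.1) x.2
        simpa [mul_assoc] using this
      exact mem_subgroupOf.mp ((mem_normalizer_iff.mp hx ⟨y, hy1⟩).mpr (mem_subgroupOf.mpr hy))⟩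
  have hHM : H ≤ normalizer (M : Set G) := le_normalizer.trans le_normalizer
  have hHD : H ≤ normalizer (D : Set G) := by
    intro h hh
    rw [mem_normalizer_iff]
    intro x
    exact and_congr (mem_normalizer_iff.mp (hHP hh) x) (mem_normalizer_iff.mp (hHM hh) x)
  have hHR : H ≤ normalizer (R : Set G) := by
    intro h hh
    rw [mem_normalizer_iff]
    intro x
    refine and_congr (mem_normalizer_iff.mp (hHP hh) x) ?_
    have hhD := hHD hh
    refine ⟨fun hx => Subgroup.mul_mem _ (Subgroup.mul_mem _ hhD hx) (Subgroup.inv_mem _ hhD),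
      fun hx => ?_⟩
    have := Subgroup.mul_mem _ (Subgroup.mul_mem _ (Subgroup.inv_mem _ hhD) hx) hhD
    simpa [mul_assoc] using this
  set T := R ⊔ H with hT
  have hTD : T ≤ normalizer (D : Set G) := sup_le inf_le_right hHD
  have hTR : T ≤ normalizer (R : Set G) := sup_le le_normalizer hHR
  haveI : (D.subgroupOf T).Normal := normal_subgroupOf_of_le_normalizer hTD
  haveI hRn : (R.subgroupOf T).Normal := normal_subgroupOf_of_le_normalizer hTR
  let π := QuotientGroup.mk' (D.subgroupOf T)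
  let KF := (R.subgroupOf T).map π
  haveI : KF.Normal := hRn.map π (QuotientGroup.mk'_surjective _)
  let f : H →* T ⧸ D.subgroupOf T := π.comp (inclusion (le_sup_right : H ≤ T))
  have hmemD : ∀ t : T, π t = 1 ↔ (t : G) ∈ D := fun t =>
    (QuotientGroup.eq_one_iff t).trans mem_subgroupOf
  have hfinj : Function.Injective f := by
    rw [injective_iff_map_eq_one]
    intro h hh
    have h1 : (h : G) ∈ D := (hmemD _).mp hh
    exact Subtype.ext (hdis (hPN h1.1) h.2)
  refine ⟨T ⧸ D.subgroupOf T, inferInstance, inferInstance, f.range, ?_,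
    ⟨MonoidHom.ofInjective hfinj⟩⟩
  have hcompl : KF.IsComplement' f.range := by
    refine Subgroup.isComplement'_of_disjoint_and_mul_eq_univ ?_ ?_
    · rw [disjoint_def]
      rintro _ ⟨r, hr, rfl⟩ ⟨h, hh⟩
      have h1 : π ((inclusion (le_sup_right : H ≤ T) h)⁻¹ * r) = 1 := by
        rw [map_mul, map_inv]
        exact inv_mul_eq_one.mpr hh
      have h2 : (h : G)⁻¹ * (r : G) ∈ D := (hmemD _).mp h1
      have h3 : (h : G) ∈ R := by
        have := mul_mem (mem_subgroupOf.mp hr) (inv_mem (hDR h2))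
        simpa [mul_assoc] using this
      have h4 : h = 1 := Subtype.ext (hdis (hPN h3.1) h.2)
      rw [← hh, h4, map_one]
    · rw [Set.eq_univ_iff_forall]
      intro a
      obtain ⟨t, rfl⟩ := QuotientGroup.mk'_surjective _ a
      have ht : (t : G) ∈ ((R : Set G) * (H : Set G)) := by
        rw [← coe_mul_of_right_le_normalizer_left R H hHR]
        exact t.2
      obtain ⟨r, hr, h, hh, hrh⟩ := ht
      refine ⟨π ⟨r, mem_sup_left hr⟩, ⟨_, mem_subgroupOf.mpr hr, rfl⟩, f ⟨h, hh⟩, ⟨_, rfl⟩, ?_⟩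
      simp only [f, MonoidHom.comp_apply, ← map_mul]
      exact congrArg π (Subtype.ext hrh)
  refine H2.frobenius_of_fpf hcompl ?_ ?_ ?_
  · intro h
    obtain ⟨r, hr, hrD⟩ := SetLike.not_le_iff_exists.mp hRD
    have h1 : π ⟨r, mem_sup_left hr⟩ ∈ KF := ⟨_, mem_subgroupOf.mpr hr, rfl⟩
    rw [h, mem_bot] at h1
    exact hrD ((hmemD _).mp h1)
  · intro h
    obtain ⟨x, hx, hx1⟩ := (bot_or_exists_ne_one H).resolve_left hHbot
    have h1 : f ⟨x, hx⟩ ∈ f.range := ⟨_, rfl⟩
    rw [h, mem_bot] at h1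
    exact hx1 (congrArg Subtype.val (hfinj (h1.trans (map_one f).symm)))
  · rintro _ ⟨h, rfl⟩ hne
    rw [eq_bot_iff]
    rintro _ ⟨⟨r, hr, rfl⟩, hrc⟩
    rw [mem_bot, hmemD]
    have hr' := mem_subgroupOf.mp hr
    have hh1 : (h : G) ≠ 1 := fun e => hne (by rw [show h = 1 from Subtype.ext e, map_one])
    have hfix : ∀ a ∈ zpowers (h : G), (r : G)⁻¹ * (a * r * a⁻¹) ∈ D := by
      rintro _ ⟨i, rfl⟩
      have h1 : π (r⁻¹ * ((inclusion (le_sup_right : H ≤ T) h) ^ i * r *
          ((inclusion (le_sup_right : H ≤ T) h) ^ i)⁻¹)) = 1 := by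
        simp only [map_mul, map_inv, map_zpow]
        have hcm : Commute (π r) (f h) := mem_centralizer_singleton_iff.mp hrc
        rw [show π (inclusion (le_sup_right : H ≤ T) h) = f h from rfl,
          ← (hcm.zpow_right i).eq, mul_inv_cancel_right, inv_mul_cancel]
      simpa using (hmemD _).mp h1
    have hcop : (Nat.card (zpowers (h : G))).Coprime (Nat.card R) :=
      (hcopNH.coprime_dvd_left (card_dvd_of_le (zpowers_le.mpr h.2))).coprime_dvd_right
        (card_dvd_of_le (inf_le_left.trans hPN))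
    obtain ⟨c, hc', hrcD⟩ := H1.exists_fixed_mem_coset_of_le hDR
      ((zpowers_le.mpr h.2).trans hHD) hcop (Or.inl inferInstance) hr' hfix
    have hcM : c ∈ M := by
      have h1 : c * (h : G) * c⁻¹ = (h : G) := by
        rw [← (mem_centralizer_iff.mp hc'.2) (h : G) (mem_zpowers _), mul_inv_cancel_right]
      exact mem_normalizer_of_ti hTI h.2 hh1 (h1.symm ▸ h.2)
    have hcD : c ∈ D := ⟨hc'.1.1, hcM⟩
    have := mul_mem hcD (inv_mem hrcD)
    simpa [mul_assoc] using this

end H5
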