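import Cfsg.Agent.H89.CentralEltTwo
import Cfsg.Agent.H87.QdLocal
import Cfsg.Agent.H85.GroupSystem

/-!
Glauberman's weak closure theorem for central elements of `N_G(J(S))`, from the fusion system.
-/

set_option autoImplicit false

open Cfsg Cfsg.FusionSystem

namespace H5

universe u

variable {G : Type u} [Group G] [Finite G] {p : ℕ} [Fact p.Prime]

theorem weaklyClosed_of_center_normalizerJA (S : Sylow p G) (x : G) (hxS : x ∈ (S : Subgroup G))
    (hxZ : ∀ g ∈ Subgroup.normalizer (thompsonSubgroupAOf (S : Subgroup G) : Set G), Commute g x)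
    (h : p ≠ 2 ∨ (∃ z ∈ (S : Subgroup G) ⊓ Subgroup.centralizer ((S : Subgroup G) : Set G), z ^ p = x) ∨
      ¬ Cfsg.Involves (Equiv.Perm (Fin 4)) G) :
    ∀ g : G, g * x * g⁻¹ ∈ (S : Subgroup G) → g * x * g⁻¹ = x := by
  set F := groupFusionSystem (S : Subgroup G) with hFdef
  have hF : F.IsSaturated p := H85.isSaturated_groupFusionSystem S
  set J := thompsonSubgroupAOf (S : Subgroup G) with hJdef
  have hJS : J ≤ (S : Subgroup G) := Subgroup.map_subtype_le _
  set N := H85.normalizerSystem F J hJS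
  have hN := H85.normalizerSystem_spec F J hJS
  have hTN : normalizerIn (S : Subgroup G) J = (S : Subgroup G) :=
    H89.normalizerIn_char fun e => H74.JA.map_thompsonSubgroupA e
  have hxC : ∀ s ∈ (S : Subgroup G), Commute s x := fun s hs => hxZ s (hTN.ge hs).2
  have hxZS : x ∈ (S : Subgroup G) ⊓ Subgroup.centralizer ((S : Subgroup G) : Set G) :=
    ⟨hxS, Subgroup.mem_centralizer_iff.2 fun s hs => (hxC s hs).eq⟩
  have hxJ : x ∈ J := H89.center_le_JA hxS fun t ht => (hxC t ht).eq
  have hJN := H89.isNormal_normalizerSystem hJS hN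
  have hxN : x ∈ N.center := by
    suffices hc : N.IsCentral (Subgroup.zpowers x) from
      le_sSup (α := Subgroup G) (s := {Q | N.IsCentral Q}) (a := Subgroup.zpowers x) hc
        (Subgroup.mem_zpowers x)
    refine ⟨Subgroup.zpowers_le.2 (hJN.1 hxJ), fun P φ hφ => ?_⟩
    obtain ⟨ψ, hψ, hext, hmap⟩ := hJN.2 P φ hφ
    have hle : P ⊔ Subgroup.zpowers x ≤ P ⊔ J :=
      sup_le_sup_left (Subgroup.zpowers_le.2 hxJ) _
    refine ⟨_, H85.restrict hψ hle, fun y => hext y, fun y => ?_⟩
    obtain ⟨-, -, g, hg⟩ := ((hN _).le hψ).1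
    have hgJ : g ∈ Subgroup.normalizer (J : Set G) := by
      refine H85.mem_normalizer_of_conj fun w hw => ?_
      have h1 := hg ⟨w, Subgroup.mem_sup_right hw⟩
      rw [← h1]
      exact hmap.le (Subgroup.mem_map_of_mem _ (Subgroup.mem_subgroupOf.2 hw))
    have hyx : Commute g (y : G) := by
      obtain ⟨n, hn⟩ := Subgroup.mem_zpowers_iff.1 y.2
      rw [← hn]
      exact (hxZ g hgJ).zpow_right n
    refine (hg _).trans ?_
    show g * (y : G) * g⁻¹ = (y : G)
    rw [hyx.eq, mul_inv_cancel_right]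
  have hxF : x ∈ F.center := by
    rcases h with h | ⟨z, hz, hzx⟩ | h
    · have he : p ∣ p.choose 2 * 1 := by
        rw [mul_one]
        exact (Fact.out : p.Prime).dvd_choose_self two_ne_zero
          (lt_of_le_of_ne (Fact.out : p.Prime).two_le (Ne.symm h))
      have := H89.mem_center_of_thompson S.2 hF he hN hxZS (by rwa [pow_one])
      rwa [pow_one] at this
    · subst hzx
      exact H89.mem_center_of_thompson S.2 hF (dvd_mul_left p _) hN hz hxN
    · by_cases hp : p = 2
      · subst hp
        exact H89.mem_center_of_thompson_two S.2 hF (H87.sectionFree_of_not_involves S h) hN hxZS hxN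
      · have he : p ∣ p.choose 2 * 1 := by
          rw [mul_one]
          exact (Fact.out : p.Prime).dvd_choose_self two_ne_zero
            (lt_of_le_of_ne (Fact.out : p.Prime).two_le (Ne.symm hp))
        have := H89.mem_center_of_thompson S.2 hF he hN hxZS (by rwa [pow_one])
        rwa [pow_one] at this
  intro g hg
  let φ : Subgroup.zpowers x →* G := (MulAut.conj g).toMonoidHom.comp (Subgroup.zpowers x).subtype
  have hφ : φ ∈ F.Hom (Subgroup.zpowers x) := by
    refine ⟨Subgroup.zpowers_le.2 hxS, fun y => ?_, g, fun y => rfl⟩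
    obtain ⟨n, hn⟩ := Subgroup.mem_zpowers_iff.1 y.2
    show g * (y : G) * g⁻¹ ∈ (S : Subgroup G)
    rw [← hn, ← conj_zpow]
    exact Subgroup.zpow_mem _ hg n
  exact H89.center_fix hφ (Subgroup.mem_zpowers x) hxF

end H5
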