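import Cfsg.Agent.H5.TateCor
import Cfsg.Agent.H31.InvariantMax
import Cfsg.Prelude.Def_Transfer
import Mathlib

/-!
The Wielandt–Yoshida theorem on control of transfer by a weakly closed normaliser.

The transfer of `φ : N →* A` is computed on an invariant finite set of cosets as a product of the
cocycle `coc N φ g q = φ ((g • q).out⁻¹ * g * q.out)`.
-/

set_option autoImplicit false
set_option linter.style.haveILetI false

namespace H5

open Subgroup

variable {G : Type*} [Group G] {A : Type*} [CommGroup A]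

/-- The cocycle of a homomorphism `φ : N →* A` on the cosets of `N`. -/
noncomputable def coc (N : Subgroup G) (φ : N →* A) (g : G) (q : G ⧸ N) : A :=
  φ ⟨(g • q).out⁻¹ * g * q.out, by
    have h : (QuotientGroup.mk (g • q).out : G ⧸ N) = QuotientGroup.mk (g * q.out) := by
      conv_lhs => rw [QuotientGroup.out_eq', ← QuotientGroup.out_eq' q]
      rfl
    simpa [mul_assoc] using QuotientGroup.eq.mp h⟩

theorem coc_mul {N : Subgroup G} (φ : N →* A) (g₁ g₂ : G) (q : G ⧸ N) :
    coc N φ (g₁ * g₂) q = coc N φ g₁ (g₂ • q) * coc N φ g₂ q := by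
  unfold coc
  rw [← map_mul]
  congr 1
  apply Subtype.ext
  simp only [Subgroup.coe_mul, mul_smul]
  group

theorem coc_one {N : Subgroup G} (φ : N →* A) (q : G ⧸ N) : coc N φ 1 q = 1 := by
  have h := coc_mul φ 1 1 q
  simpa using h

theorem coc_base {N : Subgroup G} (φ : N →* A) {g : G} (hg : g ∈ N) :
    coc N φ g (QuotientGroup.mk 1) = φ ⟨g, hg⟩ := by
  have hfix : g • (QuotientGroup.mk 1 : G ⧸ N) = QuotientGroup.mk 1 :=
    QuotientGroup.eq.mpr (by simpa using N.inv_mem hg)
  set o := (QuotientGroup.mk 1 : G ⧸ N).out with ho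
  have hoN : o ∈ N := by
    have h := QuotientGroup.eq.mp (QuotientGroup.out_eq' (QuotientGroup.mk 1 : G ⧸ N))
    simpa using N.inv_mem h
  have h1 : coc N φ g (QuotientGroup.mk 1) = φ ((⟨o, hoN⟩ : N)⁻¹ * ⟨g, hg⟩ * ⟨o, hoN⟩) := by
    unfold coc
    congr 1
    apply Subtype.ext
    simp [hfix, ← ho]
  rw [h1, map_mul, map_mul, map_inv, inv_mul_cancel_comm]

theorem prod_coc_mul {N : Subgroup G} (φ : N →* A) (O : Finset (G ⧸ N)) {g₁ g₂ : G}
    (h : ∀ q ∈ O, g₂ • q ∈ O) :
    ∏ q ∈ O, coc N φ (g₁ * g₂) q = (∏ q ∈ O, coc N φ g₁ q) * ∏ q ∈ O, coc N φ g₂ q := by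
  classical
  simp only [coc_mul]
  rw [Finset.prod_mul_distrib]
  congr 1
  have himg : O.image (g₂ • ·) = O := by
    refine Finset.eq_of_subset_of_card_le ?_ (le_of_eq ?_)
    · intro x hx
      obtain ⟨q, hq, rfl⟩ := Finset.mem_image.mp hx
      exact h q hq
    · exact (Finset.card_image_of_injective _ (MulAction.injective g₂)).symm
  conv_rhs => rw [← himg, Finset.prod_image fun a _ b _ => (MulAction.injective g₂ ·)]

/-- Going around a cycle: the product of the cocycle is the cocycle of the power. -/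
theorem prod_coc_range {N : Subgroup G} (φ : N →* A) (g : G) (q : G ⧸ N) (k : ℕ) :
    ∏ j ∈ Finset.range k, coc N φ g (g ^ j • q) = coc N φ (g ^ k) q := by
  induction k with
  | zero => simp [coc_one]
  | succ k ih => rw [Finset.prod_range_succ, ih, pow_succ', coc_mul, mul_comm]

/-- If the small powers are killed, an element without fixed points on an invariant set of
cosets has trivial transfer there. -/
theorem prod_coc_eq_one {N : Subgroup G} [Finite G] (φ : N →* A) {g : G}
    (hsmall : ∀ (t : G) (k : ℕ), 1 < k → k ∣ orderOf g → ∀ h : t⁻¹ * g ^ k * t ∈ N,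
      φ ⟨_, h⟩ = 1)
    (O : Finset (G ⧸ N)) (hinv : ∀ q ∈ O, g • q ∈ O) (hfix : ∀ q ∈ O, g • q ≠ q) :
    ∏ q ∈ O, coc N φ g q = 1 := by
  classical
  induction O using Finset.strongInduction with
  | H O ih =>
    rcases O.eq_empty_or_nonempty with rfl | ⟨q, hq⟩
    · simp
    set k := Function.minimalPeriod (g • ·) q with hk
    have hper : Function.IsPeriodicPt (g • ·) (orderOf g) q := by
      show (g • ·)^[orderOf g] q = q
      simp [smul_iterate, pow_orderOf_eq_one]
    have hkd : k ∣ orderOf g := hper.minimalPeriod_dvd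
    have hgk : g ^ k • q = q := by
      have h1 := Function.isPeriodicPt_minimalPeriod (g • ·) q
      rwa [Function.IsPeriodicPt, Function.IsFixedPt, smul_iterate, ← hk] at h1
    have hk1 : 1 < k := by
      by_contra hle
      push Not at hle
      rcases Nat.le_one_iff_eq_zero_or_eq_one.mp hle with h0 | h1
      · exact (orderOf_pos g).ne' (Nat.eq_zero_of_zero_dvd (h0 ▸ hkd))
      · rw [h1, pow_one] at hgk
        exact hfix q hq hgk
    set C := (Finset.range k).image fun j => g ^ j • q with hC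
    have hCO : C ⊆ O := by
      intro x hx
      obtain ⟨j, -, rfl⟩ := Finset.mem_image.mp hx
      clear hx
      induction j with
      | zero => simpa using hq
      | succ j ihj => rw [pow_succ', mul_smul]; exact hinv _ ihj
    have hinj : Set.InjOn (fun j => g ^ j • q) (Finset.range k : Set ℕ) := by
      intro a ha b hb hab
      simp only [Finset.coe_range, Set.mem_Iio] at ha hb
      refine (Function.iterate_eq_iterate_iff_of_lt_minimalPeriod (f := (g • ·)) (x := q)
        (hk ▸ ha) (hk ▸ hb)).mp ?_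
      rwa [smul_iterate, smul_iterate]
    have hCinv : ∀ x ∈ C, g • x ∈ C := by
      intro x hx
      obtain ⟨j, hj, rfl⟩ := Finset.mem_image.mp hx
      rw [Finset.mem_range] at hj
      rw [← mul_smul, ← pow_succ']
      rcases Nat.lt_or_ge (j + 1) k with h | h
      · exact Finset.mem_image.mpr ⟨_, Finset.mem_range.mpr h, rfl⟩
      · refine Finset.mem_image.mpr ⟨0, Finset.mem_range.mpr (by omega), ?_⟩
        rw [show j + 1 = k by omega, pow_zero, one_smul, hgk]
    have hCprod : ∏ x ∈ C, coc N φ g x = 1 := by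
      rw [hC, Finset.prod_image hinj, prod_coc_range]
      unfold coc
      refine Eq.trans (congrArg φ (Subtype.ext ?_)) (hsmall q.out k hk1 hkd ?_)
      · simp only [hgk]
      · have h := QuotientGroup.eq.mp (show (QuotientGroup.mk q.out : G ⧸ N) =
            QuotientGroup.mk (g ^ k * q.out) by
          conv_lhs => rw [QuotientGroup.out_eq', ← hgk, ← QuotientGroup.out_eq' q]
          rfl)
        simpa [mul_assoc] using h
    have hsd := ih (O \ C) (Finset.sdiff_ssubset hCO ⟨q, Finset.mem_image.mpr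
        ⟨0, Finset.mem_range.mpr (by omega), by simp⟩⟩) (fun x hx => ?_)
      (fun x hx => hfix x (Finset.mem_sdiff.mp hx).1)
    · rw [← Finset.prod_sdiff hCO, hsd, hCprod, one_mul]
    · obtain ⟨hxO, hxC⟩ := Finset.mem_sdiff.mp hx
      refine Finset.mem_sdiff.mpr ⟨hinv x hxO, fun hc => hxC ?_⟩
      -- `C` is closed under `g⁻¹`
      obtain ⟨j, hj, hje⟩ := Finset.mem_image.mp hc
      rw [Finset.mem_range] at hj
      cases j with
      | zero =>
        refine Finset.mem_image.mpr ⟨k - 1, Finset.mem_range.mpr (by omega), ?_⟩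
        apply MulAction.injective g
        show g • g ^ (k - 1) • q = g • x
        rw [← mul_smul, ← pow_succ', show k - 1 + 1 = k by omega, hgk, ← hje, pow_zero, one_smul]
      | succ j =>
        refine Finset.mem_image.mpr ⟨j, Finset.mem_range.mpr (by omega), ?_⟩
        apply MulAction.injective g
        show g • g ^ j • q = g • x
        rw [← hje, pow_succ', mul_smul]

variable [Finite G] {p : ℕ} [hp : Fact p.Prime]

/-- Tate's theorem with a Frattini hypothesis: if every homomorphism of `H ≥ P` to a group of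
order `p` kills `P ∩ G'`, then `P ∩ O^p(G) ≤ O^p(H)`. -/
theorem tate_of_characters (P : Sylow p G) {H : Subgroup G} (hPH : (P : Subgroup G) ≤ H)
    (h : ∀ (f : H →* Multiplicative (ZMod p)) (x : G) (hx : x ∈ (P : Subgroup G)),
      x ∈ commutator G → f ⟨x, hPH hx⟩ = 1) :
    (P : Subgroup G) ⊓ Cfsg.pResidual p G ≤ (Cfsg.pResidual p H).map H.subtype := by
  set L := (Cfsg.pResidual p H).map H.subtype with hL
  set P0 := (Cfsg.pResidual p G).subgroupOf (P : Subgroup G) with hP0
  set P1 := L.subgroupOf (P : Subgroup G) with hP1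
  haveI hP1n : P1.Normal := by
    refine ⟨fun a ha x => ?_⟩
    obtain ⟨b, hb, hba⟩ := ha
    refine ⟨⟨x, hPH x.2⟩ * b * ⟨x, hPH x.2⟩⁻¹,
      (inferInstance : (Cfsg.pResidual p H).Normal).conj_mem _ hb _, ?_⟩
    rw [map_mul, map_mul, map_inv, hba]; simp
  have hle : P1 ≤ P0 := fun a ha => pResidual_subtype_map_le H ha
  rcases hle.eq_or_lt with he | hlt
  · intro x hx
    exact (he ▸ (show (⟨x, hx.1⟩ : ↥(P : Subgroup G)) ∈ P0 from hx.2) :
      (⟨x, hx.1⟩ : ↥(P : Subgroup G)) ∈ P1)
  exfalso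
  obtain ⟨lam, hinv, hkill, a, ha⟩ := exists_invariant_character (p := p) P.2 hlt
  have hA : IsPGroup p (Multiplicative (ZMod p)) := IsPGroup.of_card (n := 1) (by simp)
  obtain ⟨θ, hθ⟩ := tate_extend P pResidual_pResidual (pResidual_sup_sylow P) hA lam hinv
  let R := Cfsg.pResidual p H
  let π : ↥(P : Subgroup G) →* H ⧸ R := (QuotientGroup.mk' R).comp (inclusion hPH)
  have hπ : Function.Surjective π := by
    rw [← MonoidHom.range_eq_top, MonoidHom.range_comp]
    have h2 : Cfsg.pResidual p H ⊔ (inclusion hPH).range = ⊤ := by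
      have := pResidual_sup_sylow (P.subtype hPH)
      rwa [Sylow.coe_subtype, ← inclusion_range hPH] at this
    have h3 := congrArg (map (QuotientGroup.mk' R)) h2
    rwa [Subgroup.map_sup, QuotientGroup.map_mk'_self, bot_sup_eq,
      map_top_of_surjective _ (QuotientGroup.mk'_surjective R)] at h3
  have hker : π.ker ≤ θ.ker := by
    intro b hb
    have hb' : inclusion hPH b ∈ R := (QuotientGroup.eq_one_iff _).mp hb
    have hb1 : b ∈ P1 := ⟨_, hb', rfl⟩
    exact (hθ ⟨b, hle hb1⟩).trans (hkill ⟨b, hle hb1⟩ hb1)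
  let Θ : H →* Multiplicative (ZMod p) :=
    (π.liftOfSurjective hπ ⟨θ, hker⟩).comp (QuotientGroup.mk' R)
  have hΘ : ∀ b : ↥(P : Subgroup G), Θ (inclusion hPH b) = θ b := fun b =>
    MonoidHom.liftOfRightInverse_comp_apply π _ (Function.rightInverse_surjInv hπ) ⟨θ, hker⟩ b
  have haG : ((a : ↥(P : Subgroup G)) : G) ∈ commutator G := by
    have h1 : ((a : ↥(P : Subgroup G)) : G) ∈ commutator G ⊓ (P : Subgroup G) := by
      rw [Subgroup.commutator_inf_eq_focalSubgroup,
        ← Subgroup.ker_transferFocal_inf_eq_focalSubgroup]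
      exact ⟨pResidual_le_ker _ (P.2.to_quotient _) a.2, (a : ↥(P : Subgroup G)).2⟩
    exact h1.1
  apply ha
  rw [← hθ, ← hΘ]
  exact h Θ _ (a : ↥(P : Subgroup G)).2 haG

/-- If `P ∩ G' ≠ P ∩ H'`, some homomorphism of `H` to a group of order `p` is non-trivial on
`P ∩ G'`. -/
theorem exists_character_of_ne (P : Sylow p G) {H : Subgroup G} (hPH : (P : Subgroup G) ≤ H)
    (h : (P : Subgroup G) ⊓ commutator G ≠ (P : Subgroup G) ⊓ ⁅H, H⁆) :
    ∃ (f : H →* Multiplicative (ZMod p)) (x : G) (hx : x ∈ (P : Subgroup G)),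
      x ∈ commutator G ∧ f ⟨x, hPH hx⟩ ≠ 1 := by
  by_contra hcon
  push Not at hcon
  apply h
  refine le_antisymm (le_inf inf_le_left ?_)
    (inf_le_inf_left _ (by rw [_root_.commutator_def]; exact commutator_mono le_top le_top))
  have hT := tate_of_characters P hPH hcon
  intro x hx
  -- `P ∩ G' = (P ∩ O^p(G)) P'`, and a `p`-element of `O^p(H)` lies in `H'`
  have hH' : ∀ y ∈ (P : Subgroup G), y ∈ (Cfsg.pResidual p H).map H.subtype → y ∈ ⁅H, H⁆ := by
    rintro _ hy ⟨y, hyR, rfl⟩
    rw [← map_subtype_commutator]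
    refine mem_map_of_mem _ ?_
    set π := (Abelianization.of : H →* Abelianization H)
    rw [← Abelianization.ker_of, MonoidHom.mem_ker]
    obtain ⟨k, hk⟩ := (IsPGroup.iff_orderOf.mp P.2) ⟨_, hy⟩
    rw [orderOf_mk, H.subtype_apply, Subgroup.orderOf_coe] at hk
    -- the image of `O^p(H)` in the abelian group `H / H'` has order prime to `p`
    obtain ⟨Q⟩ : Nonempty (Sylow p (Abelianization H)) := inferInstance
    set m := (Q : Subgroup (Abelianization H)).index with hm
    have hmp : ¬ p ∣ m := Q.not_dvd_index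
    have hle : IsPGroup p (powMonoidHom m : Abelianization H →* Abelianization H).range := by
      refine Q.2.to_le ?_
      rintro _ ⟨b, rfl⟩
      exact pow_index_mem _ b
    have h1 := pResidual_le_ker ((powMonoidHom m).comp π).rangeRestrict ?_ hyR
    · rw [MonoidHom.ker_rangeRestrict, MonoidHom.mem_ker, MonoidHom.comp_apply,
        powMonoidHom_apply] at h1
      have h2 : (π y) ^ p ^ k = 1 := by rw [← map_pow, ← hk, pow_orderOf_eq_one, map_one]
      have h3 : orderOf (π y) ∣ Nat.gcd m (p ^ k) :=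
        Nat.dvd_gcd (orderOf_dvd_of_pow_eq_one h1) (orderOf_dvd_of_pow_eq_one h2)
      rw [Nat.Coprime.gcd_eq_one (((hp.out.coprime_iff_not_dvd).mpr hmp).symm.pow_right k),
        Nat.dvd_one, orderOf_eq_one_iff] at h3
      exact h3
    · refine hle.to_le ?_
      rintro _ ⟨b, rfl⟩
      exact ⟨π b, rfl⟩
  -- split `x`
  set R := Cfsg.pResidual p G
  set Q := ⁅(P : Subgroup G), (P : Subgroup G)⁆
  have hcR : commutator G ≤ Q ⊔ R := by
    set π := QuotientGroup.mk' R
    have h4 : (P : Subgroup G).map π = ⊤ := by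
      have h3 := congrArg (map π) (pResidual_sup_sylow (p := p) P)
      rwa [Subgroup.map_sup, QuotientGroup.map_mk'_self, bot_sup_eq,
        map_top_of_surjective _ (QuotientGroup.mk'_surjective R)] at h3
    conv_rhs => rw [← QuotientGroup.ker_mk' R, ← comap_map_eq, map_commutator, h4]
    rw [← map_le_iff_le_comap, _root_.commutator_def, map_commutator,
      map_top_of_surjective π (QuotientGroup.mk'_surjective R)]
  have hx2 := hcR hx.2
  rw [← SetLike.mem_coe, mul_normal] at hx2
  obtain ⟨c, hc, r, hr, rfl⟩ := Set.mem_mul.mp hx2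
  have hcP : c ∈ (P : Subgroup G) := (commutator_le_self _) hc
  have hrP : r ∈ (P : Subgroup G) := ((P : Subgroup G).mul_mem_cancel_left hcP).mp hx.1
  exact mul_mem (commutator_mono hPH hPH hc) (hH' r hrP (hT ⟨hrP, hr⟩))

/-- The core of the Wielandt–Yoshida argument. -/
theorem exists_norm_ne_one (P : Sylow p G) {W : Subgroup G}
    (hW : Cfsg.IsWeaklyClosed W (P : Subgroup G))
    (h : (P : Subgroup G) ⊓ commutator G ≠
      (P : Subgroup G) ⊓ ⁅normalizer (W : Set G), normalizer (W : Set G)⁆) :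
    ∃ (T : Subgroup G) (M : Subgroup T) (hMn : M.Normal) (ν : M →* Multiplicative (ZMod p))
      (z w : T), T ≤ (P : Subgroup G) ∧ W ≤ T ∧ IsCoatom M ∧ (z : G) ∈ W ∧ z ∉ M ∧
      ∃ hw : w ∈ M, (∏ i ∈ Finset.range p,
        ν ⟨(z ^ i)⁻¹ * w * z ^ i, by
          simpa using hMn.conj_mem w hw (z ^ i)⁻¹⟩) ≠ 1 := by
  classical
  set N := normalizer (W : Set G) with hN
  have hPN : (P : Subgroup G) ≤ N := by
    intro s hs
    rw [hN, mem_normalizer_iff_map_conj_eq]
    refine hW.2 s ?_
    rintro _ ⟨x, hx, rfl⟩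
    exact mul_mem (mul_mem hs (hW.1 hx)) (inv_mem hs)
  obtain ⟨φ, hφ⟩ := exists_character_of_ne P hPN h
  -- choose the element of least order
  let Bad : ℕ → Prop := fun n => ∃ (x : G) (hx : x ∈ (P : Subgroup G)),
    x ∈ commutator G ∧ φ ⟨x, hPN hx⟩ ≠ 1 ∧ orderOf x = n
  have hex : ∃ n, Bad n := by
    obtain ⟨x, hx, hxG, hxφ⟩ := hφ
    exact ⟨_, x, hx, hxG, hxφ, rfl⟩
  obtain ⟨u, hu, huG, huφ, hun⟩ := Nat.find_spec hex
  have hmin : ∀ (x : G) (hx : x ∈ (P : Subgroup G)), x ∈ commutator G →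
      orderOf x < orderOf u → φ ⟨x, hPN hx⟩ = 1 := by
    intro x hx hxG hlt
    by_contra hne
    exact Nat.find_min hex (hun ▸ hlt) ⟨x, hx, hxG, hne, rfl⟩
  have hPp : IsPGroup p (P : Subgroup G) := P.2
  obtain ⟨e, he⟩ : ∃ e, orderOf u = p ^ e := by
    obtain ⟨e, he⟩ := IsPGroup.iff_orderOf.mp hPp ⟨u, hu⟩
    exact ⟨e, by rwa [orderOf_mk] at he⟩
  have hsmall : ∀ (t : G) (k : ℕ), 1 < k → k ∣ orderOf u → ∀ hv : t⁻¹ * u ^ k * t ∈ N,
      φ ⟨_, hv⟩ = 1 := by
    intro t k hk hkd hv
    set v : N := ⟨_, hv⟩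
    have hvo : orderOf (v : G) = orderOf (u ^ k) := by
      have : (v : G) = MulAut.conj t⁻¹ (u ^ k) := by simp [v]
      rw [this, MulEquiv.orderOf_eq]
    obtain ⟨i, hi⟩ : ∃ i, orderOf v = p ^ i := by
      obtain ⟨i, -, hi⟩ := (Nat.dvd_prime_pow hp.out).mp
        (he ▸ orderOf_pow_dvd (x := u) (n := k))
      exact ⟨i, by rw [← Subgroup.orderOf_coe, hvo, hi]⟩
    have hvp : IsPGroup p (zpowers v) :=
      IsPGroup.of_card (n := i) (by rw [Nat.card_zpowers, hi])
    obtain ⟨R, hR⟩ := hvp.exists_le_sylow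
    obtain ⟨n, hn⟩ := MulAction.exists_smul_eq N R (P.subtype hPN)
    have hmem : MulAut.conj n v ∈ ((P.subtype hPN : Sylow p N) : Subgroup N) := by
      rw [← hn, Sylow.coe_subgroup_smul]
      exact smul_mem_pointwise_smul _ _ _ (hR (mem_zpowers v))
    rw [Sylow.coe_subtype, mem_subgroupOf] at hmem
    have hG' : ((MulAut.conj n v : N) : G) ∈ commutator G := by
      have h1 : (v : G) ∈ commutator G := by
        have := (inferInstance : (commutator G).Normal).conj_mem _ (pow_mem huG k) t⁻¹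
        simpa [v] using this
      exact (inferInstance : (commutator G).Normal).conj_mem _ h1 _
    have hlt : orderOf ((MulAut.conj n v : N) : G) < orderOf u := by
      rw [Subgroup.orderOf_coe, MulEquiv.orderOf_eq, ← Subgroup.orderOf_coe, hvo,
        orderOf_pow_of_dvd (by omega) hkd]
      exact Nat.div_lt_self (orderOf_pos u) hk
    have := hmin _ hmem hG' hlt
    rwa [show (⟨((MulAut.conj n v : N) : G), hPN hmem⟩ : N) = MulAut.conj n v from rfl,
      MulAut.conj_apply, map_mul, map_mul, map_inv, mul_inv_cancel_comm] at this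
  haveI : Fintype (G ⧸ N) := Fintype.ofFinite _
  -- the transfer kills `u`
  let V : G →* Multiplicative (ZMod p) := MonoidHom.mk' (fun g => ∏ q, coc N φ g q)
    fun a b => prod_coc_mul φ _ fun q _ => Finset.mem_univ _
  have hV : ∏ q, coc N φ u q = 1 := Abelianization.commutator_subset_ker V huG
  set T := W ⊔ zpowers u with hT
  have hTP : T ≤ (P : Subgroup G) := sup_le hW.1 (zpowers_le.mpr hu)
  have hWT : W ≤ T := le_sup_left
  -- only the base coset is fixed by `W`
  set b : G ⧸ N := QuotientGroup.mk 1 with hb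
  have hWfix : ∀ q : G ⧸ N, (∀ x ∈ W, x • q = q) → q = b := by
    intro q hq
    obtain ⟨t, rfl⟩ := QuotientGroup.mk_surjective q
    have hmem : ∀ x ∈ W, t⁻¹ * x * t ∈ N := by
      intro x hx
      simpa [mul_assoc] using QuotientGroup.eq.mp (hq x hx).symm
    set X : Subgroup G := W.map (MulAut.conj t⁻¹).toMonoidHom
    have hXN : X ≤ N := by
      rintro _ ⟨x, hx, rfl⟩
      simpa using hmem x hx
    have hXp : IsPGroup p (X.subgroupOf N) :=
      IsPGroup.of_equiv ((hPp.to_le hW.1).map _) (subgroupOfEquivOfLe hXN).symm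
    obtain ⟨R, hR⟩ := hXp.exists_le_sylow
    obtain ⟨n, hn⟩ := MulAction.exists_smul_eq N R (P.subtype hPN)
    have h1 : W.map (MulAut.conj ((n : G) * t⁻¹)).toMonoidHom ≤ (P : Subgroup G) := by
      rintro _ ⟨x, hx, rfl⟩
      have h2 : MulAut.conj n ⟨_, hXN ⟨x, hx, rfl⟩⟩ ∈ ((P.subtype hPN : Sylow p N) : Subgroup N) := by
        rw [← hn, Sylow.coe_subgroup_smul]
        exact smul_mem_pointwise_smul _ _ _ (hR (mem_subgroupOf.mpr ⟨x, hx, rfl⟩))
      rw [Sylow.coe_subtype, mem_subgroupOf] at h2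
      simpa [mul_assoc] using h2
    have h3 : (n : G) * t⁻¹ ∈ N := by
      exact mem_normalizer_iff_map_conj_eq.mpr (hW.2 _ h1)
    rw [hb, QuotientGroup.eq]
    simpa using (mul_mem_cancel_left n.2).mp h3
  -- an orbit of `T` with non-trivial product
  let orb : G ⧸ N → Finset (G ⧸ N) := fun q => Finset.univ.filter fun x => x ∈ MulAction.orbit T q
  have horb : ∀ q x, x ∈ orb q ↔ x ∈ MulAction.orbit T q := fun q x => by simp [orb]
  have horbb : orb b = {b} := by
    ext x
    rw [horb, Finset.mem_singleton]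
    constructor
    · rintro ⟨⟨t, ht⟩, rfl⟩
      exact QuotientGroup.eq.mpr (by simpa using N.inv_mem (hPN (hTP ht)))
    · rintro rfl
      exact MulAction.mem_orbit_self _
  obtain ⟨q₀, hq₀, hne⟩ : ∃ q₀, q₀ ≠ b ∧ ∏ q ∈ orb q₀, coc N φ u q ≠ 1 := by
    by_contra hcon
    push Not at hcon
    have h1 : ∏ q ∈ Finset.univ.erase b, coc N φ u q = 1 := by
      rw [← Finset.prod_fiberwise_of_maps_to (t := (Finset.univ.erase b).image orb) (g := orb)
        (fun x hx => Finset.mem_image_of_mem _ hx)]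
      refine Finset.prod_eq_one fun O hO => ?_
      obtain ⟨q, hq, rfl⟩ := Finset.mem_image.mp hO
      rw [← hcon q (Finset.ne_of_mem_erase hq)]
      refine Finset.prod_congr ?_ fun _ _ => rfl
      ext x
      rw [Finset.mem_filter, Finset.mem_erase, horb]
      constructor
      · rintro ⟨-, hx⟩
        rw [← horb, ← hx, horb]
        exact MulAction.mem_orbit_self x
      · intro hx
        have horeq : orb x = orb q := by
          ext y; rw [horb, horb, MulAction.orbit_eq_iff.mpr hx]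
        refine ⟨⟨fun hxb => ?_, Finset.mem_univ _⟩, horeq⟩
        have : q ∈ orb b := by rw [← hxb, horeq, horb]; exact MulAction.mem_orbit_self q
        rw [horbb, Finset.mem_singleton] at this
        exact Finset.ne_of_mem_erase hq this
    rw [← Finset.mul_prod_erase _ _ (Finset.mem_univ b), h1, mul_one, hb,
      coc_base φ (hPN hu)] at hV
    exact huφ hV
  have horbinv : ∀ (t : G), t ∈ T → ∀ q ∈ orb q₀, t • q ∈ orb q₀ := by
    intro t ht q hq
    rw [horb] at hq ⊢
    obtain ⟨s, rfl⟩ := hq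
    exact ⟨⟨t, ht⟩ * s, mul_smul _ _ _⟩
  have huT : u ∈ T := mem_sup_right (mem_zpowers u)
  obtain ⟨q₁, hq₁, huq₁⟩ : ∃ q₁ ∈ orb q₀, u • q₁ = q₁ := by
    by_contra hcon
    push Not at hcon
    exact hne (prod_coc_eq_one φ hsmall _ (horbinv u huT) hcon)
  -- the maximal subgroup
  set D := MulAction.stabilizer T q₁
  have hq₁b : q₁ ≠ b := by
    intro heq
    have h1 := (horb _ _).mp hq₁
    have h2 : q₀ ∈ orb q₁ := (horb _ _).mpr (MulAction.mem_orbit_symm.mp h1)
    rw [heq, horbb, Finset.mem_singleton] at h2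
    exact hq₀ h2
  have hDtop : D ≠ ⊤ := by
    intro htop
    refine hq₁b (hWfix q₁ fun x hx => ?_)
    have : (⟨x, hWT hx⟩ : T) ∈ D := htop ▸ mem_top _
    exact this
  obtain ⟨M, hM, hDM⟩ := (eq_top_or_exists_le_coatom D).resolve_left hDtop
  have hTp : IsPGroup p T := hPp.to_le hTP
  haveI := hTp.isNilpotent
  have hMn : M.Normal :=
    NormalizerCondition.normal_of_coatom M Group.normalizerCondition_of_isNilpotent hM
  have huM : (⟨u, huT⟩ : T) ∈ M := hDM huq₁
  obtain ⟨z, hzW, hzM⟩ : ∃ z : T, (z : G) ∈ W ∧ z ∉ M := by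
    by_contra hcon
    push Not at hcon
    apply hM.1
    rw [eq_top_iff]
    rintro ⟨t, ht⟩ -
    have : T ≤ M.map T.subtype := sup_le (fun x hx => ⟨⟨x, hWT hx⟩, hcon _ hx, rfl⟩)
      (zpowers_le.mpr ⟨_, huM, rfl⟩)
    obtain ⟨y, hy, hye⟩ := this ht
    exact (Subtype.ext hye : y = ⟨t, ht⟩) ▸ hy
  have hcard := H31.card_quotient_coatom hTp hM
  have hzord : orderOf (QuotientGroup.mk' M z) = p := by
    have hd := orderOf_dvd_natCard (QuotientGroup.mk' M z)
    rw [hcard] at hd
    refine ((Nat.dvd_prime hp.out).mp hd).resolve_left fun h1 => hzM ?_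
    exact (QuotientGroup.eq_one_iff _).mp (orderOf_eq_one_iff.mp h1)
  have hzrep : ∀ t : T, ∃ i < p, (z ^ i)⁻¹ * t ∈ M := by
    intro t
    have h1 : QuotientGroup.mk' M t ∈ zpowers (QuotientGroup.mk' M z) := by
      rw [zpowers_eq_top_of_prime_card hcard]
      · exact mem_top _
      · intro h1; exact hzM ((QuotientGroup.eq_one_iff _).mp h1)
    rw [← mem_powers_iff_mem_zpowers, mem_powers_iff_mem_range_orderOf, hzord,
      Finset.mem_image] at h1
    obtain ⟨i, hi, hit⟩ := h1
    refine ⟨i, Finset.mem_range.mp hi, (QuotientGroup.eq_one_iff _).mp ?_⟩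
    show QuotientGroup.mk' M ((z ^ i)⁻¹ * t) = 1
    rw [map_mul, map_inv, map_pow, hit, inv_mul_cancel]
  let O₀ : Finset (G ⧸ N) := Finset.univ.filter fun x => x ∈ MulAction.orbit M q₁
  have hO₀inv : ∀ m : M, ∀ q ∈ O₀, ((m : T) : G) • q ∈ O₀ := by
    intro m q hq
    simp only [O₀, Finset.mem_filter, Finset.mem_univ, true_and] at hq ⊢
    obtain ⟨s, rfl⟩ := hq
    exact ⟨m * s, mul_smul m s q₁⟩
  let ν : M →* Multiplicative (ZMod p) :=
    MonoidHom.mk' (fun m => ∏ q ∈ O₀, coc N φ ((m : T) : G) q)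
      fun a c => prod_coc_mul φ O₀ (hO₀inv c)
  refine ⟨T, M, hMn, ν, z, ⟨u, huT⟩, hTP, hWT, hM, hzW, hzM, huM, ?_⟩
  -- the orbit is the disjoint union of the translates of `O₀`
  let O : ℕ → Finset (G ⧸ N) := fun i => O₀.image (((z ^ i : T) : G) • ·)
  have hdis : ∀ i ∈ Finset.range p, ∀ j ∈ Finset.range p, i ≠ j → Disjoint (O i) (O j) := by
    intro i hi j hj hij
    rw [Finset.disjoint_left]
    intro x hxi hxj
    obtain ⟨a, ha, rfl⟩ := Finset.mem_image.mp hxi
    obtain ⟨c, hc, hce⟩ := Finset.mem_image.mp hxj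
    simp only [O₀, Finset.mem_filter, Finset.mem_univ, true_and] at ha hc
    obtain ⟨m, rfl⟩ := ha
    obtain ⟨m', rfl⟩ := hc
    have h1 : ((z ^ i * (m : T))⁻¹ * (z ^ j * (m' : T))) ∈ D := by
      show ((z ^ i * (m : T))⁻¹ * (z ^ j * (m' : T))) • q₁ = q₁
      rw [mul_smul, inv_smul_eq_iff, mul_smul, mul_smul]
      exact hce
    have h2 : QuotientGroup.mk' M ((z ^ i * (m : T))⁻¹ * (z ^ j * (m' : T))) = 1 :=
      (QuotientGroup.eq_one_iff _).mpr (hDM h1)
    simp only [map_mul, map_inv, map_pow, show ∀ y : M, QuotientGroup.mk' M (y : T) = 1 from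
      fun y => (QuotientGroup.eq_one_iff _).mpr y.2, mul_one, inv_mul_eq_one] at h2
    exact hij (pow_injOn_Iio_orderOf (x := QuotientGroup.mk' M z)
      (Set.mem_Iio.mpr (hzord.symm ▸ Finset.mem_range.mp hi))
      (Set.mem_Iio.mpr (hzord.symm ▸ Finset.mem_range.mp hj)) h2)
  have hcover : orb q₀ = (Finset.range p).biUnion O := by
    ext x
    rw [horb, Finset.mem_biUnion, ← MulAction.orbit_eq_iff.mpr ((horb _ _).mp hq₁)]
    constructor
    · rintro ⟨t, rfl⟩
      obtain ⟨i, hi, him⟩ := hzrep t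
      refine ⟨i, Finset.mem_range.mpr hi, Finset.mem_image.mpr
        ⟨(⟨_, him⟩ : M) • q₁, Finset.mem_filter.mpr ⟨Finset.mem_univ _,
          MulAction.mem_orbit q₁ (⟨_, him⟩ : M)⟩, ?_⟩⟩
      show (z ^ i) • ((z ^ i)⁻¹ * t) • q₁ = t • q₁
      rw [← mul_smul, mul_inv_cancel_left]
    · rintro ⟨i, -, hx⟩
      obtain ⟨a, ha, rfl⟩ := Finset.mem_image.mp hx
      simp only [O₀, Finset.mem_filter, Finset.mem_univ, true_and] at ha
      obtain ⟨m, rfl⟩ := ha
      exact ⟨z ^ i * (m : T), mul_smul _ _ _⟩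
  rw [hcover, Finset.prod_biUnion hdis] at hne
  convert hne using 1
  refine Finset.prod_congr rfl fun i _ => ?_
  rw [Finset.prod_image fun a _ c _ => (MulAction.injective _ ·)]
  set g : G := ((z ^ i : T) : G) with hg
  set m : M := ⟨(z ^ i)⁻¹ * ⟨u, huT⟩ * z ^ i, by
    simpa using hMn.conj_mem _ huM (z ^ i)⁻¹⟩ with hm
  have hcomm : g * ((m : T) : G) = u * g := by simp [hg, hm, mul_assoc]
  have hmO := hO₀inv m
  have key : ∀ q, coc N φ g (((m : T) : G) • q) * coc N φ ((m : T) : G) q =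
      coc N φ u (g • q) * coc N φ g q := fun q => by rw [← coc_mul, ← coc_mul, hcomm]
  show ∏ q ∈ O₀, coc N φ ((m : T) : G) q = _
  have hall : (∏ q ∈ O₀, coc N φ g q) * ∏ q ∈ O₀, coc N φ ((m : T) : G) q =
      (∏ q ∈ O₀, coc N φ u (g • q)) * ∏ q ∈ O₀, coc N φ g q := by
    rw [← prod_coc_mul φ O₀ hmO, ← Finset.prod_mul_distrib]
    exact Finset.prod_congr rfl fun q _ => by rw [coc_mul, key]
  rw [mul_comm] at hall
  exact mul_right_cancel hall

end H5
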